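import Cfsg.Agent.J4Type.Eleven.LocalCent
import Cfsg.Agent.S3304
import Cfsg.Agent.S0144

/-!
# `GL₂(3)` in the normalizer of an element of order eleven

`C(z) ⊓ N(⟨r⟩)` has order `2640`. It has an involution inverting `r`, and with the quaternion subgroup and
an element of order three this gives a complement of `⟨r⟩` of order `48` isomorphic to `GL₂(3)`.
-/

set_option autoImplicit false

open Subgroup

namespace Cfsg.Agent.J4Type.Eleven

open LargePrime (Facts bigList ordJ)

variable {G : Type*} [Group G] [Finite G] {z r : G}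

omit [Finite G] in
theorem conj_mem_of_normalizes {S : Subgroup G} {g s : G} (hg : g ∈ normalizer (S : Set G)) (hs : s ∈ S) :
    g * s * g⁻¹ ∈ S :=
  (mem_normalizer_iff.1 hg s).1 hs

/-- A Sylow 11-subgroup normal in `C(r)` is normalized by `N(⟨r⟩)`. -/
theorem normalizer_le_normalizer {U : Subgroup G} (hU : Nat.card U = 1331)
    (hUC : U ≤ centralizer ({r} : Set G)) (hnorm : centralizer ({r} : Set G) ≤ normalizer (U : Set G))
    (hC : Nat.card (centralizer ({r} : Set G)) = 31944) :
    normalizer (zpowers r : Set G) ≤ normalizer (U : Set G) := by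
  intro g hg
  refine mem_normalizer_fintype (S := (U : Set G)) fun u hu => ?_
  set C := centralizer ({r} : Set G)
  have hgu : g * u * g⁻¹ ∈ C := by
    obtain ⟨i, hi⟩ := mem_zpowers_iff.1 (conj_mem_of_normalizes (inv_mem hg) (mem_zpowers r))
    have hr : r = (g * r * g⁻¹) ^ i := by rw [conj_zpow, hi]; group
    refine mem_centralizer_singleton_iff.2 ?_
    rw [hr]
    exact (((show Commute u r from mem_centralizer_singleton_iff.1 (hUC hu)).map
      (MulAut.conj g).toMonoidHom).zpow_right i).eq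
  have hUn : (U.subgroupOf C).Normal := (normal_subgroupOf_iff_le_normalizer hUC).2 hnorm
  have hidx : (U.subgroupOf C).index = 24 := by
    have h := (U.subgroupOf C).card_mul_index
    rw [Nat.card_congr (subgroupOfEquivOfLe hUC).toEquiv, hU, hC] at h
    omega
  have h24 : (g * u * g⁻¹) ^ 24 ∈ U := by
    have h := pow_index_mem (U.subgroupOf C) (⟨_, hgu⟩ : C)
    rw [hidx] at h
    exact h
  have hord : (g * u * g⁻¹) ^ 1331 = 1 := by
    have h := pow_card_eq_one' (x := (⟨u, hu⟩ : U))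
    rw [hU] at h
    have h' : u ^ 1331 = 1 := congrArg Subtype.val h
    rw [conj_pow, h', mul_one, mul_inv_cancel]
  have e : g * u * g⁻¹ = ((g * u * g⁻¹) ^ 24) ^ 721 := by
    rw [← pow_mul, show 24 * 721 = 1331 * 13 + 1 by norm_num, pow_succ, pow_mul, hord, one_pow, one_mul]
  rw [e]
  exact pow_mem h24 _

/-- The subgroup `C(z) ⊓ N(⟨r⟩)`. -/
abbrev cNorm (z r : G) : Subgroup G :=
  centralizer ({z} : Set G) ⊓ normalizer (zpowers r : Set G)

omit [Finite G] in
theorem cent_le_cNorm : centralizer ({z} : Set G) ⊓ centralizer ({r} : Set G) ≤ cNorm z r :=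
  inf_le_inf le_rfl (by
    refine le_trans ?_ (Subgroup.centralizer_le_normalizer _)
    rw [zpowers_eq_closure, centralizer_closure])

/-- An element of order 3 of `C(z) ⊓ N(⟨r⟩)` centralizes `r`. -/
theorem commute_r_of_three (L : Local11 G z r) {g : G} (hg : g ∈ cNorm z r) (h3 : orderOf g = 3) :
    Commute g r :=
  LargePrime.commute_of_normalizes_zpowers hg.2
    (by rw [h3, L.r_order, Nat.totient_prime (by norm_num)]; norm_num)

/-- No two independent elements of order dividing 11 commute with an element of order 2 or 3. -/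
theorem not_121_small (L : Local11 G z r) {g : G} (hg : orderOf g = 2 ∨ orderOf g = 3) :
    ¬ 121 ∣ Nat.card (centralizer ({g} : Set G)) := by
  intro h
  rcases hg with hg | hg
  · rcases L.facts.invol g hg with hc | hc <;> rw [hc] at h <;> norm_num at h
  · have := h.trans (L.facts.three g hg)
    norm_num at this

/-- The set of elements of `U` moved by `e` within their coset of `⟨r⟩` has order `121`. -/
theorem fixed_cosets (L : Local11 G z r) {U : Subgroup G} (hU : Nat.card U = 1331)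
    (hUC : U ≤ centralizer ({r} : Set G)) (hrU : r ∈ U) (hUz : U ⊓ centralizer ({z} : Set G) = zpowers r)
    (hMU : cNorm z r ≤ normalizer (U : Set G)) {e : G} (hee : e * e = 1) (heM : e ∈ cNorm z r)
    (her : e * r * e⁻¹ = r⁻¹) :
    ∃ F : Subgroup G, F ≤ U ∧ zpowers r ≤ F ∧ Nat.card F = 121 ∧
      ∀ g ∈ cNorm z r, Commute e g → g ∈ normalizer (F : Set G) := by
  classical
  have := Fact.mk (show Nat.Prime 11 by norm_num)
  set R := zpowers r with hR
  have hrc : ∀ a ∈ R, ∀ u ∈ U, Commute a u := by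
    intro a ha u hu
    obtain ⟨i, rfl⟩ := mem_zpowers_iff.1 ha
    exact ((show Commute u r from mem_centralizer_singleton_iff.1 (hUC hu)).symm).zpow_left i
  have hr1 : r ≠ 1 := fun h => by have := L.r_order; rw [h, orderOf_one] at this; norm_num at this
  let F : Subgroup G :=
    { carrier := {u | u ∈ U ∧ e * u * e⁻¹ * u⁻¹ ∈ R}
      one_mem' := ⟨one_mem U, by simp⟩
      mul_mem' := fun {a b} ha hb => ⟨mul_mem ha.1 hb.1, by
        have h := (hrc _ hb.2 _ (inv_mem ha.1)).eq
        have e1 : e * (a * b) * e⁻¹ * (a * b)⁻¹ =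
            e * a * e⁻¹ * ((e * b * e⁻¹ * b⁻¹) * a⁻¹) := by group
        rw [e1, h, ← mul_assoc]
        exact mul_mem ha.2 hb.2⟩
      inv_mem' := fun {a} ha => ⟨inv_mem ha.1, by
        have h := (hrc _ (inv_mem ha.2) _ (inv_mem ha.1)).eq
        have e1 : e * a⁻¹ * e⁻¹ * a⁻¹⁻¹ = a⁻¹ * (e * a * e⁻¹ * a⁻¹)⁻¹ * a := by group
        rw [e1, ← h, inv_mul_cancel_right]
        exact inv_mem ha.2⟩ }
  have hFU : F ≤ U := fun u hu => hu.1
  have hRF : R ≤ F := by
    rw [hR, zpowers_le]
    refine ⟨hrU, ?_⟩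
    rw [her]
    exact mul_mem (inv_mem (mem_zpowers r)) (inv_mem (mem_zpowers r))
  have hnorm : ∀ g ∈ cNorm z r, Commute e g → g ∈ normalizer (F : Set G) := by
    intro g hg hc
    refine mem_normalizer_fintype (S := (F : Set G)) fun u hu => ⟨conj_mem_of_normalizes (hMU hg) hu.1, ?_⟩
    have e1 : e * (g * u * g⁻¹) * e⁻¹ * (g * u * g⁻¹)⁻¹ = g * (e * u * e⁻¹ * u⁻¹) * g⁻¹ := by
      calc e * (g * u * g⁻¹) * e⁻¹ * (g * u * g⁻¹)⁻¹
          = (e * g) * u * (e * g)⁻¹ * (g * u⁻¹ * g⁻¹) := by group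
        _ = _ := by rw [hc.eq]; group
    rw [e1]
    exact conj_mem_of_normalizes hg.2 hu.2
  refine ⟨F, hFU, hRF, ?_, hnorm⟩
  have hei : e⁻¹ = e := inv_eq_of_mul_eq_one_right hee
  have he2 : orderOf e = 2 := orderOf_eq_prime (by rw [sq, hee]) (fun h => by
    rw [h, one_mul, inv_one, mul_one] at her
    have := L.r_order
    rw [← orderOf_inv] at this
    have h2 : r * r = 1 := by nth_rewrite 2 [her]; exact mul_inv_cancel r
    have h3 : orderOf r ∣ 2 := orderOf_dvd_of_pow_eq_one (by rw [sq, h2])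
    rw [L.r_order] at h3; norm_num at h3)
  have hd : Nat.card F ∣ 11 ^ 3 := by
    rw [show (11 : ℕ) ^ 3 = 1331 by norm_num, ← hU]; exact card_dvd_of_le hFU
  obtain ⟨i, hi, hFi⟩ := (Nat.dvd_prime_pow (show Nat.Prime 11 by norm_num)).1 hd
  have hRc : Nat.card R = 11 := by rw [hR, Nat.card_zpowers, L.r_order]
  -- all of `U` is impossible
  have hnot3 : i ≠ 3 := by
    intro h3
    have hFtop : F = U := eq_of_le_of_card_ge hFU (by rw [hFi, h3, hU]; norm_num)
    have hfix : ∀ u ∈ U, ∃ a ∈ R, Commute e (a * u) := by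
      intro u hu
      obtain ⟨k, hk⟩ := mem_zpowers_iff.1 ((hFtop.ge hu : u ∈ F).2)
      have heu : e * u * e⁻¹ = r ^ k * u := by rw [hk]; group
      have her6 : ∀ m : ℤ, e * r ^ m * e⁻¹ = r ^ (-m) := fun m => by
        rw [← conj_zpow, her, inv_zpow, zpow_neg]
      refine ⟨r ^ (6 * k), zpow_mem (mem_zpowers r) _, ?_⟩
      have h11 : r ^ (11 * k) = 1 := by
        rw [zpow_mul, show ((11 : ℤ)) = ((orderOf r : ℕ) : ℤ) by rw [L.r_order]; rfl, zpow_natCast,
          pow_orderOf_eq_one, one_zpow]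
      have : e * (r ^ (6 * k) * u) * e⁻¹ = r ^ (6 * k) * u := by
        calc e * (r ^ (6 * k) * u) * e⁻¹ = (e * r ^ (6 * k) * e⁻¹) * (e * u * e⁻¹) := by group
          _ = r ^ (-(6 * k)) * (r ^ k * u) := by rw [her6, heu]
          _ = r ^ (-(6 * k)) * r ^ k * r ^ (11 * k) * u := by rw [h11]; group
          _ = r ^ (6 * k) * u := by group
      exact mul_inv_eq_iff_eq_mul.1 this
    let f : ↥(U ⊓ centralizer ({e} : Set G)) × R → U := fun a =>
      ⟨(a.2 : G) * (a.1 : G), mul_mem ((zpowers_le.2 hrU) a.2.2) a.1.2.1⟩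
    have hsurj : Function.Surjective f := by
      intro u
      obtain ⟨a, ha, hc⟩ := hfix u u.2
      refine ⟨(⟨a * u, mul_mem ((zpowers_le.2 hrU) ha) u.2, mem_centralizer_singleton_iff.2 hc.symm.eq⟩,
        ⟨a⁻¹, inv_mem ha⟩), Subtype.ext ?_⟩
      exact inv_mul_cancel_left a u
    have hle := Nat.card_le_card_of_surjective f hsurj
    rw [hU, Nat.card_prod, hRc] at hle
    have hX : Nat.card ↥(U ⊓ centralizer ({e} : Set G)) ∣ 11 ^ 3 := by
      rw [show (11 : ℕ) ^ 3 = 1331 by norm_num, ← hU]; exact card_dvd_of_le inf_le_left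
    obtain ⟨j, hj, hXj⟩ := (Nat.dvd_prime_pow (show Nat.Prime 11 by norm_num)).1 hX
    refine not_121_small L (Or.inl he2) (Dvd.dvd.trans ?_ (card_dvd_of_le inf_le_right :
      Nat.card ↥(U ⊓ centralizer ({e} : Set G)) ∣ _))
    rw [hXj] at hle ⊢
    have hj2 : 2 ≤ j := by
      by_contra hlt
      have := Nat.pow_le_pow_right (show 0 < 11 by norm_num) (show j ≤ 1 by omega)
      omega
    exact (show (121 : ℕ) = 11 ^ 2 by norm_num) ▸ pow_dvd_pow 11 hj2
  have hge : 1 ≤ i := by
    by_contra h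
    have h0 : i = 0 := by omega
    have := card_le_of_le hRF
    rw [hRc, hFi, h0] at this
    norm_num at this
  -- only `⟨r⟩` is impossible
  have hnot1 : i ≠ 1 := by
    intro h1
    have hFR : F = R := (eq_of_le_of_card_ge hRF (by rw [hFi, h1, hRc]; norm_num)).symm
    -- `U / ⟨r⟩` has order `121`, so `e` inverts it, and so does `z`
    have hRn : (R.subgroupOf U).Normal := ⟨fun a ha u => by
      show (u : G) * (a : G) * (u : G)⁻¹ ∈ R
      rw [← (hrc (a : G) ha (u : G) u.2).eq, mul_inv_cancel_right]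
      exact ha⟩
    have hQ121 : Nat.card (U ⧸ R.subgroupOf U) = 11 ^ 2 := by
      have h := (R.subgroupOf U).card_mul_index
      rw [Nat.card_congr (subgroupOfEquivOfLe (zpowers_le.2 hrU)).toEquiv, hRc, hU] at h
      rw [← index_eq_card]
      norm_num
      omega
    have hab : ∀ a ∈ U, ∀ b ∈ U, a * b * a⁻¹ * b⁻¹ ∈ R := by
      intro a ha b hb
      have h := IsPGroup.commutative_of_card_eq_prime_sq hQ121
        (QuotientGroup.mk' (R.subgroupOf U) ⟨a, ha⟩) (QuotientGroup.mk' (R.subgroupOf U) ⟨b, hb⟩)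
      have h2 : QuotientGroup.mk' (R.subgroupOf U)
          ((⟨a, ha⟩ : U) * ⟨b, hb⟩ * ⟨a, ha⟩⁻¹ * ⟨b, hb⟩⁻¹) = 1 := by
        simp only [map_mul, map_inv]
        rw [h]; group
      exact (QuotientGroup.eq_one_iff (N := R.subgroupOf U) _).1 h2
    have hinvol : ∀ d ∈ cNorm z r, d * d = 1 → (∀ u ∈ U, d * u * d⁻¹ * u⁻¹ ∈ R → u ∈ R) →
        ∀ u ∈ U, d * u * d⁻¹ * u ∈ R := by
      intro d hd hdd hfree u hu
      have hw : d * u * d⁻¹ ∈ U := conj_mem_of_normalizes (hMU hd) hu
      refine hfree _ (mul_mem hw hu) ?_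
      have hdi : d⁻¹ = d := inv_eq_of_mul_eq_one_right hdd
      have e1 : d * (d * u * d⁻¹ * u) * d⁻¹ = u * (d * u * d⁻¹) := by
        calc d * (d * u * d⁻¹ * u) * d⁻¹ = (d * d) * u * (d⁻¹ * (u * d⁻¹)) := by group
          _ = u * (d * u * d⁻¹) := by rw [hdd, hdi]; group
      rw [e1, mul_inv_rev, ← mul_assoc]
      exact hab _ hu _ hw
    have he_inv := hinvol e heM hee fun u hu h => hFR.le ⟨hu, h⟩
    have hzM : z ∈ cNorm z r := cent_le_cNorm L.z_mem
    have hzz := L.zz
    have hzi : z⁻¹ = z := inv_eq_of_mul_eq_one_right hzz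
    have hz_inv := hinvol z hzM hzz fun u hu h => by
      obtain ⟨k, hk⟩ := mem_zpowers_iff.1 h
      have h1 : z * u * z⁻¹ = r ^ k * u := by rw [hk]; group
      have hzk : z * r ^ k * z⁻¹ = r ^ k := by rw [(L.comm.zpow_right k).eq, mul_inv_cancel_right]
      have h2 : r ^ k * r ^ k = 1 := by
        have h3 : u = r ^ k * (r ^ k * u) := by
          calc u = z * (z * u * z⁻¹) * z⁻¹ := by
                rw [hzi, show z * (z * u * z) * z = (z * z) * u * (z * z) by group, hzz, one_mul, mul_one]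
            _ = z * r ^ k * z⁻¹ * (z * u * z⁻¹) := by conv_lhs => rw [h1]
                                                      group
            _ = r ^ k * (r ^ k * u) := by rw [hzk, h1]
        exact mul_eq_right.1 ((mul_assoc _ _ _).trans h3.symm)
      have h4 : r ^ k = 1 := by
        have hd1 : orderOf (r ^ k) ∣ 2 := orderOf_dvd_of_pow_eq_one (by rw [sq, h2])
        have hd2 : orderOf (r ^ k) ∣ 11 := L.r_order ▸ orderOf_dvd_of_mem_zpowers (zpow_mem (mem_zpowers r) k)
        exact orderOf_eq_one_iff.1 (Nat.eq_one_of_dvd_coprimes (by norm_num : Nat.Coprime 2 11) hd1 hd2)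
      rw [h4, one_mul, mul_inv_eq_iff_eq_mul] at h1
      rw [← hUz]
      exact ⟨hu, mem_centralizer_singleton_iff.2 h1.symm⟩
    -- `e z` then fixes every coset
    have hfix : ∀ u ∈ U, e * z * u * (e * z)⁻¹ * u⁻¹ ∈ R := by
      intro u hu
      set w := z * u * z⁻¹ with hw
      have hwU : w ∈ U := conj_mem_of_normalizes (hMU hzM) hu
      have h1 : e * z * u * (e * z)⁻¹ * u⁻¹ = (e * w * e⁻¹ * w) * (u * w)⁻¹ := by rw [hw]; group
      rw [h1]
      refine mul_mem (he_inv w hwU) (inv_mem ?_)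
      have h2 := hz_inv u hu
      have h3 : u * w = u * (w * u) * u⁻¹ := by group
      rw [h3, ← (hrc _ h2 _ hu).eq, mul_inv_cancel_right]
      exact h2
    -- so `C_U(e z)` is too large
    have hez : e * z * (e * z) = 1 := by
      have hc : Commute e z := mem_centralizer_singleton_iff.1 heM.1
      rw [hc.symm.mul_mul_mul_comm, hee, hzz, one_mul]
    set d := e * z with hd
    have hdr : d * r * d⁻¹ = r⁻¹ := by
      rw [hd]
      calc e * z * r * (e * z)⁻¹ = e * (z * r * z⁻¹) * e⁻¹ := by group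
        _ = r⁻¹ := by rw [L.comm.eq, mul_inv_cancel_right, her]
    have hd2 : orderOf d = 2 := orderOf_eq_prime (by rw [sq, hez]) (fun h => by
      rw [h, one_mul, inv_one, mul_one] at hdr
      have h2 : r * r = 1 := by nth_rewrite 2 [hdr]; exact mul_inv_cancel r
      have h3 : orderOf r ∣ 2 := orderOf_dvd_of_pow_eq_one (by rw [sq, h2])
      rw [L.r_order] at h3; norm_num at h3)
    have hfix' : ∀ u ∈ U, ∃ a ∈ R, Commute d (a * u) := by
      intro u hu
      obtain ⟨k, hk⟩ := mem_zpowers_iff.1 (hfix u hu)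
      have heu : d * u * d⁻¹ = r ^ k * u := by rw [hk, hd]; group
      have her6 : ∀ m : ℤ, d * r ^ m * d⁻¹ = r ^ (-m) := fun m => by
        rw [← conj_zpow, hdr, inv_zpow, zpow_neg]
      refine ⟨r ^ (6 * k), zpow_mem (mem_zpowers r) _, ?_⟩
      have h11 : r ^ (11 * k) = 1 := by
        rw [zpow_mul, show ((11 : ℤ)) = ((orderOf r : ℕ) : ℤ) by rw [L.r_order]; rfl, zpow_natCast,
          pow_orderOf_eq_one, one_zpow]
      have : d * (r ^ (6 * k) * u) * d⁻¹ = r ^ (6 * k) * u := by
        calc d * (r ^ (6 * k) * u) * d⁻¹ = (d * r ^ (6 * k) * d⁻¹) * (d * u * d⁻¹) := by group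
          _ = r ^ (-(6 * k)) * (r ^ k * u) := by rw [her6, heu]
          _ = r ^ (-(6 * k)) * r ^ k * r ^ (11 * k) * u := by rw [h11]; group
          _ = r ^ (6 * k) * u := by group
      exact mul_inv_eq_iff_eq_mul.1 this
    let f : ↥(U ⊓ centralizer ({d} : Set G)) × R → U := fun a =>
      ⟨(a.2 : G) * (a.1 : G), mul_mem ((zpowers_le.2 hrU) a.2.2) a.1.2.1⟩
    have hsurj : Function.Surjective f := by
      intro u
      obtain ⟨a, ha, hc⟩ := hfix' u u.2
      refine ⟨(⟨a * u, mul_mem ((zpowers_le.2 hrU) ha) u.2, mem_centralizer_singleton_iff.2 hc.symm.eq⟩,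
        ⟨a⁻¹, inv_mem ha⟩), Subtype.ext ?_⟩
      exact inv_mul_cancel_left a u
    have hle := Nat.card_le_card_of_surjective f hsurj
    rw [hU, Nat.card_prod, hRc] at hle
    have hX : Nat.card ↥(U ⊓ centralizer ({d} : Set G)) ∣ 11 ^ 3 := by
      rw [show (11 : ℕ) ^ 3 = 1331 by norm_num, ← hU]; exact card_dvd_of_le inf_le_left
    obtain ⟨j, hj, hXj⟩ := (Nat.dvd_prime_pow (show Nat.Prime 11 by norm_num)).1 hX
    refine not_121_small L (Or.inl hd2) (Dvd.dvd.trans ?_ (card_dvd_of_le inf_le_right :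
      Nat.card ↥(U ⊓ centralizer ({d} : Set G)) ∣ _))
    rw [hXj] at hle ⊢
    have hj2 : 2 ≤ j := by
      by_contra hlt
      have := Nat.pow_le_pow_right (show 0 < 11 by norm_num) (show j ≤ 1 by omega)
      omega
    exact (show (121 : ℕ) = 11 ^ 2 by norm_num) ▸ pow_dvd_pow 11 hj2
  rw [hFi, show i = 2 by omega]
  norm_num

omit [Finite G] in
theorem exists_ne_one' {V : Subgroup G} (h : Nat.card V = 11) : ∃ v ∈ V, v ≠ 1 := by
  by_contra hne
  push Not at hne
  rw [show V = ⊥ from (eq_bot_iff_forall V).2 hne, card_bot] at h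
  norm_num at h

/-- An involution of `C(z) ⊓ N(⟨r⟩)` inverting `r` commutes with no element of order 3 there and with no
element there of square `z`. -/
theorem not_commute_inverting (L : Local11 G z r) {U : Subgroup G} (hU : Nat.card U = 1331)
    (hUC : U ≤ centralizer ({r} : Set G)) (hrU : r ∈ U) (hUz : U ⊓ centralizer ({z} : Set G) = zpowers r)
    (hMU : cNorm z r ≤ normalizer (U : Set G)) {e g : G} (hee : e * e = 1) (heM : e ∈ cNorm z r)
    (her : e * r * e⁻¹ = r⁻¹) (hg : g ∈ cNorm z r) (hg' : orderOf g = 3 ∨ g * g = z) :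
    ¬ Commute e g := by
  intro hc
  have := Fact.mk (show Nat.Prime 11 by norm_num)
  have := Fact.mk (show Nat.Prime 3 by norm_num)
  obtain ⟨F, hFU, hRF, hFc, hFn⟩ := fixed_cosets L hU hUC hrU hUz hMU hee heM her
  have hgF : g ∈ normalizer (F : Set G) := hFn g hg hc
  rcases hg' with h3 | hgz
  · -- `g` centralizes `F`
    have hgr := commute_r_of_three L hg h3
    have hFc2 : Nat.card F = 11 ^ 2 := by rw [hFc]; norm_num
    have hfix : ∀ u ∈ F, Commute g u := by
      by_contra hne
      push Not at hne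
      obtain ⟨u, hu, hgu⟩ := hne
      have hle : zpowers g ≤ (normalizer (F : Set G) : Subgroup G) := zpowers_le.2 hgF
      let φ : ↥(zpowers g) →* MulAut ↥F := F.normalizerMonoidHom.comp (inclusion hle)
      letI : MulAction ↥(zpowers g) ↥F := MulAction.compHom ↥F φ
      have hsmul : ∀ (a : ↥(zpowers g)) (s : ↥F), ((a • s : ↥F) : G) = (a : G) * s * (a : G)⁻¹ :=
        fun a s => rfl
      have hp : IsPGroup 3 ↥(zpowers g) := IsPGroup.of_card (n := 1) (by rw [Nat.card_zpowers, h3, pow_one])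
      have hmod := hp.card_modEq_card_fixedPoints ↥F
      let C : Subgroup ↥F := (centralizer ({g} : Set G)).subgroupOf F
      have hset : ∀ s : ↥F, s ∈ MulAction.fixedPoints ↥(zpowers g) ↥F ↔ s ∈ C := by
        intro s
        rw [mem_subgroupOf, mem_centralizer_singleton_iff]
        refine ⟨fun h => ?_, fun h a => Subtype.ext ?_⟩
        · have h1 := congrArg Subtype.val (h ⟨g, mem_zpowers g⟩)
          rw [hsmul] at h1
          exact (mul_inv_eq_iff_eq_mul.1 h1).symm
        · obtain ⟨a, k, rfl⟩ := a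
          rw [hsmul]
          exact mul_inv_eq_iff_eq_mul.2 ((show Commute (s : G) g from h).symm.zpow_left k).eq
      rw [Nat.card_congr (Equiv.subtypeEquivRight hset), hFc2] at hmod
      obtain ⟨k, hk, hCk⟩ := (Nat.dvd_prime_pow (show Nat.Prime 11 by norm_num)).1
        (hFc2 ▸ C.card_subgroup_dvd_card)
      have hk2 : k ≠ 2 := fun h => by
        have hCtop : C = ⊤ := eq_top_of_card_eq _ (by rw [hCk, h, hFc2])
        have := (hCtop.ge (mem_top (⟨u, hu⟩ : ↥F)) : _)
        rw [mem_subgroupOf, mem_centralizer_singleton_iff] at this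
        exact hgu this.symm
      have hk0 : k ≠ 0 := fun h => by
        have hrC : (⟨r, hRF (mem_zpowers r)⟩ : ↥F) ∈ C := by
          rw [mem_subgroupOf, mem_centralizer_singleton_iff]; exact hgr.symm.eq
        rw [h, pow_zero, card_eq_one] at hCk
        rw [hCk, mem_bot] at hrC
        have h1 : r = 1 := congrArg Subtype.val hrC
        have := L.r_order
        rw [h1, orderOf_one] at this
        norm_num at this
      change 11 ^ 2 % 3 = Nat.card C % 3 at hmod
      rw [hCk, show k = 1 by omega] at hmod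
      norm_num at hmod
    refine not_121_small L (Or.inr h3) (hFc ▸ card_dvd_of_le fun u hu => ?_)
    exact mem_centralizer_singleton_iff.2 (hfix u hu).symm.eq
  · -- the part of `F` inverted by `z` is cyclic of order 11
    have hab : ∀ a ∈ F, ∀ b ∈ F, a * b = b * a := fun a ha b hb => congrArg Subtype.val
      (IsPGroup.commutative_of_card_eq_prime_sq (p := 11) (G := ↥F) (by rw [hFc]; norm_num) ⟨a, ha⟩ ⟨b, hb⟩)
    have hzM : z ∈ cNorm z r := cent_le_cNorm L.z_mem
    have hzF : z ∈ normalizer (F : Set G) :=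
      hFn z hzM (mem_centralizer_singleton_iff.1 heM.1)
    obtain ⟨V, hVF, hVi, hVc, hVn, -⟩ := exists_inverted hab (by rw [hFc]; decide) L.zz hzF
    have hFz : F ⊓ centralizer ({z} : Set G) = zpowers r :=
      le_antisymm (le_trans (inf_le_inf hFU le_rfl) hUz.le)
        (le_inf hRF (zpowers_le.2 (mem_centralizer_singleton_iff.2 L.comm.symm.eq)))
    rw [hFz, Nat.card_zpowers, L.r_order, hFc] at hVc
    have hV11 : Nat.card V = 11 := by omega
    have : IsCyclic V := isCyclic_of_prime_card hV11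
    have hgV : g ∈ normalizer (V : Set G) := hVn g hgF ⟨1, one_mem F, by
      rw [mul_one, mem_centralizer_singleton_iff.1 hg.1, mul_inv_cancel_right]⟩
    let φ := V.normalizerMonoidHom
    have h4 : (⟨g, hgV⟩ : ↥(normalizer (V : Set G))) ^ 4 = 1 := by
      apply Subtype.ext
      show g ^ 4 = 1
      rw [show 4 = 2 + 2 by rfl, pow_add, sq, hgz, L.zz]
    have hd4 : orderOf (φ ⟨g, hgV⟩) ∣ 4 := orderOf_dvd_of_pow_eq_one (by rw [← map_pow, h4, map_one])
    have hd10 := orderOf_dvd_natCard (φ ⟨g, hgV⟩)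
    rw [IsCyclic.card_mulAut, hV11, Nat.totient_prime (by norm_num)] at hd10
    have hd2 : φ ⟨g, hgV⟩ ^ 2 = 1 :=
      orderOf_dvd_iff_pow_eq_one.1 ((Nat.dvd_gcd hd4 hd10).trans (by norm_num))
    rw [← map_pow, ← MonoidHom.mem_ker, normalizerMonoidHom_ker, mem_subgroupOf] at hd2
    obtain ⟨v, hv, hv1⟩ := exists_ne_one' hV11
    have hzv : v * z = z * v := by
      have h := (mem_centralizer_iff.1 hd2) v hv
      simpa [sq, hgz] using h
    have h := hVi v hv
    rw [← hzv, mul_inv_cancel_right] at h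
    have h2 : orderOf v ∣ 2 := orderOf_dvd_of_pow_eq_one (by
      rw [sq]; nth_rewrite 2 [h]; exact mul_inv_cancel v)
    have h11 : orderOf v ∣ 11 := hV11 ▸ V.orderOf_dvd_natCard hv
    exact hv1 (orderOf_eq_one_iff.1 (Nat.eq_one_of_dvd_coprimes (by norm_num : Nat.Coprime 2 11) h2 h11))

/-- `C(z) ⊓ N(⟨r⟩)` has order `2640`. -/
theorem card_cNorm (L : Local11 G z r) : Nat.card (cNorm z r) = 2640 := by
  set φ : ↥(cNorm z r) →* MulAut ↥(zpowers r) :=
    (zpowers r).normalizerMonoidHom.comp (inclusion inf_le_right) with hφ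
  have hker : Nat.card φ.ker = 264 := by
    rw [← L.card_zr, hφ, ← MonoidHom.comap_ker, normalizerMonoidHom_ker]
    refine Nat.card_congr
      { toFun := fun x => ⟨x.1.1, x.1.2.1, ?_⟩
        invFun := fun x => ⟨⟨x.1, cent_le_cNorm x.2⟩, ?_⟩
        left_inv := fun _ => rfl
        right_inv := fun _ => rfl }
    · have h := x.2
      simp only [mem_comap, mem_subgroupOf, zpowers_eq_closure, centralizer_closure] at h
      exact h
    · simp only [mem_comap, mem_subgroupOf, zpowers_eq_closure, centralizer_closure]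
      exact x.2.2
  obtain ⟨g, hgz, hgr⟩ := L.aut
  have hgM : g ∈ cNorm z r := by
    refine ⟨mem_centralizer_singleton_iff.2 hgz.eq, ?_⟩
    refine mem_normalizer_fintype (S := (zpowers r : Set G)) fun n hn => ?_
    obtain ⟨i, rfl⟩ := mem_zpowers_iff.1 hn
    rw [← conj_zpow, hgr]
    exact zpow_mem (pow_mem (mem_zpowers r) 2) i
  have hpow : ∀ k : ℕ, ((φ (⟨g, hgM⟩ ^ k)) ⟨r, mem_zpowers r⟩ : G) = r ^ 2 ^ k := by
    intro k
    induction k with
    | zero => simp
    | succ k ih =>
      rw [pow_succ', map_mul, MulAut.mul_apply]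
      show g * (((φ (⟨g, hgM⟩ ^ k)) ⟨r, mem_zpowers r⟩ : ↥(zpowers r)) : G) * g⁻¹ = _
      rw [ih, ← conj_pow, hgr, ← pow_mul, ← pow_succ']
  have h10 : orderOf (φ ⟨g, hgM⟩) = 10 := by
    have hdvd := orderOf_dvd_natCard (φ ⟨g, hgM⟩)
    rw [IsCyclic.card_mulAut, Nat.card_zpowers, L.r_order, Nat.totient_prime (by norm_num)] at hdvd
    have hne : ∀ k, (2 ^ k) % 11 ≠ 1 → φ ⟨g, hgM⟩ ^ k ≠ 1 := by
      intro k hk h
      have h2 := hpow k
      rw [map_pow, h, MulAut.one_apply] at h2
      have h3 : r ^ (2 ^ k % orderOf r) = r ^ 1 := by rw [pow_mod_orderOf, pow_one]; exact h2.symm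
      rw [L.r_order] at h3
      exact hk (pow_injOn_Iio_orderOf (by rw [L.r_order]; exact Nat.mod_lt _ (by norm_num))
        (by rw [L.r_order]; norm_num) h3)
    have hmem : orderOf (φ ⟨g, hgM⟩) ∈ Nat.divisors 10 := Nat.mem_divisors.2 ⟨hdvd, by norm_num⟩
    have hd : Nat.divisors 10 = {1, 2, 5, 10} := by decide
    rw [hd] at hmem
    simp only [Finset.mem_insert, Finset.mem_singleton] at hmem
    rcases hmem with h | h | h | h
    · exact absurd (h ▸ pow_orderOf_eq_one (φ ⟨g, hgM⟩)) (hne 1 (by norm_num))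
    · exact absurd (h ▸ pow_orderOf_eq_one (φ ⟨g, hgM⟩)) (hne 2 (by norm_num))
    · exact absurd (h ▸ pow_orderOf_eq_one (φ ⟨g, hgM⟩)) (hne 5 (by norm_num))
    · exact h
  have hrange : Nat.card φ.range = 10 := by
    refine le_antisymm ?_ ?_
    · refine (Nat.card_le_card_of_injective _ Subtype.val_injective).trans ?_
      rw [IsCyclic.card_mulAut, Nat.card_zpowers, L.r_order, Nat.totient_prime (by norm_num)]
    · rw [← h10, ← Nat.card_zpowers]
      exact card_le_of_le (zpowers_le.2 ⟨_, rfl⟩)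
  have h := φ.ker.card_mul_index
  rw [index_ker, hrange, hker] at h
  omega

/-- An involution of `C(z) ⊓ N(⟨r⟩)` inverting `r`. -/
theorem exists_inverting (L : Local11 G z r) {U : Subgroup G} (hU : Nat.card U = 1331)
    (hUC : U ≤ centralizer ({r} : Set G)) (hrU : r ∈ U) (hUz : U ⊓ centralizer ({z} : Set G) = zpowers r)
    (hMU : cNorm z r ≤ normalizer (U : Set G)) :
    ∃ e ∈ cNorm z r, e * e = 1 ∧ e * r * e⁻¹ = r⁻¹ := by
  classical
  have := Fact.mk (show Nat.Prime 11 by norm_num)
  have hzM : z ∈ cNorm z r := cent_le_cNorm L.z_mem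
  have hzi : z⁻¹ = z := inv_eq_of_mul_eq_one_right L.zz
  obtain ⟨u, hu, huR⟩ : ∃ u ∈ U, u ∉ zpowers r := by
    by_contra h
    push Not at h
    have := card_le_of_le (h : U ≤ zpowers r)
    rw [hU, Nat.card_zpowers, L.r_order] at this
    norm_num at this
  have hzu : z * u * z⁻¹ ∈ U := conj_mem_of_normalizes (hMU hzM) hu
  -- an element of `U` inverted by `z`
  set v := (z * u * z⁻¹)⁻¹ * u with hv
  have hvU : v ∈ U := mul_mem (inv_mem hzu) hu
  have hvz : z * v * z⁻¹ = v⁻¹ := by
    rw [hv, hzi]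
    calc z * ((z * u * z)⁻¹ * u) * z = z * z⁻¹ * u⁻¹ * z⁻¹ * u * z := by group
      _ = u⁻¹ * (z * u * z) := by rw [hzi, L.zz]; group
      _ = ((z * u * z)⁻¹ * u)⁻¹ := by group
  have hv1 : v ≠ 1 := by
    intro h
    apply huR
    rw [hv, inv_mul_eq_one, mul_inv_eq_iff_eq_mul] at h
    rw [← hUz]
    exact ⟨hu, mem_centralizer_singleton_iff.2 h.symm⟩
  have hvR : v ∉ zpowers r := by
    intro h
    obtain ⟨k, hk⟩ := mem_zpowers_iff.1 h
    have h1 := hvz
    rw [← hk, (L.comm.zpow_right k).eq, mul_inv_cancel_right] at h1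
    have h2 : orderOf v ∣ 2 := orderOf_dvd_of_pow_eq_one (by
      rw [sq, ← hk]; nth_rewrite 2 [h1]; exact mul_inv_cancel _)
    have h3 : orderOf v ∣ 11 := L.r_order ▸ orderOf_dvd_of_mem_zpowers h
    exact hv1 (orderOf_eq_one_iff.1 (Nat.eq_one_of_dvd_coprimes (by norm_num : Nat.Coprime 2 11) h2 h3))
  -- at most `120` conjugates
  let W := {w : G // w ∈ U ∧ z * w * z⁻¹ = w⁻¹ ∧ w ≠ 1}
  have hW : Nat.card W ≤ 120 := by
    let W0 := {w : G // w ∈ U ∧ z * w * z⁻¹ = w⁻¹}
    let π : W0 → U ⧸ (zpowers r).subgroupOf U := fun w => QuotientGroup.mk ⟨w.1, w.2.1⟩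
    have hπ : Function.Injective π := by
      rintro ⟨a, ha, haz⟩ ⟨b, hb, hbz⟩ h
      have h1 : a⁻¹ * b ∈ zpowers r := (QuotientGroup.eq (s := (zpowers r).subgroupOf U) (a := (⟨a, ha⟩ : U)) (b := ⟨b, hb⟩)).1 h
      obtain ⟨k, hk⟩ := mem_zpowers_iff.1 h1
      have hbk : b = a * r ^ k := by rw [hk, mul_inv_cancel_left]
      have hc : Commute a (r ^ k) :=
        (show Commute a r from mem_centralizer_singleton_iff.1 (hUC ha)).zpow_right k
      have h2 : a⁻¹ * r ^ k = a⁻¹ * (r ^ k)⁻¹ := by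
        calc a⁻¹ * r ^ k = (z * a * z⁻¹) * (z * r ^ k * z⁻¹) := by
              rw [haz, (L.comm.zpow_right k).eq, mul_inv_cancel_right]
          _ = z * b * z⁻¹ := by rw [hbk]; group
          _ = _ := by rw [hbz, hbk, hc.eq, mul_inv_rev]
      have h3 : r ^ k = (r ^ k)⁻¹ := mul_left_cancel h2
      have h4 : r ^ k = 1 := by
        have hd1 : orderOf (r ^ k) ∣ 2 := orderOf_dvd_of_pow_eq_one (by
          rw [sq]; nth_rewrite 2 [h3]; exact mul_inv_cancel _)
        have hd2 : orderOf (r ^ k) ∣ 11 := L.r_order ▸ orderOf_dvd_of_mem_zpowers (zpow_mem (mem_zpowers r) k)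
        exact orderOf_eq_one_iff.1 (Nat.eq_one_of_dvd_coprimes (by norm_num : Nat.Coprime 2 11) hd1 hd2)
      exact Subtype.ext (show a = b by rw [hbk, h4, mul_one])
    have h1 : Nat.card W0 ≤ 121 := by
      refine (Nat.card_le_card_of_injective π hπ).trans (le_of_eq ?_)
      have h := ((zpowers r).subgroupOf U).card_mul_index
      rw [Nat.card_congr (subgroupOfEquivOfLe (zpowers_le.2 hrU)).toEquiv, Nat.card_zpowers, L.r_order, hU,
        index_eq_card] at h
      omega
    let g : Option W → W0 := fun o => o.elim ⟨1, one_mem U, by simp⟩ fun w => ⟨w.1, w.2.1, w.2.2.1⟩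
    have hg : Function.Injective g := by
      rintro (_ | a) (_ | b) h
      · rfl
      · exact absurd (congrArg Subtype.val h).symm b.2.2.2
      · exact absurd (congrArg Subtype.val h) a.2.2.2
      · exact congrArg some (Subtype.ext (congrArg (fun w : W0 => (w : G)) h))
    have h2 := Nat.card_le_card_of_injective g hg
    rw [Finite.card_option] at h2
    omega
  let T : Subgroup ↥(cNorm z r) := (centralizer ({v} : Set G)).subgroupOf (cNorm z r)
  have hmapW : ∀ g ∈ cNorm z r,
      g * v * g⁻¹ ∈ U ∧ z * (g * v * g⁻¹) * z⁻¹ = (g * v * g⁻¹)⁻¹ ∧ g * v * g⁻¹ ≠ 1 := by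
    intro g hg
    refine ⟨conj_mem_of_normalizes (hMU hg) hvU, ?_, fun h => hv1 (conj_eq_one_iff.1 h)⟩
    have hc : z * g = g * z := (mem_centralizer_singleton_iff.1 hg.1).symm
    calc z * (g * v * g⁻¹) * z⁻¹ = (z * g) * v * (z * g)⁻¹ := by group
      _ = g * (z * v * z⁻¹) * g⁻¹ := by rw [hc]; group
      _ = _ := by rw [hvz]; group
  have hidx : T.index ≤ 120 := by
    let f : ↥(cNorm z r) ⧸ T → W := fun c =>
      ⟨(c.out : G) * v * (c.out : G)⁻¹, hmapW _ c.out.2⟩
    have hf : Function.Injective f := by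
      intro c c' h
      have h1 : (c.out : G) * v * (c.out : G)⁻¹ = (c'.out : G) * v * (c'.out : G)⁻¹ := congrArg Subtype.val h
      rw [← c.out_eq', ← c'.out_eq', QuotientGroup.eq, mem_subgroupOf, mem_centralizer_singleton_iff]
      show ((c.out : G)⁻¹ * (c'.out : G)) * v = v * ((c.out : G)⁻¹ * (c'.out : G))
      calc ((c.out : G)⁻¹ * (c'.out : G)) * v
          = (c.out : G)⁻¹ * ((c'.out : G) * v * (c'.out : G)⁻¹) * (c'.out : G) := by group
        _ = _ := by rw [← h1]; group
    rw [index_eq_card]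
    exact (Nat.card_le_card_of_injective f hf).trans hW
  have hTc := T.card_mul_index
  rw [card_cNorm L] at hTc
  have h22 : 22 ≤ Nat.card T := by
    by_contra hlt
    have := Nat.mul_le_mul (show Nat.card T ≤ 21 by omega) hidx
    omega
  -- a prime divisor of the stabilizer other than 11
  obtain ⟨q, hq, hqd, hq11⟩ : ∃ q, q.Prime ∧ q ∣ Nat.card T ∧ q ≠ 11 := by
    have hT : Nat.card T ∣ 2640 := Dvd.intro _ hTc
    have key : ∀ d ∈ Nat.divisors 2640, 22 ≤ d → d % 2 = 0 ∨ d % 3 = 0 ∨ d % 5 = 0 := by decide +kernel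
    rcases key _ (Nat.mem_divisors.2 ⟨hT, by norm_num⟩) h22 with h | h | h
    · exact ⟨2, Nat.prime_two, Nat.dvd_of_mod_eq_zero h, by norm_num⟩
    · exact ⟨3, Nat.prime_three, Nat.dvd_of_mod_eq_zero h, by norm_num⟩
    · exact ⟨5, by norm_num, Nat.dvd_of_mod_eq_zero h, by norm_num⟩
  have := Fact.mk hq
  obtain ⟨⟨⟨g, hgM⟩, hgT⟩, hgo⟩ := exists_prime_orderOf_dvd_card' (G := ↥T) q hqd
  rw [Subgroup.orderOf_mk, Subgroup.orderOf_mk] at hgo
  have hgv : Commute g v := mem_centralizer_singleton_iff.1 hgT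
  have hq235 : q = 2 ∨ q = 3 ∨ q = 5 := by
    have h : q ∣ 2640 := hqd.trans (Dvd.intro _ hTc)
    rw [show (2640 : ℕ) = 2 ^ 4 * 3 * 5 * 11 by norm_num] at h
    rcases (Nat.Prime.dvd_mul hq).1 h with h | h
    · rcases (Nat.Prime.dvd_mul hq).1 h with h | h
      · rcases (Nat.Prime.dvd_mul hq).1 h with h | h
        · exact Or.inl ((Nat.prime_dvd_prime_iff_eq hq Nat.prime_two).1 (hq.dvd_of_dvd_pow h))
        · exact Or.inr (Or.inl ((Nat.prime_dvd_prime_iff_eq hq Nat.prime_three).1 h))
      · exact Or.inr (Or.inr ((Nat.prime_dvd_prime_iff_eq hq (by norm_num)).1 h))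
    · exact absurd ((Nat.prime_dvd_prime_iff_eq hq (by norm_num)).1 h) hq11
  have hord11 : orderOf v ∣ 1331 := hU ▸ U.orderOf_dvd_natCard hvU
  rcases hq235 with rfl | rfl | rfl
  · refine ⟨g, hgM, by rw [← sq, ← hgo, pow_orderOf_eq_one], ?_⟩
    set φ : ↥(normalizer (zpowers r : Set G)) →* MulAut ↥(zpowers r) := (zpowers r).normalizerMonoidHom
    have hgN : g ∈ normalizer (zpowers r : Set G) := hgM.2
    obtain ⟨k, hk⟩ := mem_zpowers_iff.1 (conj_mem_of_normalizes hgN (mem_zpowers r))
    have hkk : r ^ (k * k) = r := by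
      rw [zpow_mul, hk, conj_zpow, hk,
        show g * (g * r * g⁻¹) * g⁻¹ = (g * g) * r * (g * g)⁻¹ by group,
        show g * g = 1 by rw [← sq, ← hgo, pow_orderOf_eq_one]]
      group
    have h11 : (k * k - 1) % 11 = 0 := by
      have h : r ^ (k * k - 1) = 1 := by rw [zpow_sub_one, hkk, mul_inv_cancel]
      rw [← orderOf_dvd_iff_zpow_eq_one, L.r_order] at h
      exact Int.emod_eq_zero_of_dvd h
    have hr : ∀ a : ℤ, (k - a) % 11 = 0 → g * r * g⁻¹ = r ^ a := fun a ha => by
      rw [← hk]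
      refine orderOf_dvd_sub_iff_zpow_eq_zpow.1 ?_
      rw [L.r_order]
      exact Int.dvd_of_emod_eq_zero ha
    have hcases : (k - 1) % 11 = 0 ∨ (k + 1) % 11 = 0 := by
      have key : ∀ m : Fin 11, ((m.val : ℤ) * m.val - 1) % 11 = 0 → m.val = 1 ∨ m.val = 10 := by decide +kernel
      have hm : 0 ≤ k % 11 ∧ k % 11 < 11 := ⟨Int.emod_nonneg _ (by norm_num), Int.emod_lt_of_pos _ (by norm_num)⟩
      have := key ⟨(k % 11).toNat, by omega⟩ (by
        simp only []
        rw [Int.toNat_of_nonneg hm.1, Int.sub_emod, Int.mul_emod, Int.emod_emod_of_dvd _ (dvd_refl _),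
          ← Int.mul_emod, ← Int.sub_emod]
        exact h11)
      simp only [] at this
      omega
    rcases hcases with h | h
    · -- then `g = z`, which inverts `v`
      exfalso
      have hgr : g * r * g⁻¹ = r ^ (1 : ℤ) := hr 1 h
      rw [zpow_one, mul_inv_eq_iff_eq_mul] at hgr
      have hgC : g ∈ centralizer ({z} : Set G) ⊓ centralizer ({r} : Set G) :=
        ⟨hgM.1, mem_centralizer_singleton_iff.2 hgr⟩
      rw [L.unique g hgC hgo] at hgv
      have h1 := hvz
      rw [hgv.eq, mul_inv_cancel_right] at h1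
      have h2 : orderOf v ∣ 2 := orderOf_dvd_of_pow_eq_one (by
        rw [sq]; nth_rewrite 2 [h1]; exact mul_inv_cancel _)
      exact hv1 (orderOf_eq_one_iff.1 (Nat.eq_one_of_dvd_coprimes (by norm_num : Nat.Coprime 2 1331) h2 hord11))
    · rw [hr (-1) (by simpa using h), zpow_neg, zpow_one]
  · -- no element of order 3
    exfalso
    have hgr := commute_r_of_three L hgM hgo
    have hle : zpowers r ≤ U ⊓ centralizer ({g} : Set G) :=
      zpowers_le.2 ⟨hrU, mem_centralizer_singleton_iff.2 hgr.symm.eq⟩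
    have hd : Nat.card ↥(U ⊓ centralizer ({g} : Set G)) ∣ 11 ^ 3 := by
      rw [show (11 : ℕ) ^ 3 = 1331 by norm_num, ← hU]; exact card_dvd_of_le inf_le_left
    obtain ⟨i, hi, hXi⟩ := (Nat.dvd_prime_pow (show Nat.Prime 11 by norm_num)).1 hd
    refine not_121_small L (Or.inr hgo) (Dvd.dvd.trans ?_ (card_dvd_of_le inf_le_right :
      Nat.card ↥(U ⊓ centralizer ({g} : Set G)) ∣ _))
    have hi2 : 2 ≤ i := by
      by_contra hlt
      have h1 : zpowers r = U ⊓ centralizer ({g} : Set G) := eq_of_le_of_card_ge hle (by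
        rw [hXi, Nat.card_zpowers, L.r_order]
        exact (Nat.pow_le_pow_right (by norm_num) (show i ≤ 1 by omega)).trans (by norm_num))
      exact hvR (h1.ge ⟨hvU, mem_centralizer_singleton_iff.2 hgv.symm.eq⟩)
    rw [hXi]
    exact (show (121 : ℕ) = 11 ^ 2 by norm_num) ▸ pow_dvd_pow 11 hi2
  · -- no element of order 5
    exfalso
    have h := (LargePrime.orderOf_dvd_centralizer hgv).trans (L.facts.five g hgo)
    obtain ⟨i, hi, hvi⟩ := (Nat.dvd_prime_pow (show Nat.Prime 11 by norm_num)).1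
      (hord11.trans (dvd_of_eq (show (1331 : ℕ) = 11 ^ 3 by norm_num)))
    have hi0 : i ≠ 0 := fun h0 => hv1 (orderOf_eq_one_iff.1 (by rw [hvi, h0, pow_zero]))
    have := (dvd_pow_self 11 hi0).trans (hvi ▸ h)
    norm_num at this

/-- A subgroup isomorphic to `GL₂(3)` in the normalizer of `⟨r⟩`, given a normal subgroup of order 8 of
`C(z) ⊓ N(⟨r⟩)` moved by an element of order 3. -/
theorem Local11.exists_gl23 (L : Local11 G z r) (Q : Subgroup G) (hQc : Nat.card Q = 8)
    (hQle : Q ≤ centralizer ({z} : Set G) ⊓ centralizer ({r} : Set G))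
    (hQn : cNorm z r ≤ normalizer (Q : Set G))
    {x : G} (hx : orderOf x = 3) (hxC : x ∈ centralizer ({z} : Set G) ⊓ centralizer ({r} : Set G))
    {q : G} (hq : q ∈ Q) (hxq : ¬ Commute x q) :
    ∃ K : Subgroup G, K ≤ normalizer (zpowers r : Set G) ∧ Nonempty (↥K ≃* GL (Fin 2) (ZMod 3)) := by
  classical
  have := Fact.mk (show Nat.Prime 2 by norm_num)
  have := Fact.mk (show Nat.Prime 3 by norm_num)
  have := Fintype.ofFinite G
  obtain ⟨U, hU, hUC, hrU, hnU, hUz, hC⟩ := L.structure_r
  have hMU : cNorm z r ≤ normalizer (U : Set G) :=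
    inf_le_right.trans (normalizer_le_normalizer hU hUC hnU hC)
  obtain ⟨e, heM, hee, her⟩ := exists_inverting L hU hUC hrU hUz hMU
  set R := zpowers r with hR
  set C₀ : Subgroup G := centralizer ({z} : Set G) ⊓ centralizer ({r} : Set G) with hC₀
  have hr2 : r⁻¹ ≠ r := fun h => by
    have h2 : orderOf r ∣ 2 := orderOf_dvd_of_pow_eq_one (by rw [sq]; nth_rewrite 2 [← h]; exact mul_inv_cancel r)
    rw [L.r_order] at h2; norm_num at h2
  -- the elements fixing or inverting `r`
  let M₂ : Subgroup G :=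
    { carrier := {g | g ∈ cNorm z r ∧ (g * r * g⁻¹ = r ∨ g * r * g⁻¹ = r⁻¹)}
      one_mem' := ⟨one_mem _, Or.inl (by simp)⟩
      mul_mem' := fun {a b} ha hb => ⟨mul_mem ha.1 hb.1, by
        have h : a * b * r * (a * b)⁻¹ = a * (b * r * b⁻¹) * a⁻¹ := by group
        rw [h]
        rcases hb.2 with hb' | hb' <;> rw [hb']
        · exact ha.2
        · rw [← conj_inv]
          rcases ha.2 with h' | h' <;> rw [h']
          · exact Or.inr rfl
          · exact Or.inl (inv_inv r)⟩
      inv_mem' := fun {a} ha => ⟨inv_mem ha.1, by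
        rcases ha.2 with h | h
        · left
          calc a⁻¹ * r * a⁻¹⁻¹ = a⁻¹ * (a * r * a⁻¹) * a := by rw [h]; group
            _ = r := by group
        · right
          calc a⁻¹ * r * a⁻¹⁻¹ = (a⁻¹ * (a * r * a⁻¹) * a)⁻¹ := by rw [h]; group
            _ = r⁻¹ := by group⟩ }
  have hCM : C₀ ≤ M₂ := fun g hg => ⟨cent_le_cNorm hg, Or.inl (by
    rw [mem_centralizer_singleton_iff.1 hg.2, mul_inv_cancel_right])⟩
  have heM₂ : e ∈ M₂ := ⟨heM, Or.inr her⟩
  have hC₀mem : ∀ g ∈ M₂, g * r * g⁻¹ = r → g ∈ C₀ := fun g hg h =>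
    ⟨hg.1.1, mem_centralizer_singleton_iff.2 (mul_inv_eq_iff_eq_mul.1 h)⟩
  have hM₂c : Nat.card M₂ = 528 := by
    have hidx : (C₀.subgroupOf M₂).index = 2 := by
      refine index_eq_two_iff.2 ⟨⟨e, heM₂⟩, fun b => ?_⟩
      rw [mem_subgroupOf, mem_subgroupOf]
      show Xor' ((b : G) * e ∈ C₀) ((b : G) ∈ C₀)
      rcases b.2.2 with hb | hb
      · refine Or.inr ⟨hC₀mem _ b.2 hb, fun h => ?_⟩
        have h1 := mem_centralizer_singleton_iff.1 h.2
        have h2 : (b : G) * e * r * ((b : G) * e)⁻¹ = r := by rw [h1, mul_inv_cancel_right]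
        rw [show (b : G) * e * r * ((b : G) * e)⁻¹ = (b : G) * (e * r * e⁻¹) * (b : G)⁻¹ by group, her,
          ← conj_inv, hb] at h2
        exact hr2 h2
      · refine Or.inl ⟨hC₀mem _ (mul_mem b.2 heM₂) ?_, fun h => ?_⟩
        · rw [show (b : G) * e * r * ((b : G) * e)⁻¹ = (b : G) * (e * r * e⁻¹) * (b : G)⁻¹ by group, her,
            ← conj_inv, hb, inv_inv]
        · rw [mem_centralizer_singleton_iff.1 h.2, mul_inv_cancel_right] at hb
          exact hr2 hb.symm
    have h := (C₀.subgroupOf M₂).card_mul_index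
    rw [Nat.card_congr (subgroupOfEquivOfLe hCM).toEquiv, L.card_zr, hidx] at h
    omega
  -- a complement of `⟨r⟩`
  have hRM : R ≤ M₂ := zpowers_le.2 (hCM ⟨mem_centralizer_singleton_iff.2 L.comm.symm.eq,
    mem_centralizer_singleton_iff.2 rfl⟩)
  have hRn : (R.subgroupOf M₂).Normal :=
    (normal_subgroupOf_iff_le_normalizer hRM).2 fun g hg => hg.1.2
  have hRc : Nat.card (R.subgroupOf M₂) = 11 := by
    rw [Nat.card_congr (subgroupOfEquivOfLe hRM).toEquiv, hR, Nat.card_zpowers, L.r_order]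
  have hRi : (R.subgroupOf M₂).index = 48 := by
    have h := (R.subgroupOf M₂).card_mul_index
    rw [hRc, hM₂c] at h
    omega
  obtain ⟨K, hK⟩ := exists_right_complement'_of_coprime (N := R.subgroupOf M₂) (by rw [hRc, hRi]; norm_num)
  have hK48 : Nat.card K = 48 := by
    have h := hK.card_mul
    rw [hRc, hM₂c] at h
    omega
  have hKi : K.index = 11 := by
    have h := K.card_mul_index
    rw [hK48, hM₂c] at h
    omega
  -- the normal subgroup of order 8 lies in it
  set Q₂ : Subgroup M₂ := Q.subgroupOf M₂ with hQ₂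
  have hQM : Q ≤ M₂ := hQle.trans hCM
  have hQ₂n : Q₂.Normal := (normal_subgroupOf_iff_le_normalizer hQM).2 fun g hg => hQn hg.1
  have hQ₂c : Nat.card Q₂ = 8 := by rw [hQ₂, Nat.card_congr (subgroupOfEquivOfLe hQM).toEquiv, hQc]
  have hQ₂p : IsPGroup 2 Q₂ := IsPGroup.of_card (n := 3) (by rw [hQ₂c]; norm_num)
  obtain ⟨S₀⟩ := (inferInstance : Nonempty (Sylow 2 K))
  have hS₀c : Nat.card (S₀ : Subgroup K) = 16 := by
    rw [S₀.card_eq_multiplicity, hK48, show (48 : ℕ) = 2 ^ 4 * 3 by norm_num,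
      Nat.factorization_mul (by norm_num) (by norm_num), Finsupp.add_apply, Nat.factorization_pow,
      Finsupp.smul_apply, Nat.prime_two.factorization_self,
      Nat.factorization_eq_zero_of_not_dvd (by norm_num)]
    norm_num
  let S : Sylow 2 M₂ := Sylow.ofCard ((S₀ : Subgroup K).map K.subtype) (by
    rw [card_map_of_injective K.subtype_injective, hS₀c, hM₂c, show (528 : ℕ) = 2 ^ 4 * 33 by norm_num,
      Nat.factorization_mul (by norm_num) (by norm_num), Finsupp.add_apply, Nat.factorization_pow,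
      Finsupp.smul_apply, Nat.prime_two.factorization_self,
      Nat.factorization_eq_zero_of_not_dvd (by norm_num)]
    norm_num)
  have hQK : Q₂ ≤ K := (hQ₂p.le_sylow_of_normal S).trans (map_subtype_le _)
  -- conjugates of `e` and `x` in it
  have hconj : ∀ (p : ℕ) [Fact p.Prime], ¬ p ∣ K.index → ∀ y : M₂, (∃ k, orderOf y = p ^ k) →
      ∃ g : M₂, g * y * g⁻¹ ∈ K := by
    intro p _ hp y ⟨k, hk⟩
    have hy : IsPGroup p (zpowers y) := IsPGroup.of_card (n := k) (by rw [Nat.card_zpowers, hk])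
    obtain ⟨T, hT⟩ := hy.exists_le_sylow
    obtain ⟨P₀⟩ := (inferInstance : Nonempty (Sylow p K))
    let P : Sylow p M₂ := (P₀.isPGroup'.map K.subtype).toSylow (by
      rw [index_map_subtype]
      exact fun h => ((Fact.out : p.Prime).dvd_mul.1 h).elim P₀.not_dvd_index hp)
    obtain ⟨g, hg⟩ := MulAction.exists_smul_eq M₂ T P
    have hmem : g * y * g⁻¹ ∈ (P : Subgroup M₂) := by
      rw [← hg]
      exact ⟨y, hT (mem_zpowers y), rfl⟩
    exact ⟨g, map_subtype_le _ hmem⟩
  obtain ⟨g₁, hg₁⟩ := hconj 2 (by rw [hKi]; norm_num) ⟨e, heM₂⟩ (by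
    rw [Subgroup.orderOf_mk]
    obtain ⟨k, -, hk⟩ := (Nat.dvd_prime_pow Nat.prime_two).1
      (show orderOf e ∣ 2 ^ 1 by rw [pow_one]; exact orderOf_dvd_of_pow_eq_one (by rw [sq, hee]))
    exact ⟨k, hk⟩)
  obtain ⟨g₂, hg₂⟩ := hconj 3 (by rw [hKi]; norm_num) ⟨x, hCM hxC⟩ ⟨1, by rw [Subgroup.orderOf_mk, hx, pow_one]⟩
  set e' : G := g₁ * e * (g₁ : G)⁻¹ with he'
  set x' : G := g₂ * x * (g₂ : G)⁻¹ with hx'
  set eK : K := ⟨_, hg₁⟩ with heK
  set xK : K := ⟨_, hg₂⟩ with hxK
  have heKv : ((eK : M₂) : G) = e' := rfl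
  have hxKv : ((xK : M₂) : G) = x' := rfl
  have hee' : e' * e' = 1 := by
    rw [he', show (g₁ : G) * e * (g₁ : G)⁻¹ * (g₁ * e * (g₁ : G)⁻¹) = g₁ * (e * e) * (g₁ : G)⁻¹ by group, hee]
    group
  have her' : e' * r * e'⁻¹ = r⁻¹ := by
    rcases (eK : M₂).2.2 with h | h
    · exfalso
      rcases g₁.2.2 with hg | hg
      · apply hr2
        calc r⁻¹ = (g₁ : G) * (r⁻¹) * (g₁ : G)⁻¹ := by rw [← conj_inv, hg]
          _ = (g₁ : G) * (e * r * e⁻¹) * (g₁ : G)⁻¹ := by rw [her]
          _ = e' * ((g₁ : G) * r * (g₁ : G)⁻¹) * e'⁻¹ := by rw [he']; group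
          _ = r := by rw [hg]; exact h
      · apply hr2
        have h1 : (r⁻¹)⁻¹ = r⁻¹ := by
          calc (r⁻¹)⁻¹ = ((g₁ : G) * r * (g₁ : G)⁻¹)⁻¹ := by rw [hg]
            _ = (g₁ : G) * (e * r * e⁻¹) * (g₁ : G)⁻¹ := by rw [her, conj_inv]
            _ = e' * ((g₁ : G) * r * (g₁ : G)⁻¹) * e'⁻¹ := by rw [he']; group
            _ = r⁻¹ := by rw [hg, ← conj_inv]; exact congrArg _ h
        rw [inv_inv] at h1
        exact h1.symm
    · exact h
  have he'M : e' ∈ cNorm z r := (eK : M₂).2.1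
  have hx3 : orderOf x' = 3 := ((MulAut.conj (g₂ : G)).orderOf_eq x).trans hx
  have hx'M : x' ∈ cNorm z r := (xK : M₂).2.1
  have hxq' : ¬ ∀ a ∈ Q, Commute x' a := by
    intro h
    apply hxq
    have h1 := (h _ (conj_mem_of_normalizes (hQn g₂.2.1) hq)).map (MulAut.conj (g₂ : G)⁻¹).toMonoidHom
    have hx2 : (MulAut.conj (g₂ : G)⁻¹).toMonoidHom x' = x := by
      simp [hx', MulAut.conj_apply, mul_assoc]
    have hq2 : (MulAut.conj (g₂ : G)⁻¹).toMonoidHom ((g₂ : G) * q * (g₂ : G)⁻¹) = q := by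
      simp [MulAut.conj_apply, mul_assoc]
    rwa [hx2, hq2] at h1
  -- the subgroup
  set Q' : Subgroup K := Q₂.subgroupOf K with hQ'
  have hQ'n : Q'.Normal := hQ₂n.subgroupOf K
  have hQ'c : Nat.card Q' = 8 := by rw [hQ', Nat.card_congr (subgroupOfEquivOfLe hQK).toEquiv, hQ₂c]
  have hQ'mem : ∀ a : K, a ∈ Q' ↔ ((a : M₂) : G) ∈ Q := fun a => Iff.rfl
  have hQ'p : IsPGroup 2 Q' := IsPGroup.of_card (n := 3) (by rw [hQ'c]; norm_num)
  have hinv : ∀ a ∈ Q', a * a = 1 → a = 1 ∨ ((a : M₂) : G) = z := by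
    intro a ha haa
    by_cases ha1 : a = 1
    · exact Or.inl ha1
    refine Or.inr (L.unique _ (hQle ha) ?_)
    rw [Subgroup.orderOf_coe, Subgroup.orderOf_coe]
    exact orderOf_eq_prime (by rw [sq, haa]) ha1
  have hsyl : ∀ T : Sylow 2 K, Nat.card (T : Subgroup K) = 16 := fun T => by
    rw [T.card_eq_multiplicity, hK48, show (48 : ℕ) = 2 ^ 4 * 3 by norm_num,
      Nat.factorization_mul (by norm_num) (by norm_num), Finsupp.add_apply, Nat.factorization_pow,
      Finsupp.smul_apply, Nat.prime_two.factorization_self,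
      Nat.factorization_eq_zero_of_not_dvd (by norm_num)]
    norm_num
  have hnotn : ∀ T : Sylow 2 K, ¬ (T : Subgroup K).Normal := by
    intro T hTn
    -- the involutions of `T` inverting `r`
    let I := {a : K // a ∈ (T : Subgroup K) ∧ a * a = 1 ∧ ((a : M₂) : G) ∉ C₀}
    have hQT : Q' ≤ (T : Subgroup K) := hQ'p.le_sylow_of_normal T
    have heT : eK ∈ (T : Subgroup K) := by
      have hee2 : IsPGroup 2 (zpowers eK) := by
        refine IsPGroup.of_card_dvd_pow (n := 1) ?_
        rw [Nat.card_zpowers, pow_one]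
        exact orderOf_dvd_of_pow_eq_one (Subtype.ext (Subtype.ext (by rw [sq]; exact hee')))
      obtain ⟨T', hT'⟩ := hee2.exists_le_sylow
      have := T.unique_of_normal hTn
      rw [Subsingleton.elim T T']
      exact hT' (mem_zpowers eK)
    have heC : ((eK : M₂) : G) ∉ C₀ := fun h => by
      rw [heKv] at h
      rw [mem_centralizer_singleton_iff.1 h.2, mul_inv_cancel_right] at her'
      exact hr2 her'.symm
    have hfpf : ∀ a : K, a * a = 1 → ((a : M₂) : G) ∉ C₀ → ∀ b : K,
        (orderOf ((b : M₂) : G) = 3 ∨ ((b : M₂) : G) * ((b : M₂) : G) = z) → ¬ Commute a b := by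
      intro a haa haC b hb hc
      have har : ((a : M₂) : G) * r * ((a : M₂) : G)⁻¹ = r⁻¹ :=
        (a : M₂).2.2.resolve_left fun h => haC (hC₀mem _ (a : M₂).2 h)
      exact not_commute_inverting L hU hUC hrU hUz hMU
        (congrArg (fun w : K => ((w : M₂) : G)) haa) (a : M₂).2.1 har (b : M₂).2.1 hb
        ((hc.map K.subtype).map M₂.subtype)
    have hTC : ∀ a ∈ (T : Subgroup K), ((a : M₂) : G) ∈ C₀ → a ∈ Q' := by
      intro a ha haC
      set T0 : Subgroup K := (T : Subgroup K) ⊓ (C₀.subgroupOf M₂).subgroupOf K with hT0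
      have h0 : Q' ≤ T0 := fun b hb => ⟨hQT hb, hQle hb⟩
      have h1 : Nat.card T0 ∣ 16 := hsyl T ▸ card_dvd_of_le inf_le_left
      have h2 : Nat.card T0 ∣ 264 := by
        rw [← card_map_of_injective K.subtype_injective, ← card_map_of_injective M₂.subtype_injective,
          ← L.card_zr]
        refine card_dvd_of_le ?_
        rintro - ⟨-, ⟨b, hb, rfl⟩, rfl⟩
        exact hb.2
      have h3 : Nat.card T0 ∣ 8 := (Nat.dvd_gcd h1 h2).trans (by norm_num)
      have h4 : T0 = Q' := (eq_of_le_of_card_ge h0 (by rw [hQ'c]; exact Nat.le_of_dvd (by norm_num) h3)).symm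
      exact h4.le ⟨ha, haC⟩
    -- each class has four elements
    have hclass : ∀ a : I, ∃ s : Finset I, a ∈ s ∧ s.card = 4 ∧
        ∀ c : Q', ∀ b ∈ s, ∀ hb : (c : K) * b.1 * (c : K)⁻¹ ∈ (T : Subgroup K) ∧
          ((c : K) * b.1 * (c : K)⁻¹) * ((c : K) * b.1 * (c : K)⁻¹) = 1 ∧
          ((((c : K) * b.1 * (c : K)⁻¹ : K) : M₂) : G) ∉ C₀, (⟨_, hb⟩ : I) ∈ s := by
      intro a
      have hmove : ∀ c : Q', (c : K) * a.1 * (c : K)⁻¹ ∈ (T : Subgroup K) ∧
          ((c : K) * a.1 * (c : K)⁻¹) * ((c : K) * a.1 * (c : K)⁻¹) = 1 ∧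
          ((((c : K) * a.1 * (c : K)⁻¹ : K) : M₂) : G) ∉ C₀ := fun c =>
        ⟨mul_mem (mul_mem (hQT c.2) a.2.1) (inv_mem (hQT c.2)),
          by rw [show (c : K) * a.1 * (c : K)⁻¹ * ((c : K) * a.1 * (c : K)⁻¹) = c * (a.1 * a.1) * (c : K)⁻¹ by group,
            a.2.2.1]; group,
          fun h => a.2.2.2 (by
            have hc : (((c : K) : M₂) : G) ∈ C₀ := hQle c.2
            have h1 := mul_mem (mul_mem (inv_mem hc) h) hc
            simpa [mul_assoc] using h1)⟩
      let f : Q' → I := fun c => ⟨_, hmove c⟩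
      let Z : Subgroup Q' := ((centralizer ({a.1} : Set K))).subgroupOf Q'
      have hZ : Nat.card Z = 2 := by
        have hzK : ∃ c : Q', orderOf c = 2 :=
          exists_prime_orderOf_dvd_card' 2 (by rw [hQ'c]; norm_num)
        obtain ⟨c₀, hc₀⟩ := hzK
        have hc₀z : (((c₀ : K) : M₂) : G) = z := (hinv c₀ c₀.2 (by
          have := congrArg Subtype.val (hc₀ ▸ pow_orderOf_eq_one c₀)
          simpa [sq] using this)).resolve_left fun h => by
            rw [show c₀ = 1 from Subtype.ext h, orderOf_one] at hc₀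
            omega
        have hZeq : Z = zpowers c₀ := by
          refine le_antisymm (fun c hc => ?_) (zpowers_le.2 ?_)
          · have hc' : Commute (c : K) a.1 := mem_centralizer_singleton_iff.1 hc
            have hcc : c * c = 1 := by
              by_contra hcc
              refine hfpf a.1 a.2.2.1 a.2.2.2 ((c : K)) (Or.inr ?_) hc'.symm
              have hc4 : (c * c) * (c * c) = 1 := by
                by_contra hne
                -- an element of order 8 would make the subgroup cyclic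
                have h8 : orderOf c = 8 := by
                  have hd : orderOf c ∣ 2 ^ 3 := by
                    rw [show (2 : ℕ) ^ 3 = 8 by norm_num, ← hQ'c]; exact orderOf_dvd_natCard c
                  obtain ⟨k, hk, hck⟩ := (Nat.dvd_prime_pow Nat.prime_two).1 hd
                  have : ¬ k ≤ 2 := fun hk2 => hne (by
                    have h4 : c ^ 4 = 1 := orderOf_dvd_iff_pow_eq_one.1 (hck ▸ (pow_dvd_pow 2 hk2).trans (by norm_num))
                    simpa [pow_succ, mul_assoc] using h4)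
                  rw [hck, show k = 3 by omega]; norm_num
                have hcyc : zpowers c = ⊤ := eq_top_of_card_eq _ (by rw [Nat.card_zpowers, h8, hQ'c])
                apply hxq'
                intro b hb
                set φ : ↥(normalizer (Q : Set G)) →* MulAut ↥Q := Q.normalizerMonoidHom
                have hQcyc : IsCyclic Q := by
                  have : IsCyclic Q' := ⟨⟨c, fun w => hcyc.ge (mem_top w)⟩⟩
                  exact isCyclic_of_surjective
                    ((subgroupOfEquivOfLe hQK).trans (subgroupOfEquivOfLe hQM) : Q' ≃* Q).toMonoidHom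
                    ((subgroupOfEquivOfLe hQK).trans (subgroupOfEquivOfLe hQM) : Q' ≃* Q).surjective
                obtain ⟨w, hw⟩ := hQcyc.exists_generator
                have hQz : Q = zpowers (w : G) := by
                  refine le_antisymm (fun u hu => ?_) (zpowers_le.2 w.2)
                  obtain ⟨i, hi⟩ := mem_zpowers_iff.1 (hw ⟨u, hu⟩)
                  exact ⟨i, congrArg Subtype.val hi⟩
                have hwo : orderOf (w : G) = 8 := by rw [← Nat.card_zpowers, ← hQz, hQc]
                have hcw := LargePrime.commute_of_normalizes_zpowers (a := (w : G)) (g := x')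
                  (by rw [← hQz]; exact hQn hx'M) (by rw [hx3, hwo]; decide)
                obtain ⟨i, rfl⟩ := mem_zpowers_iff.1 (hQz ▸ hb)
                exact hcw.zpow_right i
              have := (hinv (c * c : Q') (c * c).2 (congrArg Subtype.val hc4)).resolve_left
                fun h => hcc (Subtype.ext h)
              exact this
            rcases hinv c c.2 (congrArg Subtype.val hcc) with h | h
            · rw [show c = 1 from Subtype.ext h]; exact one_mem _
            · rw [show c = c₀ from Subtype.ext (Subtype.ext (Subtype.ext (h.trans hc₀z.symm)))]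
              exact mem_zpowers _
          · refine mem_centralizer_singleton_iff.2 (Subtype.ext (Subtype.ext ?_))
            show (((c₀ : K) : M₂) : G) * _ = _ * (((c₀ : K) : M₂) : G)
            rw [hc₀z]
            exact (mem_centralizer_singleton_iff.1 (a.1 : M₂).2.1.1).symm
        rw [hZeq, Nat.card_zpowers, hc₀]
      let g : Q' ⧸ Z → I := fun c => f c.out
      have hf : ∀ c d : Q', c⁻¹ * d ∈ Z → f c = f d := by
        intro c d h
        refine Subtype.ext ?_
        have h1 : ((c⁻¹ * d : Q') : K) * a.1 = a.1 * ((c⁻¹ * d : Q') : K) := mem_centralizer_singleton_iff.1 h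
        push_cast at h1
        show (c : K) * a.1 * (c : K)⁻¹ = (d : K) * a.1 * (d : K)⁻¹
        calc (c : K) * a.1 * (c : K)⁻¹
            = (c : K) * (a.1 * ((c : K)⁻¹ * (d : K))) * (d : K)⁻¹ := by group
          _ = (d : K) * a.1 * (d : K)⁻¹ := by rw [← h1]; group
      have hg : Function.Injective g := by
        intro c d h
        have h1 : (c.out : K) * a.1 * (c.out : K)⁻¹ = (d.out : K) * a.1 * (d.out : K)⁻¹ :=
          congrArg Subtype.val h
        rw [← c.out_eq', ← d.out_eq', QuotientGroup.eq, mem_subgroupOf, mem_centralizer_singleton_iff]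
        show ((c.out : K)⁻¹ * (d.out : K)) * a.1 = a.1 * ((c.out : K)⁻¹ * (d.out : K))
        calc ((c.out : K)⁻¹ * (d.out : K)) * a.1
            = (c.out : K)⁻¹ * ((d.out : K) * a.1 * (d.out : K)⁻¹) * (d.out : K) := by group
          _ = _ := by rw [← h1]; group
      have := Fintype.ofFinite (Q' ⧸ Z)
      refine ⟨Finset.univ.image g, Finset.mem_image.2 ⟨QuotientGroup.mk 1, Finset.mem_univ _, ?_⟩, ?_, ?_⟩
      · show f (QuotientGroup.mk (1 : Q') : Q' ⧸ Z).out = a
        rw [hf _ 1 (QuotientGroup.eq.1 ((QuotientGroup.mk (1 : Q') : Q' ⧸ Z).out_eq'))]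
        exact Subtype.ext (by simp [f])
      · rw [Finset.card_image_of_injective _ hg, Finset.card_univ, ← Nat.card_eq_fintype_card]
        have h := Z.card_mul_index
        rw [hZ, hQ'c, index_eq_card] at h
        omega
      · intro c b hb hbm
        obtain ⟨d, -, rfl⟩ := Finset.mem_image.1 hb
        refine Finset.mem_image.2 ⟨QuotientGroup.mk (c * d.out), Finset.mem_univ _, ?_⟩
        show f (QuotientGroup.mk (c * d.out) : Q' ⧸ Z).out = _
        rw [hf _ (c * d.out) (QuotientGroup.eq.1 ((QuotientGroup.mk (c * d.out) : Q' ⧸ Z).out_eq'))]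
        refine Subtype.ext ?_
        show ((c * d.out : Q') : K) * a.1 * ((c * d.out : Q') : K)⁻¹ =
          (c : K) * ((d.out : K) * a.1 * (d.out : K)⁻¹) * (c : K)⁻¹
        push_cast
        group
    have := Fintype.ofFinite I
    have hI8 : Fintype.card I ≤ 8 := by
      let f : I → Q' := fun a => ⟨eK * a.1, hTC _ (mul_mem heT a.2.1) (by
        have ha : ((a.1 : M₂) : G) * r * ((a.1 : M₂) : G)⁻¹ = r⁻¹ :=
          (a.1 : M₂).2.2.resolve_left fun h => a.2.2.2 (hC₀mem _ (a.1 : M₂).2 h)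
        refine hC₀mem _ ((eK * a.1 : K) : M₂).2 ?_
        show e' * ((a.1 : M₂) : G) * r * (e' * ((a.1 : M₂) : G))⁻¹ = r
        rw [show e' * ((a.1 : M₂) : G) * r * (e' * ((a.1 : M₂) : G))⁻¹ =
          e' * (((a.1 : M₂) : G) * r * ((a.1 : M₂) : G)⁻¹) * e'⁻¹ by group, ha, ← conj_inv, her', inv_inv])⟩
      have hf : Function.Injective f := fun a b h =>
        Subtype.ext (mul_left_cancel (congrArg Subtype.val h))
      have := Nat.card_le_card_of_injective f hf
      rwa [hQ'c, Nat.card_eq_fintype_card] at this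
    have hI : ¬ 3 ∣ Fintype.card I := by
      obtain ⟨s, has, hs, hsQ⟩ := hclass ⟨eK, heT, Subtype.ext (Subtype.ext hee'), heC⟩
      by_cases hall : ∀ b : I, b ∈ s
      · rw [← Finset.card_univ, ← Finset.eq_univ_iff_forall.2 hall, hs]; norm_num
      · push Not at hall
        obtain ⟨b, hb⟩ := hall
        obtain ⟨s', hbs', hs', hsQ'⟩ := hclass b
        have hdis : Disjoint s s' := by
          rw [Finset.disjoint_left]
          intro a ha ha'
          -- both are whole classes under `Q'`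
          obtain ⟨s'', ha'', hs'', hsQ''⟩ := hclass a
          have h1 : ∀ t : Finset I, a ∈ t → t.card = 4 → (∀ c : Q', ∀ b ∈ t,
              ∀ hb : (c : K) * b.1 * (c : K)⁻¹ ∈ (T : Subgroup K) ∧
                ((c : K) * b.1 * (c : K)⁻¹) * ((c : K) * b.1 * (c : K)⁻¹) = 1 ∧
                ((((c : K) * b.1 * (c : K)⁻¹ : K) : M₂) : G) ∉ C₀, (⟨_, hb⟩ : I) ∈ t) →
              ∀ u ∈ t, ∃ c : Q', (u : I).1 = (c : K) * a.1 * (c : K)⁻¹ := by
            intro t hat ht htQ u hu
            by_contra hne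
            push Not at hne
            -- the conjugates of `a` fill `t`
            have hmove : ∀ c : Q', (c : K) * a.1 * (c : K)⁻¹ ∈ (T : Subgroup K) ∧
                ((c : K) * a.1 * (c : K)⁻¹) * ((c : K) * a.1 * (c : K)⁻¹) = 1 ∧
                ((((c : K) * a.1 * (c : K)⁻¹ : K) : M₂) : G) ∉ C₀ := fun c =>
              ⟨mul_mem (mul_mem (hQT c.2) a.2.1) (inv_mem (hQT c.2)),
                by rw [show (c : K) * a.1 * (c : K)⁻¹ * ((c : K) * a.1 * (c : K)⁻¹) = c * (a.1 * a.1) * (c : K)⁻¹ by group,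
                  a.2.2.1]; group,
                fun h => a.2.2.2 (by
                  have hc : (((c : K) : M₂) : G) ∈ C₀ := hQle c.2
                  have h1 := mul_mem (mul_mem (inv_mem hc) h) hc
                  simpa [mul_assoc] using h1)⟩
            have := Fintype.ofFinite Q'
            have hsub : Finset.univ.image (fun c : Q' => (⟨_, hmove c⟩ : I)) ⊆ t.erase u := by
              intro w hw
              obtain ⟨c, -, rfl⟩ := Finset.mem_image.1 hw
              exact Finset.mem_erase.2 ⟨fun h => hne c (congrArg Subtype.val h).symm, htQ c a hat (hmove c)⟩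
            have hle := Finset.card_le_card hsub
            rw [Finset.card_erase_of_mem hu, ht] at hle
            -- at most two elements of `Q'` give the same conjugate
            have hfib := Finset.card_le_mul_card_image (Finset.univ : Finset Q') (f := fun c : Q' => (⟨_, hmove c⟩ : I)) 2 (by
              intro w _
              by_contra h3
              push Not at h3
              obtain ⟨c₁, c₂, c₃, hc₁, hc₂, hc₃, h12, h13, h23⟩ := Finset.two_lt_card_iff.1 h3
              rw [Finset.mem_filter] at hc₁ hc₂ hc₃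
              have hcz : ∀ c d : Q', (⟨_, hmove c⟩ : I) = ⟨_, hmove d⟩ → c⁻¹ * d = 1 ∨ (((c⁻¹ * d : Q') : K) : M₂).val = z := by
                intro c d h
                have h1 : (c : K) * a.1 * (c : K)⁻¹ = (d : K) * a.1 * (d : K)⁻¹ := congrArg Subtype.val h
                have hcd : Commute ((c⁻¹ * d : Q') : K) a.1 := by
                  show ((c⁻¹ * d : Q') : K) * a.1 = a.1 * ((c⁻¹ * d : Q') : K)
                  push_cast
                  calc ((c : K)⁻¹ * (d : K)) * a.1
                      = (c : K)⁻¹ * ((d : K) * a.1 * (d : K)⁻¹) * (d : K) := by group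
                    _ = _ := by rw [← h1]; group
                set w : Q' := c⁻¹ * d
                by_cases hww : w * w = 1
                · rcases hinv w w.2 (congrArg Subtype.val hww) with h | h
                  · exact Or.inl (Subtype.ext h)
                  · exact Or.inr h
                · exfalso
                  by_cases hw4 : w * w * (w * w) = 1
                  · refine hfpf a.1 a.2.2.1 a.2.2.2 (w : K) (Or.inr ?_) hcd.symm
                    exact ((hinv (w * w : Q') (w * w).2 (congrArg Subtype.val hw4)).resolve_left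
                      fun h => hww (Subtype.ext h))
                  · refine hfpf a.1 a.2.2.1 a.2.2.2 ((w * w : Q') : K) (Or.inr ?_) ?_
                    · have h8 : (w * w) * (w * w) * ((w * w) * (w * w)) = 1 := by
                        have h := pow_card_eq_one' (x := w)
                        rw [hQ'c] at h
                        simpa [pow_succ, mul_assoc] using h
                      exact ((hinv (w * w * (w * w) : Q') (w * w * (w * w)).2 (congrArg Subtype.val h8)).resolve_left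
                        fun h => hw4 (Subtype.ext h))
                    · push_cast; exact hcd.symm.mul_right hcd.symm
              have e12 := hcz c₁ c₂ (hc₁.2.trans hc₂.2.symm)
              have e13 := hcz c₁ c₃ (hc₁.2.trans hc₃.2.symm)
              have f12 := e12.resolve_left fun h => h12 (inv_mul_eq_one.1 h)
              have f13 := e13.resolve_left fun h => h13 (inv_mul_eq_one.1 h)
              exact h23 (mul_left_cancel (Subtype.ext (Subtype.ext (Subtype.ext (f12.trans f13.symm))) :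
                c₁⁻¹ * c₂ = c₁⁻¹ * c₃)))
            rw [Finset.card_univ, ← Nat.card_eq_fintype_card, hQ'c] at hfib
            omega
          obtain ⟨c, hc⟩ := h1 s' ha' hs' hsQ' b hbs'
          refine hb ?_
          have hb' : (⟨(c : K) * a.1 * (c : K)⁻¹, hc ▸ b.2⟩ : I) ∈ s := hsQ c a ha _
          have hbe : b = ⟨(c : K) * a.1 * (c : K)⁻¹, hc ▸ b.2⟩ := Subtype.ext hc
          rw [hbe]; exact hb'
        have h8 : (s ∪ s').card = 8 := by rw [Finset.card_union_of_disjoint hdis, hs, hs']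
        have h9 := Finset.card_le_univ (s ∪ s')
        intro h3
        omega
    -- so `x'` fixes one of them
    have hxT : ∀ a : I, xK * a.1 * xK⁻¹ ∈ (T : Subgroup K) ∧
        (xK * a.1 * xK⁻¹) * (xK * a.1 * xK⁻¹) = 1 ∧ (((xK * a.1 * xK⁻¹ : K) : M₂) : G) ∉ C₀ := by
      intro a
      refine ⟨hTn.conj_mem _ a.2.1 _, ?_, fun h => a.2.2.2 ?_⟩
      · rw [show xK * a.1 * xK⁻¹ * (xK * a.1 * xK⁻¹) = xK * (a.1 * a.1) * xK⁻¹ by group, a.2.2.1]; group
      · have hxC₀ : x' ∈ C₀ := ⟨hx'M.1, mem_centralizer_singleton_iff.2 (commute_r_of_three L hx'M hx3).eq⟩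
        have h1 := mul_mem (mul_mem (inv_mem hxC₀) h) hxC₀
        simpa [mul_assoc, ← hxKv] using h1
    let σ : I → I := fun a => ⟨_, hxT a⟩
    have hσ3 : ∀ a, σ (σ (σ a)) = a := fun a => by
      refine Subtype.ext ?_
      show xK * (xK * (xK * a.1 * xK⁻¹) * xK⁻¹) * xK⁻¹ = a.1
      have h3 : xK * xK * xK = 1 := by
        have h := pow_orderOf_eq_one x'
        rw [hx3] at h
        apply Subtype.ext; apply Subtype.ext
        show x' * x' * x' = 1
        simpa [pow_succ, mul_assoc] using h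
      calc xK * (xK * (xK * a.1 * xK⁻¹) * xK⁻¹) * xK⁻¹ = (xK * xK * xK) * a.1 * (xK * xK * xK)⁻¹ := by group
        _ = a.1 := by rw [h3]; group
    let π : Equiv.Perm I := ⟨σ, σ ∘ σ, hσ3, hσ3⟩
    obtain ⟨a, ha⟩ := Equiv.Perm.exists_fixed_point_of_prime (p := 3) (n := 1) hI (σ := π) (by
      rw [pow_one, show (3 : ℕ) = 2 + 1 by norm_num, pow_succ, sq]
      exact Equiv.ext hσ3)
    refine hfpf a.1 a.2.2.1 a.2.2.2 xK (Or.inl hx3) ?_
    have h1 : xK * a.1 * xK⁻¹ = a.1 := congrArg Subtype.val ha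
    exact (mul_inv_eq_iff_eq_mul.1 h1).symm
  have hcore : Cfsg.oddCore K = ⊥ := by
    refine le_bot_iff.1 (sSup_le fun N ⟨hN, hcop⟩ => le_bot_iff.2 ?_)
    have hNo : ¬ 2 ∣ Nat.card N := by
      rw [← Nat.prime_two.coprime_iff_not_dvd]; exact hcop.symm
    have hd : Nat.card N ∣ 48 := hK48 ▸ card_subgroup_dvd_card N
    have h13 : Nat.card N = 1 ∨ Nat.card N = 3 := by
      have key : ∀ m ∈ Nat.divisors 48, ¬ 2 ∣ m → m = 1 ∨ m = 3 := by decide +kernel
      exact key _ (Nat.mem_divisors.2 ⟨hd, by norm_num⟩) hNo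
    refine h13.elim card_eq_one.1 fun h3 => ?_
    exfalso
    obtain ⟨T, hT⟩ : ∃ T : Sylow 3 K, (T : Subgroup K) = N := by
      refine ⟨(IsPGroup.of_card (n := 1) (by rw [h3, pow_one]) : IsPGroup 3 N).toSylow ?_, rfl⟩
      have := N.card_mul_index
      rw [h3, hK48] at this
      omega
    have hTn : (T : Subgroup K).Normal := by rw [hT]; exact hN
    have hxN : xK ∈ N := by
      have hx3' : IsPGroup 3 (zpowers xK) := IsPGroup.of_card (n := 1) (by
        rw [Nat.card_zpowers, ← Subgroup.orderOf_coe, ← Subgroup.orderOf_coe, pow_one]; exact hx3)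
      obtain ⟨T', hT'⟩ := hx3'.exists_le_sylow
      have := T.unique_of_normal hTn
      rw [← hT, Subsingleton.elim T T']
      exact hT' (mem_zpowers xK)
    have hdis : Disjoint N Q' := by
      refine disjoint_iff.2 (inf_eq_bot_of_coprime ?_)
      rw [h3, hQ'c]; norm_num
    refine hxq' fun a ha => ?_
    have h := Subgroup.commute_of_normal_of_disjoint N Q' hN hQ'n hdis xK
      ⟨⟨a, hQM ha⟩, hQK (show (⟨a, hQM ha⟩ : M₂) ∈ Q₂ from ha)⟩ hxN ha
    exact congrArg (fun w : K => ((w : M₂) : G)) h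
  have hsol : Group.IsSolvable K := S0144.result 2 3 4 1 Nat.prime_two Nat.prime_three (by rw [hK48]; norm_num)
  have hpr : ∀ S T : Sylow 2 K, S ≠ T → Cfsg.PRankLE 2 1 ↥((S : Subgroup K) ⊓ (T : Subgroup K)) := by
    intro S T hne A _ hA2
    have hQS : Q' ≤ (S : Subgroup K) ⊓ (T : Subgroup K) :=
      le_inf (hQ'p.le_sylow_of_normal S) (hQ'p.le_sylow_of_normal T)
    have hlt : Nat.card ((S : Subgroup K) ⊓ (T : Subgroup K) : Subgroup K) ≠ 16 := fun h => hne (Sylow.ext (by
      have h1 := eq_of_le_of_card_ge (inf_le_left : (S : Subgroup K) ⊓ (T : Subgroup K) ≤ S) (by rw [h, hsyl])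
      have h2 := eq_of_le_of_card_ge (inf_le_right : (S : Subgroup K) ⊓ (T : Subgroup K) ≤ T) (by rw [h, hsyl])
      exact h1.symm.trans h2))
    have hd : Nat.card ((S : Subgroup K) ⊓ (T : Subgroup K) : Subgroup K) ∣ 2 ^ 4 := by
      rw [show (2 : ℕ) ^ 4 = 16 by norm_num, ← hsyl S]; exact card_dvd_of_le inf_le_left
    obtain ⟨k, hk, hck⟩ := (Nat.dvd_prime_pow Nat.prime_two).1 hd
    have hk3 : k ≤ 3 := by
      by_contra h
      exact hlt (by rw [hck, show k = 4 by omega]; norm_num)
    have hEQ : (S : Subgroup K) ⊓ (T : Subgroup K) = Q' := (eq_of_le_of_card_ge hQS (by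
      rw [hck, hQ'c]
      exact (Nat.pow_le_pow_right (by norm_num) hk3).trans (by norm_num))).symm
    have hmem : ∀ a : A, ((((a : ↥((S : Subgroup K) ⊓ (T : Subgroup K))) : K) : M₂) : G) ∈ ({1, z} : Finset G) := by
      intro a
      have hq : (((a : ↥((S : Subgroup K) ⊓ (T : Subgroup K))) : K)) ∈ Q' := hEQ.le (a : ↥((S : Subgroup K) ⊓ T)).2
      rcases hinv _ hq (by have := congrArg Subtype.val (hA2 _ a.2); rwa [sq] at this) with h | h
      · simp [h]
      · simp [h]
    have := Nat.card_le_card_of_injective (fun a : A => (⟨_, hmem a⟩ : ({1, z} : Finset G)))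
      (fun a b h => Subtype.ext (Subtype.ext (Subtype.ext (Subtype.ext (congrArg (fun w : ({1, z} : Finset G) => (w : G)) h)))))
    rw [Nat.card_eq_fintype_card, Nat.card_eq_fintype_card, Fintype.card_coe] at this
    rw [Nat.card_eq_fintype_card, pow_one]
    exact this.trans Finset.card_le_two
  obtain ⟨ε⟩ : Nonempty (K ≃* K ⧸ Cfsg.oddCore K) :=
    ⟨((QuotientGroup.quotientMulEquivOfEq hcore).trans QuotientGroup.quotientBot).symm⟩
  rcases S3304.result hsol hpr with ⟨P, hP⟩ | hg | ⟨-, -, -, hquat⟩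
  · exfalso
    set S : Sylow 2 K := default
    let T : Sylow 2 K := P.comapOfInjective ε.toMonoidHom ε.injective (fun y _ => ε.surjective y)
    exact hnotn T (hP.comap _)
  · refine ⟨K.map M₂.subtype, ?_, ?_⟩
    · rintro - ⟨a, -, rfl⟩; exact a.2.1.2
    · obtain ⟨g⟩ := hg
      exact ⟨((K.equivMapOfInjective _ M₂.subtype_injective).symm.trans ε).trans g⟩
  · exfalso
    -- a quaternion group has one involution
    have hee2 : IsPGroup 2 (zpowers eK) := by
      refine IsPGroup.of_card_dvd_pow (n := 1) ?_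
      rw [Nat.card_zpowers, pow_one]
      exact orderOf_dvd_of_pow_eq_one (Subtype.ext (Subtype.ext (by rw [sq]; exact hee')))
    obtain ⟨T, hT⟩ := hee2.exists_le_sylow
    have hQT : Q' ≤ (T : Subgroup K) := hQ'p.le_sylow_of_normal T
    let P : Sylow 2 (K ⧸ Cfsg.oddCore K) := T.mapSurjective (f := ε.toMonoidHom) ε.surjective
    obtain ⟨ψ⟩ := hquat P
    let η : ↥(T : Subgroup K) ≃* QuaternionGroup 4 :=
      ((T : Subgroup K).equivMapOfInjective ε.toMonoidHom ε.injective).trans
        ((MulEquiv.subgroupCongr (by rfl)).trans ψ)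
    have huniq : ∀ a b : QuaternionGroup 4, a * a = 1 → b * b = 1 → a ≠ 1 → b ≠ 1 → a = b := by decide +kernel
    obtain ⟨c, hc⟩ := exists_prime_orderOf_dvd_card' (G := ↥Q') 2 (by rw [hQ'c]; norm_num)
    have hcc : c * c = 1 := by rw [← sq, ← hc, pow_orderOf_eq_one]
    have hc1 : c ≠ 1 := fun h => by rw [h, orderOf_one] at hc; omega
    have h := huniq (η ⟨eK, hT (mem_zpowers eK)⟩) (η ⟨c, hQT c.2⟩)
      (by rw [← map_mul, show (⟨eK, hT (mem_zpowers eK)⟩ : ↥(T : Subgroup K)) * ⟨eK, hT (mem_zpowers eK)⟩ = 1 from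
        Subtype.ext (Subtype.ext (Subtype.ext hee')), map_one])
      (by rw [← map_mul, show (⟨(c : K), hQT c.2⟩ : ↥(T : Subgroup K)) * ⟨(c : K), hQT c.2⟩ = 1 from
        Subtype.ext (congrArg (fun w : Q' => (w : K)) hcc), map_one])
      (fun h => by
        have h1 := η.injective (h.trans (map_one η).symm)
        have h2 : e' = 1 := congrArg (fun w : ↥(T : Subgroup K) => (((w : K) : M₂) : G)) h1
        rw [h2, one_mul, inv_one, mul_one] at her'
        exact hr2 her'.symm)
      (fun h => hc1 (Subtype.ext (congrArg (fun w : ↥(T : Subgroup K) => (w : K)) (η.injective (h.trans (map_one η).symm)))))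
    have h' : e' = (((c : K) : M₂) : G) :=
      congrArg (fun w : ↥(T : Subgroup K) => (((w : K) : M₂) : G)) (η.injective h)
    have hcr : (((c : K) : M₂) : G) * r = r * (((c : K) : M₂) : G) :=
      mem_centralizer_singleton_iff.1 (hQle c.2).2
    rw [h', hcr, mul_inv_cancel_right] at her'
    exact hr2 her'.symm

end Cfsg.Agent.J4Type.Eleven
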