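import Cfsg.Agent.J4Type.V11.CentT
import Cfsg.Agent.J4Type.Base
import Cfsg.Agent.J4Type.Rep.Eleven
import Cfsg.Agent.BlockApp.M24Cent

/-!
# The elements of order eleven in the centralisers of the two involutions

In the centraliser of `z` there is an element `r` of order eleven whose centraliser there has order
264, has `z` as its only involution and as a commutator, and which is conjugate to its square.  In
the centraliser of `tt` the centraliser of every element of order eleven has order dividing 22.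
-/

set_option autoImplicit false
set_option maxRecDepth 100000

open Cfsg Subgroup

namespace Cfsg.Agent.J4Type.V11

open LargeExtra (oc oc_le oc_conj_mem)
open Rep Orbits
open Cfsg.Agent.Compute (allBelow allBelow_eq_true)

/-- The images of the first ten codes under a map commuting with `Xm` and sending the first to `c`. -/
noncomputable def orbL (c : ℕ) : List ℕ := (List.range 10).map fun i => (app Xm)^[i] c

theorem xm_fix : ((List.range 4096).filter fun v => Nat.beq (app Xm v) v) = [0, 1024, 2048, 3072] := by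
  decide +kernel

theorem xm_qb : (Orbits.qb 1024 && Orbits.qb 2048 && Orbits.qb 3072 && Orbits.bv 1024 2048) = true := by
  decide +kernel

theorem xm_shift : allBelow 9 (fun i => Nat.beq (app Xm (2 ^ i)) (2 ^ (i + 1))) = true := by decide +kernel

theorem xm_semi : allBelow 4096
    (fun c => Nat.beq c 0 || !Nat.beq (app Wm (app (orbL c) (app Wm 1))) c) = true := by
  decide +kernel

theorem xm_low : (Nat.blt (app Wm 1) 1024 && eqM (code [0]) Xm && eqM (code (List.replicate 11 0)) idM &&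
    !Nat.beq (app Xm 1) 1) = true := by decide +kernel

theorem xm_double : eqM (comp (comp Sg (code [1, 1, 1])) Xm)
    (comp (comp Xm Xm) (comp Sg (code [1, 1, 1]))) = true := by decide +kernel

/-- An element of order eleven of a subgroup of `M24` whose order has no square of eleven has a
centraliser of order dividing eleven. -/
theorem card_centralizer_dvd_eleven {H : Type*} [Group H] [Finite H] (f : H →* ↥M24)
    (hf : Function.Injective f) (hH : ¬ 11 ^ 2 ∣ Nat.card H) {x : H} (hx : orderOf x = 11) :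
    Nat.card ↥(centralizer ({x} : Set H)) ∣ 11 := by
  have hall : ∀ {s : ℕ}, s.Prime → s ∣ Nat.card ↥(centralizer ({x} : Set H)) → s = 11 := by
    intro s hs hsd
    have := Fact.mk hs
    obtain ⟨y, hy⟩ := exists_prime_orderOf_dvd_card' s hsd
    have hc : Commute x (y : H) := (mem_centralizer_singleton_iff.1 y.2).symm
    exact BlockApp.M24Cent.big_prime (f x) (f y) (hc.map f) (Or.inl rfl) hs
      (by rw [orderOf_injective f hf, hx]) (by rw [orderOf_injective f hf, Subgroup.orderOf_coe, hy])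
  have h := Nat.eq_prime_pow_of_unique_prime_dvd Nat.card_pos.ne' hall
  rw [h]
  conv_rhs => rw [← pow_one 11]
  refine Nat.pow_dvd_pow 11 ?_
  by_contra hk
  exact hH ((Nat.pow_dvd_pow 11 (show 2 ≤ _ by omega)).trans (h ▸ card_subgroup_dvd_card _))

variable {G : Type*} [Group G] [Finite G] {z : G} {P : Subgroup G} {V : Type*} [AddCommGroup V]
  {π : ↥(oc z) →* Multiplicative V} {ρ : ↥(mSub z P) →* Equiv.Perm V} {q : V → ZMod 2} {B : List V}

namespace Sys

variable (S : Sys z P π ρ q B)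
include S

theorem z_pow_eleven : z ^ 11 = z := by
  rw [show (11 : ℕ) = 2 * 5 + 1 from rfl, pow_succ, pow_mul, pow_two, S.D.zz, one_pow, one_mul]

theorem act_pow {m : G} (hm : m ∈ mSub z P) : ∀ k : ℕ, act ρ (m ^ k) = act ρ m ^ k
  | 0 => by rw [pow_zero, pow_zero, act_one]
  | k + 1 => by rw [pow_succ, pow_succ, act_mul (pow_mem hm k) hm, act_pow hm k]

/-- Two elements with eleventh power one and the same action are equal. -/
theorem eq_of_act {a b : G} (ha : a ∈ mSub z P) (hb : b ∈ mSub z P) (ha11 : a ^ 11 = 1)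
    (hb11 : b ^ 11 = 1) (h : act ρ a = act ρ b) : a = b := by
  have h1 : act ρ (b⁻¹ * a) = 1 := by rw [act_mul (inv_mem hb) ha, act_inv hb, h, inv_mul_cancel]
  rcases (S.D.act_eq_one (mul_mem (inv_mem hb) ha)).1 h1 with e | e
  · exact (inv_mul_eq_one.1 e).symm
  · exfalso
    rw [inv_mul_eq_iff_eq_mul] at e
    rw [e, (S.D.comm_z hb.1).mul_pow, hb11, one_mul, S.z_pow_eleven] at ha11
    exact S.D.z_ne ha11

/-- An element of order eleven acting as `Xm`. -/
theorem exists_x : ∃ r ∈ cSub z P, orderOf r = 11 ∧ Orbits.PActs B (act ρ r) Xm := by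
  have hlow := xm_low
  simp only [Bool.and_eq_true, Bool.not_eq_true', eqM_iff] at hlow
  obtain ⟨⟨⟨-, h0⟩, h11⟩, hne⟩ := hlow
  obtain ⟨n, hn, hnX⟩ := S.lift_word [0]
  rw [h0] at hnX
  have hnM : n ∈ mSub z P := cSub_le_mSub z P hn
  have hpow : ∀ k, Orbits.PActs B (act ρ n ^ k) (code (List.replicate k 0)) := by
    intro k
    induction k with
    | zero => exact S.M.acts_idM
    | succ k ih => rw [pow_succ']; exact hnX.mul ih
  have hact : act ρ (n ^ 11) = 1 := by
    rw [S.act_pow hnM]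
    exact S.M.acts_eq (h11 ▸ hpow 11) S.M.acts_idM
  have hr : act ρ (n ^ 12) = act ρ n := by
    rw [pow_succ, act_mul (pow_mem hnM 11) hnM, hact, one_mul]
  have h12 : (n ^ 12) ^ 11 = 1 := by
    rw [← pow_mul, mul_comm, pow_mul]
    rcases (S.D.act_eq_one (pow_mem hnM 11)).1 hact with e | e <;> rw [e]
    · exact one_pow 12
    · rw [show (12 : ℕ) = 2 * 6 from rfl, pow_mul, pow_two, S.D.zz, one_pow]
  have : Fact (Nat.Prime 11) := ⟨by norm_num⟩
  refine ⟨n ^ 12, pow_mem hn 12, orderOf_eq_prime h12 fun e => ?_, hr.symm ▸ hnX⟩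
  rw [e, act_one] at hr
  have h := S.M.code_unique (hr ▸ hnX) S.M.acts_idM (goodM_iff.2 (by decide +kernel)) Orbits.good_idM
  rw [h] at hne
  exact absurd hne (by decide +kernel)

variable {r : G} (hr : r ∈ cSub z P) (hro : orderOf r = 11) (hrX : Orbits.PActs B (act ρ r) Xm)

include hr hrX in
theorem comm_code {e : G} (he : e ∈ oc z) {v : ℕ} (hv : v < 4096) (hve : vec π e = Rep.lin B v)
    (hc : Commute r e) : v ∈ [0, 1024, 2048, 3072] := by
  have h := S.vec_conj_code (cSub_le_mSub z P hr) hrX he hve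
  rw [hc.eq, mul_inv_cancel_right, hve] at h
  rw [← xm_fix, List.mem_filter]
  refine ⟨List.mem_range.2 hv, Nat.beq_eq.symm ▸ ?_⟩
  exact (S.lin_lt_inj hv (Orbits.app_lt_of_good (by decide +kernel) v) h).symm

include hr hro hrX in
theorem comm_of_code {e : G} (he : e ∈ oc z) {v : ℕ} (hve : vec π e = Rep.lin B v)
    (hv : app Xm v = v) : Commute r e := by
  have hrM : r ∈ mSub z P := cSub_le_mSub z P hr
  have h := S.vec_conj_code hrM hrX he hve
  rw [hv, ← hve] at h
  rcases S.D.vec_eq (oc_conj_mem hrM.1 he) he h with e1 | e1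
  · exact mul_inv_eq_iff_eq_mul.1 e1
  · exfalso
    have key : ∀ k : ℕ, r ^ k * e * (r ^ k)⁻¹ = e * z ^ k := by
      intro k
      induction k with
      | zero => simp
      | succ k ih =>
        rw [show r ^ (k + 1) * e * (r ^ (k + 1))⁻¹ = r * (r ^ k * e * (r ^ k)⁻¹) * r⁻¹ by group, ih,
          show r * (e * z ^ k) * r⁻¹ = r * e * r⁻¹ * (r * z ^ k * r⁻¹) by group, e1,
          ((S.D.comm_z hrM.1).pow_right k).eq, mul_inv_cancel_right, mul_assoc, ← pow_succ']
    have h11 := key 11
    rw [← hro, pow_orderOf_eq_one, hro, one_mul, inv_one, mul_one, S.z_pow_eleven] at h11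
    exact S.D.z_ne (left_eq_mul.1 h11)

include hr hro hrX in
theorem card_cent_oc : Nat.card ↥(oc z ⊓ centralizer ({r} : Set G)) = 8 := by
  set K := oc z ⊓ centralizer ({r} : Set G) with hK
  have hzK : z ∈ K := ⟨S.D.z_mem,
    mem_centralizer_singleton_iff.2 (S.D.comm_z (cSub_le_mSub z P hr).1).symm.eq⟩
  set φ : ↥K →* Multiplicative V := π.comp (inclusion inf_le_left) with hφ
  have hker : φ.ker.map K.subtype = zpowers z := by
    ext x
    constructor
    · rintro ⟨k, hk, rfl⟩
      exact (S.D.ker _).1 hk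
    · intro hx
      have hxK : x ∈ K := (zpowers_le.2 hzK) hx
      exact ⟨⟨x, hxK⟩, (S.D.ker _).2 hx, rfl⟩
  have hk2 : Nat.card φ.ker = 2 := by
    rw [← card_map_of_injective (K := φ.ker) K.subtype_injective, hker, Nat.card_zpowers]
    exact S.D.hJ.1
  have hrange : Nat.card φ.range = 4 := by
    have hlt : ∀ i : Fin 4, 1024 * i.val < 4096 := fun i => by omega
    have hmem : ∀ i : Fin 4, Multiplicative.ofAdd (Rep.lin B (1024 * i.val)) ∈ φ.range := by
      intro i
      have hfix : app Xm (1024 * i.val) = 1024 * i.val := by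
        revert i
        decide +kernel
      obtain ⟨e, he, hve⟩ := S.exists_code (1024 * i.val)
      have hc := S.comm_of_code hr hro hrX he hve hfix
      refine ⟨⟨e, he, mem_centralizer_singleton_iff.2 hc.symm.eq⟩, ?_⟩
      rw [← hve, vec_of_mem he]
      rfl
    refine ((Nat.card_fin 4).symm.trans ?_).symm
    refine Nat.card_eq_of_bijective (fun i => (⟨_, hmem i⟩ : φ.range)) ⟨fun i j h => ?_, ?_⟩
    · have := S.lin_lt_inj (hlt i) (hlt j) (Multiplicative.ofAdd.injective (congrArg Subtype.val h))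
      exact Fin.ext (by omega)
    · rintro ⟨_, ⟨k, rfl⟩⟩
      obtain ⟨v, hv, hve⟩ := S.M.code_cases (vec π (k : G))
      have h4 := S.comm_code hr hrX k.2.1 hv hve.symm (mem_centralizer_singleton_iff.1 k.2.2).symm
      have hφk : φ k = Multiplicative.ofAdd (Rep.lin B v) := by
        rw [hve, vec_of_mem k.2.1]
        rfl
      simp only [List.mem_cons, List.not_mem_nil, or_false] at h4
      rcases h4 with rfl | rfl | rfl | rfl
      · exact ⟨0, Subtype.ext hφk.symm⟩
      · exact ⟨1, Subtype.ext hφk.symm⟩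
      · exact ⟨2, Subtype.ext hφk.symm⟩
      · exact ⟨3, Subtype.ext hφk.symm⟩
  rw [← card_mul_index φ.ker, index_ker, hk2, hrange]

include hr hrX in
theorem sq_cent_oc {x : G} (hx : x ∈ oc z) (hc : Commute r x) (h2 : x * x = 1) : x = 1 ∨ x = z := by
  obtain ⟨v, hv, hve⟩ := S.M.code_cases (vec π x)
  have h4 := S.comm_code hr hrX hx hv hve.symm hc
  have hsq := S.sq_code hx hv hve.symm
  rw [h2] at hsq
  have hv0 : v = 0 := by
    by_contra hne
    have hq := xm_qb
    simp only [Bool.and_eq_true] at hq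
    simp only [List.mem_cons, List.not_mem_nil, or_false] at h4
    rcases h4 with rfl | rfl | rfl | rfl
    · exact hne rfl
    · rw [hq.1.1.1] at hsq; exact S.D.z_ne hsq.symm
    · rw [hq.1.1.2] at hsq; exact S.D.z_ne hsq.symm
    · rw [hq.1.2] at hsq; exact S.D.z_ne hsq.symm
  exact (S.D.vec_eq_zero hx).1 (by rw [← hve, hv0, Rep.lin_zero])

include hr hro hrX in
theorem exists_commutator : ∃ e ∈ centralizer ({z} : Set G) ⊓ centralizer ({r} : Set G),
    ∃ f ∈ centralizer ({z} : Set G) ⊓ centralizer ({r} : Set G), e * f * e⁻¹ * f⁻¹ = z := by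
  have hfix : app Xm 1024 = 1024 ∧ app Xm 2048 = 2048 := by decide +kernel
  obtain ⟨e, he, hve⟩ := S.exists_code 1024
  obtain ⟨f, hf, hvf⟩ := S.exists_code 2048
  refine ⟨e, ⟨oc_le z he, mem_centralizer_singleton_iff.2 (S.comm_of_code hr hro hrX he hve hfix.1).symm.eq⟩,
    f, ⟨oc_le z hf, mem_centralizer_singleton_iff.2 (S.comm_of_code hr hro hrX hf hvf hfix.2).symm.eq⟩, ?_⟩
  have hq := xm_qb
  simp only [Bool.and_eq_true] at hq
  rw [S.conj_code he hf (by norm_num) (by norm_num) hve hvf, hq.2]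
  show f * z * f⁻¹ = z
  rw [(S.D.comm_z (oc_le z hf)).eq, mul_inv_cancel_right]

include hrX in
/-- A map commuting with that of `Xm` lies in the inner group. -/
theorem mem_cSub_of_comm {m : G} (hm : m ∈ mSub z P) (h : act ρ m * act ρ r = act ρ r * act ρ m) :
    m ∈ cSub z P := by
  by_contra hmc
  obtain ⟨p, hp, hpW⟩ := S.exists_scalar
  have hpM : p ∈ mSub z P := S.P_le hp
  have hinv : act ρ m * act ρ p = (act ρ p)⁻¹ * act ρ m := by
    rw [← act_inv hpM, ← act_mul hm hpM, ← act_mul (inv_mem hpM) hm,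
      mul_inv_eq_iff_eq_mul.1 (S.D.inverts m hm hmc p hp)]
  have hlin : ∀ a b : ℕ, Rep.lin B (a ^^^ b) = Rep.lin B a + Rep.lin B b := Rep.lin_xor S.M.two B
  obtain ⟨c, hc, hca⟩ := S.M.code_cases (act ρ m (Rep.lin B 1))
  have hpow : ∀ i < 10, act ρ m (Rep.lin B (2 ^ i)) = Rep.lin B ((app Xm)^[i] c) := by
    intro i
    induction i with
    | zero => intro _; exact hca.symm
    | succ i ih =>
      intro hi
      have hs := allBelow_eq_true.1 xm_shift i (by omega)
      rw [← beq_nat hs, ← hrX, ← Equiv.Perm.mul_apply, h, Equiv.Perm.mul_apply, ih (by omega), hrX,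
        Function.iterate_succ_apply']
  have hlow : ∀ v < 2 ^ 10, act ρ m (Rep.lin B v) = Rep.lin B (app (orbL c) v) := by
    refine bitInd 10 ?_ (fun a b _ _ ha hb => ?_) fun i hi => ?_
    · rw [Rep.app_zero, Rep.lin_zero, S.D.act_zero hm]
    · rw [hlin, S.D.act_add hm, ha, hb, Rep.app_xor, hlin]
    · rw [hpow i hi, Orbits.app_two_pow (orbL c) i (by simp [orbL, hi])]
      simp only [orbL, List.getElem_map, List.getElem_range]
  have h1 := xm_low
  simp only [Bool.and_eq_true] at h1
  have key : app Wm (app (orbL c) (app Wm 1)) = c := by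
    refine S.lin_lt_inj (Orbits.app_lt_of_good (by decide +kernel) _) hc ?_
    rw [← hpW, ← hlow _ (blt_nat h1.1.1.1), ← hpW, ← Equiv.Perm.mul_apply (act ρ m), hinv,
      Equiv.Perm.mul_apply, Equiv.Perm.inv_def, Equiv.apply_symm_apply, hca]
  have hb := allBelow_eq_true.1 xm_semi c hc
  rw [key, Nat.beq_refl, Bool.not_true, Bool.or_false] at hb
  rw [beq_nat hb, Rep.lin_zero] at hca
  have h0 : Rep.lin B 1 = 0 := (act ρ m).injective (hca.symm.trans (S.D.act_zero hm).symm)
  exact absurd (S.lin_lt_inj (a := 1) (b := 0) (by norm_num) (by norm_num) (h0.trans (Rep.lin_zero B).symm))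
    one_ne_zero

include hr hro in
theorem card_cent_cSub : Nat.card ↥(cSub z P ⊓ centralizer ({r} : Set G)) = 66 := by
  set K := cSub z P ⊓ centralizer ({r} : Set G) with hK
  obtain ⟨πc, pc, -, hker⟩ := Base.exists_cover_mem (z := z) (P := P) S.D.hJ
  have hKC : K ≤ Base.CP z P := fun x hx => hx.1
  set f : ↥K →* ↥Spor.M22 := (πc.comp (QuotientGroup.mk' (Base.Zc z P))).comp (inclusion hKC) with hf
  have hrK : r ∈ K := ⟨hr, mem_centralizer_singleton_iff.2 rfl⟩
  have hP3 : Nat.card ↥P = 3 := S.D.hJ.2.2.2.2.2.1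
  have hkerle : Nat.card f.ker ≤ 6 := by
    have hdec : ∀ k : ↥f.ker, ∃ d : ↥(zpowers z) × ↥P, ((k : ↥K) : G) = (d.1 : G) * d.2 := by
      intro k
      obtain ⟨e, he, p, hp, h⟩ := hker (inclusion hKC k.1) k.2
      exact ⟨⟨⟨e, he⟩, ⟨p, hp⟩⟩, h⟩
    choose d hd using hdec
    have hle := Nat.card_le_card_of_injective d fun a b h =>
      Subtype.ext (Subtype.ext (by rw [hd a, hd b, h]))
    rw [Nat.card_prod, Nat.card_zpowers, hP3, show orderOf z = 2 from S.D.hJ.1] at hle
    exact hle
  set x := f ⟨r, hrK⟩ with hx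
  have hxo : orderOf x = 11 := by
    have : Fact (Nat.Prime 11) := ⟨by norm_num⟩
    refine orderOf_eq_prime ?_ fun h1 => ?_
    · rw [hx, ← map_pow, show (⟨r, hrK⟩ : ↥K) ^ 11 = 1 from Subtype.ext (by
        rw [SubmonoidClass.coe_pow, ← hro, pow_orderOf_eq_one]; rfl), map_one]
    · obtain ⟨e, he, p, hp, h⟩ := hker (inclusion hKC ⟨r, hrK⟩) h1
      have h6 : r ^ 6 = 1 := by
        rw [show r = e * p from h, (show Commute e p from ?_).mul_pow,
          show (6 : ℕ) = 3 * 2 from rfl]
        · rw [pow_mul p, show p ^ 3 = 1 from by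
            rw [← hP3]
            exact congrArg Subtype.val (pow_card_eq_one' (x := (⟨p, hp⟩ : ↥P))), one_pow, mul_one,
            mul_comm, pow_mul]
          rcases S.D.mem_zp.1 he with rfl | rfl
          · rw [one_pow, one_pow]
          · rw [pow_two, S.D.zz, one_pow]
        · rcases S.D.mem_zp.1 he with rfl | rfl
          · exact Commute.one_left p
          · exact (S.D.comm_z (S.P_le hp).1).symm
      have := orderOf_dvd_of_pow_eq_one h6
      rw [hro] at this
      norm_num at this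
  have hrange : Nat.card f.range ∣ 11 := by
    have hle : f.range ≤ centralizer ({x} : Set ↥Spor.M22) := by
      rintro _ ⟨k, rfl⟩
      refine mem_centralizer_singleton_iff.2 ?_
      rw [hx, ← map_mul, ← map_mul]
      exact congrArg f (Subtype.ext (mem_centralizer_singleton_iff.1 k.2.2))
    refine (card_dvd_of_le hle).trans ?_
    exact card_centralizer_dvd_eleven
      (inclusion (show Spor.M22 ≤ Cfsg.M24 from inf_le_left.trans inf_le_left))
      (inclusion_injective _) (by rw [Compute.card_m22]; norm_num) hxo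
  have hle : Nat.card ↥K ≤ 66 := by
    rw [← card_mul_index f.ker, index_ker]
    exact (Nat.mul_le_mul hkerle (Nat.le_of_dvd (by norm_num) hrange)).trans le_rfl
  have hzK : z ∈ K := by
    refine ⟨⟨mem_centralizer_singleton_iff.2 rfl, mem_centralizer_iff.2 fun p hp => ?_⟩, ?_⟩
    · exact (S.D.comm_z (S.P_le hp).1).eq
    · exact mem_centralizer_singleton_iff.2 (S.D.comm_z hr.1).symm.eq
  have hPK : P ≤ K := by
    have : IsCyclic ↥P := isCyclic_of_prime_card (p := 3) (hp := ⟨by norm_num⟩) hP3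
    letI := IsCyclic.commGroup (α := ↥P)
    refine fun p hp => ⟨⟨(S.P_le hp).1, mem_centralizer_iff.2 fun p' hp' => ?_⟩, ?_⟩
    · exact congrArg Subtype.val (mul_comm (⟨p', hp'⟩ : ↥P) ⟨p, hp⟩)
    · exact mem_centralizer_singleton_iff.2 (mem_centralizer_iff.1 hr.2 p hp)
  have h66 : 66 ∣ Nat.card ↥K := by
    have h2 := K.orderOf_dvd_natCard hzK
    have h3 := card_dvd_of_le hPK
    have h11 := K.orderOf_dvd_natCard hrK
    rw [show orderOf z = 2 from S.D.hJ.1] at h2
    rw [hP3] at h3
    rw [hro] at h11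
    omega
  have := Nat.le_of_dvd Nat.card_pos h66
  omega

include hr hro hrX in
theorem cent_data : Nat.card ↥(centralizer ({z} : Set G) ⊓ centralizer ({r} : Set G)) = 264 ∧
    ∀ x ∈ centralizer ({z} : Set G) ⊓ centralizer ({r} : Set G), x * x = 1 → x = 1 ∨ x = z := by
  set H := centralizer ({z} : Set G)
  set L := H ⊓ centralizer ({r} : Set G) with hL
  set K := cSub z P ⊓ centralizer ({r} : Set G) with hK
  have hrM : r ∈ mSub z P := cSub_le_mSub z P hr
  have hKH : K ≤ H := fun x hx => hx.1.1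
  set ψ : ↥L →* Equiv.Perm V := (ActData.linHom S.D).comp (inclusion inf_le_left) with hψ
  set ψ' : ↥K →* Equiv.Perm V := (ActData.linHom S.D).comp (inclusion hKH) with hψ'
  have hrange : ψ.range = ψ'.range := by
    refine le_antisymm ?_ ?_
    · rintro _ ⟨⟨h, hhH, hhr⟩, rfl⟩
      obtain ⟨e, he, m, hm, rfl, hl, -⟩ := S.D.exists_parts hhH
      have hc : Commute (e * m) r := mem_centralizer_singleton_iff.1 hhr
      have hcomm : act ρ m * act ρ r = act ρ r * act ρ m := by
        have h1 := congrArg (J4Type.lin ρ) hc.eq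
        rw [(S.D.lin_mul hhH hrM.1).1, (S.D.lin_mul hrM.1 hhH).1, hl, (S.D.lin_mSub hrM).1] at h1
        exact h1
      have hmC := S.mem_cSub_of_comm hrX hm hcomm
      have hr11 : r ^ 11 = 1 := hro ▸ pow_orderOf_eq_one r
      have hconj : m * r * m⁻¹ = r := by
        refine S.eq_of_act (mul_mem (mul_mem hm hrM) (inv_mem hm)) hrM ?_ hr11 ?_
        · rw [conj_pow, hr11, mul_one, mul_inv_cancel]
        · rw [act_mul (mul_mem hm hrM) (inv_mem hm), act_mul hm hrM, act_inv hm, hcomm,
            mul_inv_cancel_right]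
      refine ⟨⟨m, hmC, mem_centralizer_singleton_iff.2 (mul_inv_eq_iff_eq_mul.1 hconj)⟩, ?_⟩
      show J4Type.lin ρ m = J4Type.lin ρ (e * m)
      rw [hl, (S.D.lin_mSub hm).1]
    · rintro _ ⟨k, rfl⟩
      exact ⟨⟨k, hKH k.2, k.2.2⟩, rfl⟩
  have hk' : ψ'.ker.map K.subtype = zpowers z := by
    ext x
    constructor
    · rintro ⟨k, hk, rfl⟩
      have hk' : J4Type.lin ρ (k : G) = 1 := hk
      exact S.D.inf_eq.le ⟨(S.D.lin_eq_one (hKH k.2)).1 hk', cSub_le_mSub z P k.2.1⟩
    · intro hx
      have hxz := S.D.inf_eq.ge hx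
      have hxK : x ∈ K := by
        rcases S.D.mem_zp.1 hx with rfl | rfl
        · exact one_mem _
        · refine ⟨⟨mem_centralizer_singleton_iff.2 rfl, mem_centralizer_iff.2 fun p hp => ?_⟩,
            mem_centralizer_singleton_iff.2 (S.D.comm_z hrM.1).symm.eq⟩
          exact (S.D.comm_z (S.P_le hp).1).eq
      exact ⟨⟨x, hxK⟩, (S.D.lin_eq_one (hKH hxK)).2 hxz.1, rfl⟩
  have hR : Nat.card ψ.range = 33 := by
    have h := card_mul_index ψ'.ker
    rw [index_ker, ← card_map_of_injective (K := ψ'.ker) K.subtype_injective, hk', Nat.card_zpowers,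
      show orderOf z = 2 from S.D.hJ.1,
      show Nat.card ↥K = 66 from S.card_cent_cSub hr hro] at h
    rw [hrange]
    omega
  have hk : ψ.ker.map L.subtype = oc z ⊓ centralizer ({r} : Set G) := by
    ext x
    constructor
    · rintro ⟨k, hk, rfl⟩
      exact ⟨(S.D.lin_eq_one k.2.1).1 hk, k.2.2⟩
    · rintro ⟨hx, hxr⟩
      exact ⟨⟨x, oc_le z hx, hxr⟩, (S.D.lin_eq_one (oc_le z hx)).2 hx, rfl⟩
  refine ⟨?_, fun x hx h2 => ?_⟩
  · rw [← card_mul_index ψ.ker, index_ker, ← card_map_of_injective (K := ψ.ker) L.subtype_injective,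
      hk, S.card_cent_oc hr hro hrX, hR]
  · have h1 : ψ ⟨x, hx⟩ ^ 2 = 1 := by
      rw [← map_pow, show (⟨x, hx⟩ : ↥L) ^ 2 = 1 from Subtype.ext ((pow_two x).trans h2), map_one]
    have h33 : orderOf (ψ ⟨x, hx⟩) ∣ 33 := hR ▸ ψ.range.orderOf_dvd_natCard ⟨_, rfl⟩
    have hker : ψ ⟨x, hx⟩ = 1 :=
      orderOf_eq_one_iff.1 (Nat.dvd_one.1 ((by norm_num : Nat.gcd 2 33 = 1) ▸
        Nat.dvd_gcd (orderOf_dvd_of_pow_eq_one h1) h33))
    exact S.sq_cent_oc hr hrX ((S.D.lin_eq_one hx.1).1 hker)
      (mem_centralizer_singleton_iff.1 hx.2).symm h2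

include hr hro hrX in
theorem exists_double : ∃ g ∈ centralizer ({z} : Set G), g * r * g⁻¹ = r ^ 2 := by
  obtain ⟨σ, hσ, hσS⟩ := S.M.exists_sigma
  obtain ⟨n, hn, hnY⟩ := S.lift_word [1, 1, 1]
  obtain ⟨m, hm, hmγ⟩ := S.lift (mul_mem hσ (S.act_range (cSub_le_mSub z P hn)))
  have hrM : r ∈ mSub z P := cSub_le_mSub z P hr
  have hcomm : act ρ m * act ρ r = act ρ r * act ρ r * act ρ m := by
    rw [hmγ]
    exact S.M.acts_eq (eqM_iff.1 xm_double ▸ (hσS.mul hnY).mul hrX) ((hrX.mul hrX).mul (hσS.mul hnY))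
  have hr11 : r ^ 11 = 1 := hro ▸ pow_orderOf_eq_one r
  refine ⟨m, hm.1, S.eq_of_act (mul_mem (mul_mem hm hrM) (inv_mem hm)) (pow_mem hrM 2) ?_ ?_ ?_⟩
  · rw [conj_pow, hr11, mul_one, mul_inv_cancel]
  · rw [← pow_mul, mul_comm, pow_mul, hr11, one_pow]
  · rw [act_mul (mul_mem hm hrM) (inv_mem hm), act_mul hm hrM, act_inv hm, hcomm,
      mul_inv_cancel_right, pow_two, act_mul hrM hrM]

omit hr hro hrX in
/-- **The element of order eleven in the centraliser of `z`.** -/
theorem exists_eleven : ∃ r ∈ centralizer ({z} : Set G), orderOf r = 11 ∧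
    Nat.card ↥(centralizer ({z} : Set G) ⊓ centralizer ({r} : Set G)) = 264 ∧
    (∀ x ∈ centralizer ({z} : Set G) ⊓ centralizer ({r} : Set G), x * x = 1 → x = 1 ∨ x = z) ∧
    (∃ e ∈ centralizer ({z} : Set G) ⊓ centralizer ({r} : Set G),
      ∃ f ∈ centralizer ({z} : Set G) ⊓ centralizer ({r} : Set G), e * f * e⁻¹ * f⁻¹ = z) ∧
    ∃ g ∈ centralizer ({z} : Set G), g * r * g⁻¹ = r ^ 2 := by
  obtain ⟨r, hr, hro, hrX⟩ := S.exists_x
  exact ⟨r, hr.1, hro, (S.cent_data hr hro hrX).1, (S.cent_data hr hro hrX).2,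
    S.exists_commutator hr hro hrX, S.exists_double hr hro hrX⟩

end Sys

namespace Frame

variable {S : Sys z P π ρ q B} (F : Frame S)

/-- **The elements of order eleven in the centraliser of `tt`.** -/
theorem card_cent_eleven (hF : F.Good) {y : G} (hy : y ∈ F.lc) (ho : orderOf y = 11) :
    Nat.card ↥(F.lc ⊓ centralizer ({y} : Set G)) ∣ 22 := by
  set C := F.lc ⊓ centralizer ({y} : Set G) with hC
  have hCN : C ≤ F.nrm := inf_le_left.trans (F.cent_le_nrm hF)
  set n : ↥F.nrm := ⟨y, F.cent_le_nrm hF hy⟩ with hn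
  set θ : ↥C →* ↥M24 := (F.theta hF).comp (inclusion hCN) with hθ
  have hyg : y ∉ F.grp := fun h => by
    have hd := F.grp.orderOf_dvd_natCard h
    rw [ho, F.card_grp] at hd
    norm_num at hd
  have hny : orderOf (F.theta hF n) = 11 := by
    have : Fact (Nat.Prime 11) := ⟨by norm_num⟩
    refine orderOf_eq_prime ?_ fun h => hyg ?_
    · rw [← map_pow, show n ^ 11 = 1 from Subtype.ext (by
        rw [SubmonoidClass.coe_pow, hn, ← ho, pow_orderOf_eq_one]; rfl), map_one]
    · exact mem_subgroupOf.1 ((F.theta_ker hF).le h)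
  have hrange : Nat.card θ.range ∣ 11 := by
    have hle : θ.range ≤ centralizer ({F.theta hF n} : Set ↥M24) := by
      rintro _ ⟨k, rfl⟩
      refine mem_centralizer_singleton_iff.2 ?_
      show F.theta hF _ * F.theta hF n = F.theta hF n * F.theta hF _
      rw [← map_mul, ← map_mul]
      exact congrArg _ (Subtype.ext (mem_centralizer_singleton_iff.1 k.2.2))
    exact (card_dvd_of_le hle).trans (card_centralizer_dvd_eleven (MonoidHom.id _)
      Function.injective_id (by rw [Compute.card_m24]; norm_num) hny)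
  have hker : θ.ker.map C.subtype = F.grp ⊓ C := by
    ext x
    constructor
    · rintro ⟨k, hk, rfl⟩
      exact ⟨mem_subgroupOf.1 ((F.theta_ker hF).le (hk : inclusion hCN k ∈ (F.theta hF).ker)), k.2⟩
    · rintro ⟨hx, hxC⟩
      exact ⟨⟨x, hxC⟩, (F.theta_ker hF).ge (mem_subgroupOf.2 hx : (⟨x, hCN hxC⟩ : ↥F.nrm) ∈ F.grp.subgroupOf F.nrm), rfl⟩
  have hk2 : Nat.card ↥(F.grp ⊓ C) = 2 := by
    let f : ↥F.grp → ↥F.grp := fun a => ⟨y * a * y⁻¹, F.conj_mem n.2 a.2⟩
    have hit : ∀ (k : ℕ) (a : ↥F.grp), ((f^[k] a : ↥F.grp) : G) = y ^ k * a * (y ^ k)⁻¹ := by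
      intro k a
      induction k with
      | zero => simp
      | succ k ih =>
        rw [Function.iterate_succ_apply']
        show y * (f^[k] a : G) * y⁻¹ = _
        rw [ih]
        group
    have : Fact (Nat.Prime 11) := ⟨by norm_num⟩
    have hm := Rep.card_fixed_modEq (p := 11) (f := f) (funext fun a => Subtype.ext (by
      rw [hit, ← ho, pow_orderOf_eq_one, one_mul, inv_one, mul_one]; rfl))
    have hcard : Nat.card {a : ↥F.grp // f a = a} = Nat.card ↥(F.grp ⊓ C) := by
      refine Nat.card_congr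
        { toFun := fun a => ⟨a.1.1, a.1.2, F.grp_le_lc a.1.2, mem_centralizer_singleton_iff.2
            (mul_inv_eq_iff_eq_mul.1 (congrArg Subtype.val a.2)).symm⟩
          invFun := fun b => ⟨⟨b.1, b.2.1⟩, Subtype.ext ?_⟩
          left_inv := fun a => rfl
          right_inv := fun b => rfl }
      show y * b.1 * y⁻¹ = b.1
      rw [← mem_centralizer_singleton_iff.1 b.2.2.2, mul_inv_cancel_right]
    rw [F.card_grp, hcard, Nat.ModEq] at hm
    obtain ⟨j, hj, e⟩ := (Nat.dvd_prime_pow Nat.prime_two).1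
      (F.card_grp ▸ card_dvd_of_le (inf_le_left : F.grp ⊓ C ≤ F.grp))
    rw [e] at hm ⊢
    have hj1 : j = 1 ∨ j = 11 := by
      interval_cases j <;> first | decide | (norm_num at hm)
    rcases hj1 with rfl | rfl
    · exact pow_one 2
    exfalso
    have heq : F.grp ⊓ C = F.grp := eq_of_le_of_card_ge inf_le_left (by rw [e, F.card_grp])
    refine hyg (F.centralizer_grp (mem_centralizer_iff.2 fun a ha => ?_))
    exact mem_centralizer_singleton_iff.1 (heq.ge ha).2.2
  rw [← card_mul_index θ.ker, index_ker, ← card_map_of_injective (K := θ.ker) C.subtype_injective,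
    hker, hk2]
  exact mul_dvd_mul_left 2 hrange

theorem not_four_dvd (hF : F.Good) {y : G} (hy : y ∈ F.lc) (ho : orderOf y = 11) :
    ¬ 4 ∣ Nat.card ↥(F.lc ⊓ centralizer ({y} : Set G)) := fun h => by
  have := h.trans (F.card_cent_eleven hF hy ho)
  norm_num at this

end Frame

end Cfsg.Agent.J4Type.V11
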