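import Cfsg.Agent.J4Type.Eleven.LocalNonabelian
import Cfsg.Agent.J4Type.Eleven.GL23
import Cfsg.Agent.J4Type.Eleven.ModelData
import Cfsg.Agent.J4Type.Order.LargeFacts

/-!
# The 11-local facts in a group of Janko-four type
-/

set_option autoImplicit false

open Cfsg Subgroup

namespace Cfsg.Agent.J4Type.Eleven

open LargeExtra (oc oc_conj_mem oc_le)

universe u

variable {G : Type u} [Group G] [Finite G]

omit [Finite G] in
theorem card_cent_inf_conj (g a b : G) :
    Nat.card ↥(centralizer ({g * a * g⁻¹} : Set G) ⊓ centralizer ({g * b * g⁻¹} : Set G)) =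
      Nat.card ↥(centralizer ({a} : Set G) ⊓ centralizer ({b} : Set G)) := by
  have h : ∀ c x : G, x ∈ centralizer ({g * c * g⁻¹} : Set G) ↔
      g⁻¹ * x * g ∈ centralizer ({c} : Set G) := fun c x => by
    rw [mem_centralizer_singleton_iff, mem_centralizer_singleton_iff]
    constructor
    · intro h
      calc g⁻¹ * x * g * c = g⁻¹ * (x * (g * c * g⁻¹)) * g := by group
        _ = c * (g⁻¹ * x * g) := by rw [h]; group
    · intro h
      calc x * (g * c * g⁻¹) = g * (g⁻¹ * x * g * c) * g⁻¹ := by group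
        _ = g * c * g⁻¹ * x := by rw [h]; group
  exact Nat.card_congr ((MulAut.conj g⁻¹).toEquiv.subtypeEquiv fun x => by
    show x ∈ _ ∧ x ∈ _ ↔ g⁻¹ * x * g⁻¹⁻¹ ∈ _ ∧ g⁻¹ * x * g⁻¹⁻¹ ∈ _
    rw [inv_inv]
    exact and_congr (h a x) (h b x))

/-- Everything the two statements need. -/
theorem exists_local [IsSimpleGroup G] (hG : ¬ IsMulCommutative G) (z : G) (P : Subgroup G)
    (hJ : IsOfJankoFourTypeWith z P) (hcard : Nat.card G = 86775571046077562880) :
    ∃ r : G, Local11 G z r ∧ BigSylow G ∧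
      (∀ y : G, orderOf y = 2 → ¬ IsConj z y → Nat.card (centralizer ({y} : Set G)) = 1816657920) ∧
      (∃ t : G, orderOf t = 2 ∧ ¬ IsConj z t) ∧
      ∃ K : Subgroup G, K ≤ normalizer (zpowers r : Set G) ∧ Nonempty (↥K ≃* GL (Fin 2) (ZMod 3)) := by
  have hfacts := LargePrime.facts_of_card hG z P hJ hcard
  have hcz : Nat.card (centralizer ({z} : Set G)) = 21799895040 := by
    rw [card_centralizer_z hJ]; norm_num
  obtain ⟨B, S⟩ := V11.exists_sys hG hJ
  obtain ⟨F, hF⟩ := V11.Frame.exists_good S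
  obtain ⟨r, hr, hro, hrX⟩ := S.exists_x
  obtain ⟨h264, huniq⟩ := S.cent_data hr hro hrX
  obtain ⟨e, he, f, hf, hef⟩ := S.exists_commutator hr hro hrX
  have hlc : Nat.card ↥F.lc = 1816657920 := (Order.card_lc F hF).trans (by norm_num)
  have hcl : ∀ y : G, orderOf y = 2 → IsConj z y ∨ IsConj F.tt y := fun y hy => by
    obtain ⟨h1, h2⟩ := Invol.orderOf_eq_two_iff.1 hy
    exact F.classes hF h2 h1
  have hct : ∀ y : G, orderOf y = 2 → ¬ IsConj z y →
      Nat.card (centralizer ({y} : Set G)) = 1816657920 := fun y hy hn => by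
    obtain ⟨g, rfl⟩ := isConj_iff.1 ((hcl y hy).resolve_left hn)
    exact (LargePrime.card_centralizer_conj g F.tt).trans hlc
  have L : Local11 G z r :=
    { facts := hfacts
      z_order := hJ.1
      r_order := hro
      comm := (mem_centralizer_singleton_iff.1 hr.1 : Commute r z).symm
      card_z := hcz
      card_zr := h264
      unique := fun y hy hy2 => by
        obtain ⟨h1, h2⟩ := Invol.orderOf_eq_two_iff.1 hy2
        exact (huniq y hy h2).resolve_left h1
      z_comm := by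
        have h := commutator_mem_commutator he hf
        rwa [commutatorElement_def, hef] at h
      aut := by
        obtain ⟨g, hg, h⟩ := S.exists_double hr hro hrX
        exact ⟨g, mem_centralizer_singleton_iff.1 hg, h⟩
      conj_z := fun y hy hc => by
        by_contra hn
        rw [hct y hy hn] at hc
        norm_num at hc
      conj_t := fun y y' hy hy' hn hn' =>
        ((hcl y hy).resolve_left hn).symm.trans ((hcl y' hy').resolve_left hn')
      four := fun t w ht hn hw hc h4 => by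
        obtain ⟨g, rfl⟩ := isConj_iff.1 ((hcl t ht).resolve_left hn)
        have hwl : g⁻¹ * w * g ∈ F.lc := mem_centralizer_singleton_iff.2 (by
          calc g⁻¹ * w * g * F.tt = g⁻¹ * (w * (g * F.tt * g⁻¹)) * g := by group
            _ = F.tt * (g⁻¹ * w * g) := by rw [← hc.eq]; group)
        refine F.not_four_dvd hF hwl (by
          rw [show g⁻¹ * w * g = MulAut.conj g⁻¹ w by simp, MulEquiv.orderOf_eq, hw]) ?_
        have h := card_cent_inf_conj g F.tt (g⁻¹ * w * g)
        rw [show g * (g⁻¹ * w * g) * g⁻¹ = w by group] at h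
        exact h ▸ h4
      big := fun p hp x hx => by
        have h := LargePrime.orders_large hfacts hp hx
        simp only [List.mem_cons, List.not_mem_nil, or_false, Prod.mk.injEq] at h
        omega }
  refine ⟨r, L, fun p hp U => LargePrime.large_prime_sylow hG z P hJ hcard hp U, hct,
    ⟨F.tt, Order.orderOf_tt F, F.not_conj_tt⟩, ?_⟩
  obtain ⟨p, hpP, hp3, -⟩ := Base.exists_gen hJ
  set Q := oc z ⊓ centralizer ({r} : Set G) with hQ
  have hQ8 : Nat.card Q = 8 := S.card_cent_oc hr hro hrX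
  obtain ⟨q, hq, hqp⟩ : ∃ q ∈ Q, ¬ Commute p q := by
    by_contra h
    push Not at h
    obtain ⟨p₀, -, -, hP⟩ := Base.exists_gen hJ
    have hall : ∀ q ∈ Q, ∀ a ∈ P, Commute a q := fun q hq a ha => by
      have hgen : zpowers p = P := eq_of_le_of_card_ge (zpowers_le.2 hpP)
        (by rw [Nat.card_zpowers, hp3, hJ.2.2.2.2.2.1])
      obtain ⟨k, rfl⟩ := (hgen.symm ▸ ha : a ∈ zpowers p)
      exact (h q hq).zpow_left k
    have hle : Q ≤ zpowers z := fun q hq =>
      hJ.2.2.2.2.2.2.1.le ⟨hq.1, mem_centralizer_iff.2 fun a ha => (hall q hq a ha).eq⟩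
    have h' := card_le_of_le hle
    rw [hQ8, Nat.card_zpowers, hJ.1] at h'
    norm_num at h'
  refine L.exists_gl23 Q hQ8 (fun x hx => ⟨oc_le z hx.1, hx.2⟩) ?_ hp3
    ⟨(S.P_le hpP).1, mem_centralizer_singleton_iff.2 (mem_centralizer_iff.1 hr.2 p hpP)⟩ hq hqp
  intro g hg
  refine mem_normalizer_of_conj_mem fun a ha => ⟨oc_conj_mem hg.1 ha.1, mem_centralizer_singleton_iff.2 ?_⟩
  obtain ⟨k, hk⟩ := exists_conj_pow (inv_mem hg.2)
  rw [inv_inv] at hk
  have hc : Commute a (g⁻¹ * r * g) :=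
    hk ▸ (show Commute a r from mem_centralizer_singleton_iff.1 ha.2).pow_right k
  calc g * a * g⁻¹ * r = g * (a * (g⁻¹ * r * g)) * g⁻¹ := by group
    _ = r * (g * a * g⁻¹) := by rw [hc.eq]; group

variable [IsSimpleGroup G]

/-- The Sylow 11-subgroups, granted the order. -/
theorem sylow_eleven (hG : ¬ IsMulCommutative G) (hJ : IsOfJankoFourType G)
    (hcard : Nat.card G = 86775571046077562880) (U : Sylow 11 G) :
    IsExtraspecial 11 ↥(U : Subgroup G) ∧ Nat.card ↥(U : Subgroup G) = 11 ^ 3 ∧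
    Monoid.exponent ↥(U : Subgroup G) = 11 ∧
    Nat.card ↥(normalizer ((U : Subgroup G) : Set G)) = 2 ^ 4 * 3 * 5 * 11 ^ 3 ∧
    ∃ K : Subgroup G, K ≤ normalizer ((U : Subgroup G) : Set G) ∧
      Nonempty (↥K ≃* GL (Fin 2) (ZMod 3)) := by
  obtain ⟨z, P, hP⟩ := hJ
  obtain ⟨r, L, hbig, hct, -, K, hK, ⟨e⟩⟩ := exists_local hG z P hP hcard
  obtain ⟨U₀, hU⟩ := L.exists_syl
  obtain ⟨h1, h2, h3, h4, g, hg⟩ := hU.sylow_structure L (hU.not_comm L hct hbig) U
  refine ⟨h1, h2, h3, h4, K.map (MulAut.conj g).toMonoidHom, hg ▸ map_mono hK, ⟨?_⟩⟩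
  exact (K.equivMapOfInjective _ (MulAut.conj g).injective).symm.trans e

/-- The classes of elements of order eleven, granted the order. -/
theorem classes_eleven (hG : ¬ IsMulCommutative G) (hJ : IsOfJankoFourType G)
    (hcard : Nat.card G = 86775571046077562880) :
    ∃ x y : G, orderOf x = 11 ∧ orderOf y = 11 ∧ ¬ IsConj x y ∧
      ∀ w : G, orderOf w = 11 → IsConj w x ∨ IsConj w y := by
  obtain ⟨z, P, hP⟩ := hJ
  obtain ⟨r, L, hbig, hct, ⟨t, ht, htz⟩, -⟩ := exists_local hG z P hP hcard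
  obtain ⟨U₀, hU⟩ := L.exists_syl
  exact hU.two_classes L hct (hU.not_comm L hct hbig) ht htz

end Cfsg.Agent.J4Type.Eleven
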