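import Mathlib

/-!
# The Sylow 11-subgroup of a group of Janko-four type: the arithmetic certificate

If the Sylow 11-subgroup were abelian, three characters with degrees dividing the group order
would satisfy congruences modulo `1331` and five primes, and a class product equation. No such
degrees exist.
-/

set_option autoImplicit false
set_option maxRecDepth 100000

namespace Cfsg.Agent.J4Type.Eleven

/-- The order of the group. -/
def ordG : ℕ := 86775571046077562880

/-- Eleven times the squared order of the centralizer of the second kind of involution. -/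
def prodConst : ℤ := 11 * 1816657920 ^ 2

/-- A residue allowed for a non-exceptional character. -/
def okPlain (q d : ℕ) : Bool := d % q == 0 || d % q == 1 || d % q == q - 1

/-- A residue allowed for any character, for a prime with automizer of order `e`. -/
def okAny (q e d : ℕ) : Bool := okPlain q d || d % q == e || d % q == q - e

/-- The congruences at the five large primes for an exceptional character. -/
def primesX (d : ℕ) : Bool :=
  okPlain 23 d && okPlain 29 d && okPlain 31 d && okPlain 37 d && okPlain 43 d

/-- The congruences at the five large primes. -/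
def primesP (d : ℕ) : Bool :=
  okPlain 23 d && okPlain 29 d && okAny 31 10 d && okAny 37 12 d && okAny 43 14 d

/-- `x` is within `w` of `c` modulo `1331`. -/
def near (x c w : ℤ) : Bool := decide ((x - c) % 1331 ≤ w) || decide (1331 - (x - c) % 1331 ≤ w)

theorem near_of {x c w : ℤ} (k : ℤ) (hk : |k| ≤ w) (h : (1331 : ℤ) ∣ x - c - k) :
    near x c w = true := by
  obtain ⟨m, hm⟩ := h
  rw [abs_le] at hk
  simp only [near, Bool.or_eq_true, decide_eq_true_eq]
  omega

/-- Degrees allowed for an exceptional character. -/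
def degX : List ℕ :=
  [
  3401816, 65794214, 205076718, 259775040, 328971070, 460559498, 668899616, 723736354,
  786127419, 2267824128, 2828263424, 3618681770, 5627481552, 6057358615, 6777693153, 7961099894,
  9251343360]

/-- Degrees allowed for the other two characters. -/
def degP : List ℕ :=
  [
  299367, 1187145, 2076255, 32007996, 32897107, 35411145, 36300256, 102094470, 102982248,
  133710822, 195852544, 256809674, 361868177, 426773280, 463524864, 466926680, 594270320,
  686548320, 821538564, 925709290, 1050585030, 1081313604, 1151398745, 1445942610, 1901665024,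
  2076808668, 2173331456, 2265609456, 2470686174, 2471573952, 2568096740, 2692972480,
  2731348992, 2962269728, 3194422528, 3520879560, 3584895552, 3844670592, 3980549947,
  4998830166, 5163956688, 5393003154, 5490413720, 6608027580, 7208757360, 8217909568,
  8787818496]

/-- The test applied to every divisor of the order. -/
def divisorCheck (d : ℕ) : Bool :=
  !(decide (d * d ≤ ordG)) ||
    ((!(primesX d && (near d 242 22 || near d (-242) 22)) || degX.contains d) &&
      (!(primesP d && (near d 121 38 || near d (-121) 38)) || degP.contains d))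

/-- The divisors with given exponent of two. -/
def sliceCheck (i : ℕ) : Bool :=
  (List.range 4).all fun b => (List.range 2).all fun c => (List.range 2).all fun f =>
    (List.range 4).all fun g => [1, 23].all fun h => [1, 29].all fun j => [1, 31].all fun k =>
      [1, 37].all fun l => [1, 43].all fun m =>
        divisorCheck (2 ^ i * 3 ^ b * 5 ^ c * 7 ^ f * 11 ^ g * h * j * k * l * m)

theorem slice_0 : sliceCheck 0 = true := by decide +kernel
theorem slice_1 : sliceCheck 1 = true := by decide +kernel
theorem slice_2 : sliceCheck 2 = true := by decide +kernel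
theorem slice_3 : sliceCheck 3 = true := by decide +kernel
theorem slice_4 : sliceCheck 4 = true := by decide +kernel
theorem slice_5 : sliceCheck 5 = true := by decide +kernel
theorem slice_6 : sliceCheck 6 = true := by decide +kernel
theorem slice_7 : sliceCheck 7 = true := by decide +kernel
theorem slice_8 : sliceCheck 8 = true := by decide +kernel
theorem slice_9 : sliceCheck 9 = true := by decide +kernel
theorem slice_10 : sliceCheck 10 = true := by decide +kernel
theorem slice_11 : sliceCheck 11 = true := by decide +kernel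
theorem slice_12 : sliceCheck 12 = true := by decide +kernel
theorem slice_13 : sliceCheck 13 = true := by decide +kernel
theorem slice_14 : sliceCheck 14 = true := by decide +kernel
theorem slice_15 : sliceCheck 15 = true := by decide +kernel
theorem slice_16 : sliceCheck 16 = true := by decide +kernel
theorem slice_17 : sliceCheck 17 = true := by decide +kernel
theorem slice_18 : sliceCheck 18 = true := by decide +kernel
theorem slice_19 : sliceCheck 19 = true := by decide +kernel
theorem slice_20 : sliceCheck 20 = true := by decide +kernel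
theorem slice_21 : sliceCheck 21 = true := by decide +kernel

theorem slice_all (i : ℕ) (h : i ≤ 21) : sliceCheck i = true := by
  interval_cases i
  exacts [slice_0, slice_1, slice_2, slice_3, slice_4, slice_5, slice_6, slice_7, slice_8,
    slice_9, slice_10, slice_11, slice_12, slice_13, slice_14, slice_15, slice_16, slice_17,
    slice_18, slice_19, slice_20, slice_21]

theorem mem_of_dvd_prime {p d : ℕ} (hp : p.Prime) (h : d ∣ p) : d ∈ [1, p] := by
  rcases hp.eq_one_or_self_of_dvd d h with rfl | rfl <;> simp

theorem check_of_dvd {d : ℕ} (h : d ∣ ordG) : divisorCheck d = true := by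
  have e : ordG = 2 ^ 21 * 3 ^ 3 * 5 ^ 1 * 7 ^ 1 * 11 ^ 3 * 23 * 29 * 31 * 37 * 43 := by
    norm_num [ordG]
  rw [e] at h
  obtain ⟨d1, m, h1, hm, rfl⟩ := Nat.dvd_mul.1 h
  obtain ⟨d2, l, h2, hl, rfl⟩ := Nat.dvd_mul.1 h1
  obtain ⟨d3, k, h3, hk, rfl⟩ := Nat.dvd_mul.1 h2
  obtain ⟨d4, j, h4, hj, rfl⟩ := Nat.dvd_mul.1 h3
  obtain ⟨d5, x, h5, hx, rfl⟩ := Nat.dvd_mul.1 h4
  obtain ⟨d6, g, h6, hg, rfl⟩ := Nat.dvd_mul.1 h5
  obtain ⟨d7, f, h7, hf, rfl⟩ := Nat.dvd_mul.1 h6
  obtain ⟨d8, c, h8, hc, rfl⟩ := Nat.dvd_mul.1 h7
  obtain ⟨a, b, ha, hb, rfl⟩ := Nat.dvd_mul.1 h8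
  obtain ⟨a, hia, rfl⟩ := (Nat.dvd_prime_pow (by norm_num)).1 ha
  obtain ⟨b, hib, rfl⟩ := (Nat.dvd_prime_pow (by norm_num)).1 hb
  obtain ⟨c, hic, rfl⟩ := (Nat.dvd_prime_pow (by norm_num)).1 hc
  obtain ⟨f, hif, rfl⟩ := (Nat.dvd_prime_pow (by norm_num)).1 hf
  obtain ⟨g, hig, rfl⟩ := (Nat.dvd_prime_pow (by norm_num)).1 hg
  have s := slice_all a hia
  simp only [sliceCheck, List.all_eq_true, List.mem_range] at s
  exact s b (by omega) c (by omega) f (by omega) g (by omega) x
    (mem_of_dvd_prime (by norm_num) hx) j (mem_of_dvd_prime (by norm_num) hj) k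
    (mem_of_dvd_prime (by norm_num) hk) l (mem_of_dvd_prime (by norm_num) hl) m
    (mem_of_dvd_prime (by norm_num) hm)

theorem mem_degX {d : ℕ} (h : d ∣ ordG) (hs : d * d ≤ ordG) (hp : primesX d = true) (e : ℤ)
    (he : e = 1 ∨ e = -1) (hw : near d (242 * e) 22 = true) : d ∈ degX := by
  have hc := check_of_dvd h
  have hw' : (near d 242 22 || near d (-242) 22) = true := by
    rcases he with rfl | rfl <;> norm_num at hw <;> simp [hw]
  simp [divisorCheck, hs, hp, hw'] at hc
  exact hc.1

theorem mem_degP {p : ℕ} (h : p ∣ ordG) (hs : p * p ≤ ordG) (hp : primesP p = true) (e : ℤ)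
    (he : e = 1 ∨ e = -1) (hw : near p (121 * e) 38 = true) : p ∈ degP := by
  have hc := check_of_dvd h
  have hw' : (near p 121 38 || near p (-121) 38) = true := by
    rcases he with rfl | rfl <;> norm_num at hw <;> simp [hw]
  simp [divisorCheck, hs, hp, hw'] at hc
  exact hc.2

/-- `v` is not `ordG` times a square. -/
def noSquare (v : ℤ) : Bool :=
  decide (v < 0) || decide (v.natAbs % ordG ≠ 0) ||
    decide (Nat.sqrt (v.natAbs / ordG) * Nat.sqrt (v.natAbs / ordG) ≠ v.natAbs / ordG)

theorem noSquare_spec {v : ℤ} (h : noSquare v = true) (Y : ℤ) : Y ^ 2 * (ordG : ℤ) ≠ v := by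
  rintro rfl
  have hpos : 0 < ordG := by norm_num [ordG]
  have hn : (Y ^ 2 * (ordG : ℤ)).natAbs = Y.natAbs * Y.natAbs * ordG := by
    rw [Int.natAbs_mul, Int.natAbs_natCast, sq, Int.natAbs_mul]
  have h0 : ¬ (Y ^ 2 * (ordG : ℤ) < 0) := by
    have : (0 : ℤ) ≤ Y ^ 2 * (ordG : ℤ) := by positivity
    omega
  simp only [noSquare, h0, decide_false, Bool.false_or, Bool.or_eq_true, decide_eq_true_eq] at h
  rw [hn, Nat.mul_mod_left, Nat.mul_div_cancel _ hpos, Nat.sqrt_eq] at h
  simp at h

/-- The test on a triple of degrees. -/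
def tripleCheck (d : ℕ) (p e : ℤ) : Bool :=
  !(degP.contains ((d : ℤ) - p).natAbs && near d (242 * e) 22 && near p (121 * e) 38 &&
      near ((d : ℤ) - p) (121 * e) 38) ||
    noSquare (e * prodConst * p * ((d : ℤ) - p) * d)

theorem triples : (degX.all fun d => degP.all fun p => [(1 : ℤ), -1].all fun e =>
    tripleCheck d p e && tripleCheck d (-(p : ℤ)) e) = true := by
  decide +kernel

/-- No degrees satisfy all conditions. -/
theorem no_degrees {d : ℕ} {P Q y w e : ℤ} (he : e = 1 ∨ e = -1) (hd : d ∣ ordG)
    (hP : P.natAbs ∣ ordG) (hQ : Q.natAbs ∣ ordG) (hd2 : d * d ≤ ordG)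
    (hP2 : P.natAbs * P.natAbs ≤ ordG) (hQ2 : Q.natAbs * Q.natAbs ≤ ordG)
    (hdp : primesX d = true) (hPp : primesP P.natAbs = true) (hQp : primesP Q.natAbs = true)
    (hdw : near d (242 * e) 22 = true) (hPw : near P (121 * e) 38 = true)
    (hQw : near Q (121 * e) 38 = true) (hsum : (d : ℤ) = P + Q)
    (heq : (y * Q - w * P) ^ 2 * (ordG : ℤ) = e * prodConst * P * Q * d) : False := by
  have absNear : ∀ R : ℤ, near R (121 * e) 38 = true →
      ∃ e' : ℤ, (e' = 1 ∨ e' = -1) ∧ near (R.natAbs : ℤ) (121 * e') 38 = true := by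
    intro R hR
    rcases Int.natAbs_eq R with h | h
    · exact ⟨e, he, by rw [← h]; exact hR⟩
    · refine ⟨-e, by omega, ?_⟩
      simp only [near, Bool.or_eq_true, decide_eq_true_eq] at hR ⊢
      omega
  have hdm := mem_degX hd hd2 hdp e he hdw
  obtain ⟨eP, heP, hPw'⟩ := absNear P hPw
  obtain ⟨eQ, heQ, hQw'⟩ := absNear Q hQw
  have hPm := mem_degP hP hP2 hPp eP heP hPw'
  have hQm := mem_degP hQ hQ2 hQp eQ heQ hQw'
  have hQe : (d : ℤ) - P = Q := by omega
  have ht := List.all_eq_true.1 (List.all_eq_true.1 triples d hdm) P.natAbs hPm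
  have ht' := List.all_eq_true.1 ht e (by rcases he with rfl | rfl <;> simp)
  rw [Bool.and_eq_true] at ht'
  have hc : tripleCheck d P e = true := by
    rcases Int.natAbs_eq P with h | h
    · rw [h]; exact ht'.1
    · rw [h]; exact ht'.2
  rw [tripleCheck, hQe, hdw, hPw, hQw, List.contains_iff_mem.2 hQm] at hc
  exact noSquare_spec (by simpa using hc) (y * Q - w * P) heq

end Cfsg.Agent.J4Type.Eleven
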