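import Cfsg.Agent.J4Type.Eleven.Family
import Cfsg.Agent.J4Type.Eleven.Arith

/-!
# The degrees modulo `1331`
-/

set_option autoImplicit false

open scoped Matrix ComplexConjugate

namespace Cfsg.Agent.J4Type.Eleven

open Cfsg.Agent Cfsg.Agent.Char

universe u

theorem psi_comm (a w : Coord) : psi a w = psi w a := by
  simp only [psi, pair, mul_comm, dotProduct_comm]

/-- The sum over the first coordinate. -/
theorem sum_zmod_eleven (F : ZMod 11 → ℤ) :
    ∑ j : ZMod 11, F j = F 0 + ∑ k : Fin 5, (F (coef k) + F (-coef k)) := by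
  rw [show (Finset.univ : Finset (ZMod 11)) = {0, 1, 2, 3, 4, 5, -1, -2, -3, -4, -5} by decide]
  rw [Fin.sum_univ_five]
  repeat rw [Finset.sum_insert (by decide)]
  rw [Finset.sum_singleton]
  simp [coef]
  ring

/-- The bound for an exceptional character. -/
theorem bound_X {a b m0 d e : ℤ} (he : e = 1 ∨ e = -1)
    (hd : d = a + 10 * b + 1320 * m0 + 240 * e)
    (h : 1331 * (a ^ 2 + 10 * b ^ 2 + 120 * m0 ^ 2 + 240 * (4 * m0 ^ 2 + (m0 + e) ^ 2)) - d ^ 2
      ≤ 319440) : near d (242 * e) 22 = true := by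
  set k := a + 10 * b - 11 * m0 with hk
  set β := b - m0 with hβ
  have e1 : 1331 * (a ^ 2 + 10 * b ^ 2 + 120 * m0 ^ 2 + 240 * (4 * m0 ^ 2 + (m0 + e) ^ 2)) - d ^ 2
      = 1331 * (k ^ 2 - 20 * k * β + 110 * β ^ 2) + 319440 * e ^ 2 - (k + 240 * e) ^ 2 := by
    rw [hd, hk, hβ]; ring
  have h2 : 121 * k ^ 2 ≤ (k + 240 * e) ^ 2 := by
    have he2 : e ^ 2 = 1 := by rcases he with rfl | rfl <;> norm_num
    rw [e1, he2] at h
    nlinarith [sq_nonneg (110 * β - 10 * k)]
  refine near_of (k - 2 * e) ?_ ⟨m0, by rw [hd, hk]; ring⟩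
  rw [abs_le]
  rcases he with rfl | rfl <;> constructor <;> nlinarith

/-- The bound for a companion. -/
theorem bound_P {a b n0 p e : ℤ} (he : e = 1 ∨ e = -1)
    (hp : p = a + 10 * b + 120 * n0 + 1200 * (n0 - e))
    (h : 1331 * (a ^ 2 + 10 * b ^ 2 + 120 * n0 ^ 2 + 1200 * (n0 - e) ^ 2) - p ^ 2 ≤ 319440) :
    near p (121 * e) 38 = true := by
  set k := a + 10 * b - 11 * (n0 - e) with hk
  set β := b - (n0 - e) with hβ
  have e1 : 1331 * (a ^ 2 + 10 * b ^ 2 + 120 * n0 ^ 2 + 1200 * (n0 - e) ^ 2) - p ^ 2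
      = 1331 * (k ^ 2 - 20 * k * β + 110 * β ^ 2) + 159720 * e ^ 2 - (k + 120 * e) ^ 2 := by
    rw [hp, hk, hβ]; ring
  have h2 : 121 * k ^ 2 ≤ 159720 + (k + 120 * e) ^ 2 := by
    have he2 : e ^ 2 = 1 := by rcases he with rfl | rfl <;> norm_num
    rw [e1, he2] at h
    nlinarith [sq_nonneg (110 * β - 10 * k)]
  refine near_of (k - e) ?_ ⟨n0 - e, by rw [hp, hk]; ring⟩
  rw [abs_le]
  rcases he with rfl | rfl <;> constructor <;> nlinarith

variable {G : Type u} [Group G] [Fintype G] (D : Data G)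

theorem Data.mult_dact (n : D.N) (a : Coord) {χ : G → ℂ} (hχ : Cfsg.IsClassFunction G χ) :
    D.mult (D.dact n a) χ = D.mult a χ := by
  simp only [Data.mult]
  congr 1
  refine Fintype.sum_equiv (D.actEquiv n) _ _ fun w => ?_
  show _ = psi a (D.act n w) * conj (χ (D.el (D.act n w)))
  rw [← D.conj_el, hχ (D.el w) n, psi, psi, pair_act]

theorem Data.sum_mult (χ : G → ℂ) : ∑ a : Coord, D.mult a χ = conj (χ 1) := by
  simp only [Data.mult, ← Finset.mul_sum]
  rw [Finset.sum_comm]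
  have : ∀ w : Coord, ∑ a : Coord, psi a w * conj (χ (D.el w)) =
      (if w = 0 then 1331 else 0) * conj (χ (D.el w)) := fun w => by
    rw [← Finset.sum_mul]
    simp only [psi_comm _ w, sum_psi]
  simp only [this, ite_mul, zero_mul, Finset.sum_ite_eq', Finset.mem_univ, if_true, D.el_zero]
  ring

theorem Data.sum_mult_sq (χ : G → ℂ) :
    ∑ a : Coord, D.mult a χ * conj (D.mult a χ) =
      (1331 : ℂ)⁻¹ * ∑ w : Coord, χ (D.el w) * conj (χ (D.el w)) := by
  simp only [Data.mult, map_mul, map_inv₀, map_ofNat, map_sum, RingHomCompTriple.comp_apply,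
    RingHom.id_apply, Finset.mul_sum, Finset.sum_mul]
  rw [Finset.sum_comm]
  refine Finset.sum_congr rfl fun w' _ => ?_
  rw [Finset.sum_comm]
  have : ∀ w : Coord, ∑ a : Coord, (1331 : ℂ)⁻¹ * (psi a w * conj (χ (D.el w))) *
      ((1331 : ℂ)⁻¹ * (conj (psi a w') * χ (D.el w'))) = (1331 : ℂ)⁻¹ * (1331 : ℂ)⁻¹ *
      (if w = w' then 1331 else 0) * (conj (χ (D.el w)) * χ (D.el w')) := fun w => by
    rw [← sum_psi_conj w w', Finset.mul_sum, Finset.sum_mul]
    refine Finset.sum_congr rfl fun a _ => ?_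
    rw [psi_comm a w, psi_comm a w']
    ring
  simp only [this, mul_ite, ite_mul, mul_zero, zero_mul, Finset.sum_ite_eq', Finset.mem_univ,
    if_true]
  ring

open scoped Classical in
/-- The norm bound on the subgroup. -/
theorem Data.norm_bound (χ : Cfsg.IrrCharacter G) :
    ∑ w ∈ (Finset.univ : Finset Coord).erase 0, Complex.normSq ((χ : G → ℂ) (D.el w)) ≤ 319440 := by
  set f : Coord → ℂ := fun w => if w = 0 then 0 else 1 with hf
  set F : G → ℂ := fun x => (Complex.normSq ((χ : G → ℂ) x) : ℂ) with hF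
  have hcl : Cfsg.IsClassFunction G F := fun g h => by
    simp only [hF, isClassFunction_of_isIrr χ.2 g h]
  have hval : ∀ x, D.ind f x = 0 ∨ D.ind f x = 240 := by
    intro x
    by_cases hx : ∃ g : G, ∃ w : Coord, w ≠ 0 ∧ g⁻¹ * x * g = D.el w
    · obtain ⟨g, w, hw, hgw⟩ := hx
      right
      have : x = g * D.el w * g⁻¹ := by rw [← hgw]; group
      rw [this, D.ind_classFun f (D.el w) g, D.ind_el f hw]
      have h1 : ∀ n : D.N, f (D.act n w) = 1 := fun n => if_neg fun h => hw <| by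
        rw [← D.act_one w, ← inv_mul_cancel n, D.act_mul, h, D.act_zero]
      simp only [h1, Finset.sum_const, Finset.card_univ, nsmul_one]
      rw [← Nat.card_eq_fintype_card, D.cardN]
      norm_num
    · left
      refine mul_eq_zero_of_right _ (Finset.sum_eq_zero fun g _ => Finset.sum_eq_zero fun w _ => ?_)
      split_ifs with h
      · by_cases hw : w = 0
        · simp [hf, hw]
        · exact absurd ⟨g, w, hw, h⟩ hx
      · rfl
  have hsum := D.sum_ind_mul f hcl
  have hle : (∑ x : G, D.ind f x * F x).re ≤ (240 : ℝ) * ∑ x : G, Complex.normSq ((χ : G → ℂ) x) := by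
    rw [Complex.re_sum, Finset.mul_sum]
    refine Finset.sum_le_sum fun x _ => ?_
    rcases hval x with h | h <;> rw [h] <;>
      simp [hF, Complex.normSq_nonneg]
  have htot : ∑ x : G, Complex.normSq ((χ : G → ℂ) x) = (Nat.card G : ℝ) := by
    have h := classInner_irr_self χ.2
    rw [Cfsg.classInner, inv_mul_eq_one₀ card_ne_zero] at h
    simp only [Complex.mul_conj] at h
    rw [← Complex.ofReal_sum] at h
    have h' := congrArg Complex.re h
    simpa using h'.symm
  rw [hsum, htot] at hle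
  have hsum2 : ∑ w : Coord, f w * F (D.el w) =
      ((∑ w ∈ (Finset.univ : Finset Coord).erase 0, Complex.normSq ((χ : G → ℂ) (D.el w)) : ℝ) : ℂ) := by
    rw [← Finset.add_sum_erase _ _ (Finset.mem_univ (0 : Coord))]
    simp only [hf, if_true, zero_mul, zero_add, Complex.ofReal_sum]
    exact Finset.sum_congr rfl fun w hw => by rw [if_neg (Finset.ne_of_mem_erase hw), one_mul]
  rw [hsum2] at hle
  have hG : (0 : ℝ) < Nat.card G := Nat.cast_pos.2 Nat.card_pos
  rw [show ((Nat.card G : ℂ) * (1331 : ℂ)⁻¹) = (((Nat.card G : ℝ) * (1331 : ℝ)⁻¹ : ℝ) : ℂ) by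
    push_cast; rfl, ← Complex.ofReal_mul, Complex.ofReal_re] at hle
  nlinarith

/-- The integral multiplicities with their two relations. -/
theorem Data.exists_mult (χ : Cfsg.IrrCharacter G) : ∃ m : Coord → ℤ,
    (∀ a, D.mult a (χ : G → ℂ) = (m a : ℂ)) ∧
      ∑ a, m a = (Cfsg.charDegree (χ : G → ℂ) : ℤ) ∧
      1331 * ∑ a, m a ^ 2 - (Cfsg.charDegree (χ : G → ℂ) : ℤ) ^ 2 ≤ 319440 ∧
      ∀ n a, m (D.dact n a) = m a := by
  classical
  have hχ := IsIrr.isCharacter χ.2
  choose k hk using fun a => D.mult_nat a hχ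
  have hd := Cfsg.Agent.Blocks.charDegree_cast hχ
  set d := Cfsg.charDegree (χ : G → ℂ)
  refine ⟨fun a => (k a : ℤ), fun a => by rw [hk]; simp, ?_, ?_, fun n a => ?_⟩
  · have h := D.sum_mult (χ : G → ℂ)
    simp only [hk, ← hd, map_natCast] at h
    rw [← Nat.cast_sum, Nat.cast_inj] at h
    rw [← Nat.cast_sum, h]
  · have h := D.sum_mult_sq (χ : G → ℂ)
    simp only [hk, map_natCast, Complex.mul_conj] at h
    rw [← Complex.ofReal_sum] at h
    have h' := congrArg Complex.re h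
    have hb := D.norm_bound χ
    have hsplit : ∑ w : Coord, Complex.normSq ((χ : G → ℂ) (D.el w)) = (d : ℝ) ^ 2 +
        ∑ w ∈ (Finset.univ : Finset Coord).erase 0, Complex.normSq ((χ : G → ℂ) (D.el w)) := by
      rw [← Finset.add_sum_erase _ _ (Finset.mem_univ (0 : Coord)), D.el_zero, ← hd,
        Complex.normSq_natCast, sq]
    rw [show (1331 : ℂ)⁻¹ = (((1331 : ℝ)⁻¹ : ℝ) : ℂ) by push_cast; rfl, ← Complex.ofReal_mul,
      Complex.ofReal_re, hsplit] at h'
    have h2 : ((∑ a : Coord, ((k a : ℂ) * (k a : ℂ))) : ℂ).re = ((∑ a, k a * k a : ℕ) : ℝ) := by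
      rw [← Complex.natCast_re]; push_cast; rfl
    rw [h2] at h'
    have h3 : (1331 : ℝ) * ((∑ a, k a * k a : ℕ) : ℝ) - (d : ℝ) ^ 2 ≤ 319440 := by
      rw [h']; linarith
    have h4 : (((1331 : ℤ) * ∑ a, (k a : ℤ) ^ 2 - (d : ℤ) ^ 2 : ℤ) : ℝ) ≤ ((319440 : ℤ) : ℝ) := by
      push_cast
      push_cast at h3
      simpa [sq] using h3
    exact Int.cast_le.1 h4
  · have h := D.mult_dact n a (isClassFunction_of_isIrr χ.2)
    rw [hk, hk, Nat.cast_inj] at h
    exact congrArg (Nat.cast : ℕ → ℤ) h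

variable {D} {l : Fin 2 → ZMod 11} (hl : Covector D l)
include hl

/-- Splitting an invariant sum into orbits. -/
theorem Covector.sum_split (m : Coord → ℤ) (hm : ∀ n a, m (D.dact n a) = m a) :
    ∑ a, m a = m 0 + 10 * m (1, 0) + 120 * m (0, l) + 240 * ∑ k, m (coef k, l) := by
  classical
  have hneg : ∀ k, m (-coef k, l) = m (coef k, l) := by
    intro k
    have : Nonempty {n : D.N // D.chi n = -1 ∧ l ᵥ* D.mat n = l} := by
      refine (Nat.card_pos_iff.1 ?_).1
      rw [hl.card (-1) (Or.inr rfl)]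
      norm_num
    obtain ⟨⟨n, hn, hn'⟩⟩ := this
    conv_rhs => rw [← hm n]
    simp [Data.dact, hn, hn']
  have hline : ∀ j : ZMod 11, j ≠ 0 → m (j, 0) = m (1, 0) := by
    intro j hj
    have : Fact (Nat.Prime 11) := ⟨by norm_num⟩
    obtain ⟨n, hn⟩ := D.chi_surj (Units.mk0 j hj)
    conv_rhs => rw [← hm n]
    simp [Data.dact, hn]
  have hrow : ∀ l' : Fin 2 → ZMod 11, l' ≠ 0 →
      ∑ j : ZMod 11, m (j, l') = m (0, l) + 2 * ∑ k, m (coef k, l) := by
    intro l' hl'
    obtain ⟨n, hn⟩ := hl.cover l' hl'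
    have e : ∑ j : ZMod 11, m (j, l') = ∑ j : ZMod 11, m (j, l) := by
      refine Fintype.sum_equiv (Units.mulLeft (D.chi n)⁻¹) _ _ fun j => ?_
      rw [Units.mulLeft_apply]
      conv_rhs => rw [← hm n]
      simp [Data.dact, hn]
    rw [e, sum_zmod_eleven]
    simp only [hneg, Finset.sum_add_distrib]
    ring
  rw [Fintype.sum_prod_type, Finset.sum_comm,
    ← Finset.add_sum_erase _ _ (Finset.mem_univ (0 : Fin 2 → ZMod 11)),
    Finset.sum_congr rfl fun l' hl' => hrow l' (Finset.ne_of_mem_erase hl'), Finset.sum_const,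
    ← Finset.add_sum_erase _ _ (Finset.mem_univ (0 : ZMod 11)),
    Finset.sum_congr rfl fun j hj => hline j (Finset.ne_of_mem_erase hj), Finset.sum_const,
    Finset.card_erase_of_mem (Finset.mem_univ _), Finset.card_erase_of_mem (Finset.mem_univ _)]
  simp only [Finset.card_univ, Fintype.card_fun, ZMod.card, Fintype.card_fin]
  rw [show ((0 : ZMod 11), (0 : Fin 2 → ZMod 11)) = (0 : Coord) from rfl]
  norm_num
  ring

theorem Covector.exceptional_near (F : Family D l) :
    near (Cfsg.charDegree (F.X 0 : G → ℂ) : ℤ) (242 * F.ε) 22 = true := by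
  obtain ⟨m, hm, hsum, hbd, hinv⟩ := D.exists_mult (F.X 0)
  rw [hl.sum_split m hinv] at hsum
  rw [hl.sum_split (fun a => m a ^ 2) (fun n a => by rw [hinv n a])] at hbd
  have hk : ∀ k, m (coef k, l) = m (0, l) + if k = 0 then F.ε else 0 := by
    intro k
    have h := F.mult_X k
    rw [hm, hm, sub_eq_iff_eq_add'] at h
    split_ifs at h ⊢ <;> exact_mod_cast h
  simp only [Fin.sum_univ_five, hk] at hsum hbd
  norm_num [Fin.ext_iff] at hsum hbd
  refine bound_X (a := m 0) (b := m (1, 0)) (m0 := m (0, l)) F.ε_sq ?_ ?_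
  · rw [← hsum]; ring
  · linarith

theorem Covector.companion_near (F : Family D l) (P : Cfsg.IrrCharacter G) {s : ℤ}
    (hs : s = 1 ∨ s = -1)
    (hP : ∀ k, D.mult (coef k, l) (P : G → ℂ) - D.mult (0, l) (P : G → ℂ) = -(F.ε : ℂ) * s) :
    near (s * (Cfsg.charDegree (P : G → ℂ) : ℤ)) (121 * F.ε) 38 = true := by
  obtain ⟨m, hm, hsum, hbd, hinv⟩ := D.exists_mult P
  rw [hl.sum_split m hinv] at hsum
  rw [hl.sum_split (fun a => m a ^ 2) (fun n a => by rw [hinv n a])] at hbd
  have hk : ∀ k, m (coef k, l) = m (0, l) - F.ε * s := by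
    intro k
    have h := hP k
    rw [hm, hm, sub_eq_iff_eq_add'] at h
    have h' : (m (coef k, l) : ℂ) = ((m (0, l) - F.ε * s : ℤ) : ℂ) := by
      rw [h]; push_cast; ring
    exact_mod_cast h'
  simp only [Fin.sum_univ_five, hk] at hsum hbd
  have hss : s ^ 2 = 1 := by rcases hs with rfl | rfl <;> norm_num
  refine bound_P (a := s * m 0) (b := s * m (1, 0)) (n0 := s * m (0, l)) F.ε_sq ?_ ?_
  · rw [← hsum]
    linear_combination (-1200 * F.ε) * hss
  · rcases hs with rfl | rfl <;> ring_nf at hbd ⊢ <;> linarith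

end Cfsg.Agent.J4Type.Eleven
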