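import Cfsg.Agent.J4Type.Eleven.Orbits

/-!
# Products of two conjugates of the involution inside the subgroup
-/

set_option autoImplicit false

open scoped Matrix

namespace Cfsg.Agent.J4Type.Eleven

universe u

variable {G : Type u} [Group G] [Finite G] (D : Data G)

/-- The number of ways to write an element as a product of two conjugates of `t`. -/
noncomputable def Data.cnt (g : G) : ℕ :=
  Nat.card {x : G // IsConj D.t x ∧ IsConj D.t (x⁻¹ * g)}

/-- The involutions of the normalizer negating a coordinate. -/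
def Data.Flip (w : Coord) : Type u :=
  {n : D.N // orderOf (n : G) = 2 ∧ D.chi n = -1 ∧ D.act n w = -w}

instance (w : Coord) : Finite (D.Flip w) := Subtype.finite

omit [Finite G] in
theorem cnt_conj (c g : G) : D.cnt (c * g * c⁻¹) = D.cnt g := by
  have h : ∀ a : G, IsConj D.t (c * a * c⁻¹) ↔ IsConj D.t a := fun a =>
    ⟨fun h => h.trans (isConj_iff.2 ⟨c, rfl⟩).symm, fun h => h.trans (isConj_iff.2 ⟨c, rfl⟩)⟩
  refine (Nat.card_congr (Equiv.subtypeEquiv (MulAut.conj c).toEquiv fun x => ?_)).symm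
  show _ ↔ IsConj D.t (c * x * c⁻¹) ∧ IsConj D.t ((c * x * c⁻¹)⁻¹ * (c * g * c⁻¹))
  rw [h, show (c * x * c⁻¹)⁻¹ * (c * g * c⁻¹) = c * (x⁻¹ * g) * c⁻¹ by group, h]

theorem orderOf_of_isConj {x : G} (h : IsConj D.t x) : orderOf x = 2 := by
  obtain ⟨c, rfl⟩ := isConj_iff.1 h
  exact ((MulAut.conj c).orderOf_eq D.t).trans D.t_order

theorem sq_eq_one_of_order {x : G} (h : orderOf x = 2) : x * x = 1 := by
  rw [← sq, ← h, pow_orderOf_eq_one]

/-- The count at an element of the subgroup. -/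
theorem Data.cnt_el {w : Coord} (hw : w ≠ 0) : D.cnt (D.el w) = Nat.card (D.Flip w) := by
  have hfwd : ∀ x : G, IsConj D.t x → IsConj D.t (x⁻¹ * D.el w) →
      x * D.el w * x⁻¹ = D.el (-w) := by
    intro x hx hy
    have h1 := sq_eq_one_of_order (orderOf_of_isConj D hx)
    have h2 := sq_eq_one_of_order (orderOf_of_isConj D hy)
    have hxi : x⁻¹ = x := inv_eq_of_mul_eq_one_right h1
    rw [hxi] at h2 ⊢
    rw [D.el_neg]
    refine eq_inv_of_mul_eq_one_left ?_
    rw [← h2]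
    group
  have hN : ∀ x : G, IsConj D.t x → IsConj D.t (x⁻¹ * D.el w) → x ∈ D.N := fun x hx hy =>
    D.local_fusion x w (-w) hw (hfwd x hx hy)
  have hback : ∀ n : D.N, orderOf (n : G) = 2 → D.chi n = -1 → D.act n w = -w →
      IsConj D.t ((n : G)⁻¹ * D.el w) := by
    intro n ho hc ha
    have h1 := sq_eq_one_of_order ho
    have hni : (n : G)⁻¹ = n := inv_eq_of_mul_eq_one_right h1
    let y : D.N := n⁻¹ * ⟨D.el w, D.el_mem w⟩
    have hcy : D.chi y = -1 := by simp [y, hc, D.chi_el]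
    refine (D.isConj_iff_chi y ?_).2 hcy
    refine orderOf_eq_prime (p := 2) ?_ fun h => ?_
    · show ((n : G)⁻¹ * D.el w) ^ 2 = 1
      have := D.conj_el n w
      rw [ha, D.el_neg] at this
      rw [hni] at this ⊢
      rw [sq, show (n : G) * D.el w * ((n : G) * D.el w) = (n : G) * D.el w * (n : G) * D.el w by
        group, this, inv_mul_cancel]
    · have h' : y = 1 := Subtype.ext h
      rw [h', map_one] at hcy
      exact absurd hcy (by decide)
  exact Nat.card_congr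
    { toFun := fun x => ⟨⟨x.1, hN x.1 x.2.1 x.2.2⟩, orderOf_of_isConj D x.2.1,
        (D.isConj_iff_chi _ (orderOf_of_isConj D x.2.1)).1 x.2.1,
        D.el_inj (by rw [← D.conj_el]; exact hfwd x.1 x.2.1 x.2.2)⟩
      invFun := fun n => ⟨(n.1 : G), (D.isConj_iff_chi n.1 n.2.1).2 n.2.2.1,
        hback n.1 n.2.1 n.2.2.1 n.2.2.2⟩
      left_inv := fun x => rfl
      right_inv := fun n => rfl }

/-- The vectors negated by a nontrivial involution of the plane. -/
theorem card_neg_space [Fact (Nat.Prime 11)] {M : Matrix (Fin 2) (Fin 2) (ZMod 11)}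
    (h2 : M * M = 1) (h1 : M ≠ 1) (hn : M ≠ -1) :
    Nat.card {v : Fin 2 → ZMod 11 // M *ᵥ v = -v} = 11 := by
  let K : AddSubgroup (Fin 2 → ZMod 11) :=
    { carrier := {v | M *ᵥ v = -v}
      zero_mem' := by simp
      add_mem' := fun {a b} ha hb => by
        show M *ᵥ (a + b) = -(a + b)
        rw [Matrix.mulVec_add, ha, hb, neg_add]
      neg_mem' := fun {a} ha => by
        show M *ᵥ (-a) = - -a
        rw [Matrix.mulVec_neg, ha] }
  show Nat.card K = 11
  have hd : Nat.card K ∣ 11 ^ 2 := by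
    have := K.card_addSubgroup_dvd_card
    simpa [Nat.card_eq_fintype_card] using this
  obtain ⟨j, hj, hjK⟩ := (Nat.dvd_prime_pow (by norm_num)).1 hd
  have hne0 : j ≠ 0 := by
    rintro rfl
    rw [pow_zero, AddSubgroup.card_eq_one] at hjK
    refine h1 (Matrix.toLin'.injective (LinearMap.ext fun v => ?_))
    have hv : v - M *ᵥ v ∈ K := by
      show M *ᵥ (v - M *ᵥ v) = -(v - M *ᵥ v)
      rw [Matrix.mulVec_sub, Matrix.mulVec_mulVec, h2, Matrix.one_mulVec, neg_sub]
    rw [hjK, AddSubgroup.mem_bot, sub_eq_zero] at hv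
    simpa using hv.symm
  have hne2 : j ≠ 2 := by
    rintro rfl
    have htop : K = ⊤ := AddSubgroup.eq_top_of_card_eq K (by
      rw [hjK, Nat.card_eq_fintype_card]; simp)
    refine hn (Matrix.toLin'.injective (LinearMap.ext fun v => ?_))
    have hv : v ∈ K := htop ▸ AddSubgroup.mem_top v
    rw [Matrix.toLin'_apply, Matrix.toLin'_apply, Matrix.neg_mulVec, Matrix.one_mulVec]
    exact hv
  have : j = 1 := by omega
  rw [hjK, this, pow_one]

theorem Data.act_eq_neg_iff {n : D.N} (hc : D.chi n = -1) (w : Coord) :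
    D.act n w = -w ↔ D.mat n *ᵥ w.2 = -w.2 := by
  simp [Data.act, hc, Prod.ext_iff]

/-- The count off the line of the first coordinate. -/
theorem Data.card_flip [Fact (Nat.Prime 11)] {w : Coord} (hw : w.2 ≠ 0) :
    Nat.card (D.Flip w) = 121 := by
  obtain ⟨n₀, hc₀, hv₀⟩ := D.exists_neg hw
  have hsq : ∃ u, ((n₀ * n₀ : D.N) : G) = D.el u := D.exists_el hw (by simp [hc₀]) (by
    rw [map_mul, ← Matrix.mulVec_mulVec, hv₀, Matrix.mulVec_neg, hv₀, neg_neg])
  obtain ⟨u₀, hu₀⟩ := hsq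
  obtain ⟨m, hm, hcm, hvm⟩ : ∃ m : D.N, m * m = 1 ∧ D.chi m = -1 ∧ D.mat m *ᵥ w.2 = -w.2 := by
    set k : D.N := ⟨D.el u₀, D.el_mem u₀⟩ with hk
    have hkk : n₀ * n₀ = k := Subtype.ext hu₀
    have hpow : k ^ 1331 = 1 := by
      refine Subtype.ext ?_
      show D.el u₀ ^ 1331 = 1
      rw [Data.el, ← map_pow, ← ofAdd_nsmul, ← coord_card,
        card_nsmul_eq_zero', ofAdd_zero, map_one]
    have he : n₀ ^ 1331 = n₀ * k ^ 665 := by
      rw [← hkk, ← sq, ← pow_mul, ← pow_succ']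
    refine ⟨n₀ ^ 1331, ?_, ?_, ?_⟩
    · rw [← (Commute.refl n₀).mul_pow, hkk, hpow]
    · rw [he, map_mul, map_pow, D.chi_el, one_pow, mul_one, hc₀]
    · rw [he, map_mul, map_pow, D.mat_el, one_pow, mul_one, hv₀]
  have hm2 : D.mat m * D.mat m = 1 := by rw [← map_mul, hm, map_one]
  obtain ⟨hm1, hmn⟩ := D.mixed m hcm
  have hsame : ∀ n : D.N, D.chi n = -1 → D.mat n *ᵥ w.2 = -w.2 → ∃ u, (n : G) = (m : G) * D.el u := by
    intro n hc hv
    obtain ⟨u, hu⟩ := D.exists_el (n := m⁻¹ * n) hw (by simp [hc, hcm]) (by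
      rw [map_mul, ← Matrix.mulVec_mulVec, hv, inv_eq_of_mul_eq_one_right hm, Matrix.mulVec_neg,
        hvm, neg_neg])
    exact ⟨u, by rw [← hu]; simp⟩
  have hinv : ∀ u : Coord, (m : G) * D.el u * ((m : G) * D.el u) = D.el (D.act m u + u) := by
    intro u
    have h := D.conj_el m u
    have hmi : (m : G)⁻¹ = m := inv_eq_of_mul_eq_one_right (congrArg Subtype.val hm)
    rw [hmi] at h
    rw [D.el_add, ← h]
    group
  let F : {u : Coord // D.act m u = -u} → D.Flip w := fun u =>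
    ⟨m * ⟨D.el u.1, D.el_mem u.1⟩, by
      refine orderOf_eq_prime (p := 2) ?_ fun h => ?_
      · show ((m : G) * D.el u.1) ^ 2 = 1
        rw [sq, hinv, u.2, neg_add_cancel, D.el_zero]
      · have h' : m * ⟨D.el u.1, D.el_mem u.1⟩ = 1 := Subtype.ext h
        have := congrArg D.chi h'
        rw [map_mul, hcm, D.chi_el, mul_one, map_one] at this
        exact absurd this (by decide),
      by rw [map_mul, hcm, D.chi_el, mul_one],
      by
        rw [D.act_mul, D.el_act, D.act_eq_neg_iff hcm]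
        exact hvm⟩
  have hF : Function.Bijective F := by
    refine ⟨fun a b h => Subtype.ext (D.el_inj ?_), fun n => ?_⟩
    · have := congrArg (fun x => ((x.1 : D.N) : G)) h
      exact mul_left_cancel this
    · obtain ⟨u, hu⟩ := hsame n.1 n.2.2.1 ((D.act_eq_neg_iff n.2.2.1 w).1 n.2.2.2)
      refine ⟨⟨u, ?_⟩, Subtype.ext (Subtype.ext hu.symm)⟩
      have h2 := sq_eq_one_of_order n.2.1
      rw [hu, hinv, ← D.el_zero] at h2
      exact eq_neg_of_add_eq_zero_left (D.el_inj h2)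
  rw [← Nat.card_congr (Equiv.ofBijective F hF)]
  have e : {u : Coord // D.act m u = -u} ≃
      ZMod 11 × {v : Fin 2 → ZMod 11 // D.mat m *ᵥ v = -v} :=
    { toFun := fun u => (u.1.1, ⟨u.1.2, (D.act_eq_neg_iff hcm u.1).1 u.2⟩)
      invFun := fun p => ⟨(p.1, p.2.1), (D.act_eq_neg_iff hcm _).2 p.2.2⟩
      left_inv := fun _ => rfl
      right_inv := fun _ => rfl }
  rw [Nat.card_congr e, Nat.card_prod, card_neg_space hm2 hm1 hmn, Nat.card_zmod]

/-- The count on the line of the first coordinate. -/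
theorem Data.card_flip_line [Fact (Nat.Prime 11)] (i : ZMod 11) :
    Nat.card (D.Flip (i, 0)) = 1452 := by
  classical
  have := Fintype.ofFinite G
  let J : Type u := {n : D.N // orderOf (n : G) = 2 ∧ D.chi n = -1}
  have e0 : D.Flip (i, 0) ≃ J := Equiv.subtypeEquivRight fun n =>
    ⟨fun h => ⟨h.1, h.2.1⟩, fun h => ⟨h.1, h.2, (D.act_eq_neg_iff h.2 _).2 (by simp)⟩⟩
  have : Fintype J := Fintype.ofFinite J
  have hten : ∀ n : J, Nat.card {v : {v : Fin 2 → ZMod 11 // v ≠ 0} // D.mat n.1 *ᵥ v.1 = -v.1} = 10 := by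
    intro n
    obtain ⟨h1, h2⟩ := D.mixed n.1 n.2.2
    have hsq : D.mat n.1 * D.mat n.1 = 1 := by
      rw [← map_mul, show n.1 * n.1 = 1 from Subtype.ext (sq_eq_one_of_order n.2.1), map_one]
    have h11 := card_neg_space hsq h1 h2
    have e : {v : {v : Fin 2 → ZMod 11 // v ≠ 0} // D.mat n.1 *ᵥ v.1 = -v.1} ≃
        {v : {v : Fin 2 → ZMod 11 // D.mat n.1 *ᵥ v = -v} // ¬ v.1 = 0} :=
      { toFun := fun v => ⟨⟨v.1.1, v.2⟩, v.1.2⟩
        invFun := fun v => ⟨⟨v.1.1, v.2⟩, v.1.2⟩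
        left_inv := fun _ => rfl
        right_inv := fun _ => rfl }
    rw [Nat.card_congr e, Nat.card_eq_fintype_card, Fintype.card_subtype_compl,
      ← Nat.card_eq_fintype_card, h11,
      (Fintype.card_eq_one_iff (α := {x : {v : Fin 2 → ZMod 11 // D.mat n.1 *ᵥ v = -v} // x.1 = 0})).2
        ⟨⟨⟨0, by rw [Matrix.mulVec_zero, neg_zero]⟩, rfl⟩, fun x => Subtype.ext (Subtype.ext x.2)⟩]
  let e : (Σ v : {v : Fin 2 → ZMod 11 // v ≠ 0}, D.Flip (0, v.1)) ≃
      Σ n : J, {v : {v : Fin 2 → ZMod 11 // v ≠ 0} // D.mat n.1 *ᵥ v.1 = -v.1} :=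
    { toFun := fun p => ⟨⟨p.2.1, p.2.2.1, p.2.2.2.1⟩, p.1,
        (D.act_eq_neg_iff p.2.2.2.1 _).1 p.2.2.2.2⟩
      invFun := fun p => ⟨p.2.1, p.1.1, p.1.2.1, p.1.2.2, (D.act_eq_neg_iff p.1.2.2 _).2 p.2.2⟩
      left_inv := fun _ => rfl
      right_inv := fun _ => rfl }
  have h := Nat.card_congr e
  rw [Nat.card_sigma, Nat.card_sigma, Finset.sum_congr rfl fun v _ => D.card_flip (w := (0, v.1)) v.2,
    Finset.sum_congr rfl fun n _ => hten n, Finset.sum_const, Finset.sum_const, Finset.card_univ,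
    Finset.card_univ, ← Nat.card_eq_fintype_card, ← Nat.card_eq_fintype_card, card_nonzero,
    smul_eq_mul, smul_eq_mul] at h
  rw [Nat.card_congr e0]
  omega

/-- The value of the count. -/
theorem Data.cnt_value [Fact (Nat.Prime 11)] {w : Coord} (hw : w ≠ 0) :
    D.cnt (D.el w) = if w.2 = 0 then 1452 else 121 := by
  rw [D.cnt_el hw]
  split_ifs with h
  · rw [show w = (w.1, 0) from Prod.ext rfl h]
    exact D.card_flip_line w.1
  · exact D.card_flip h

end Cfsg.Agent.J4Type.Eleven
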