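import Mathlib

/-!
# The data of an abelian Sylow 11-subgroup in a group of Janko-four type

The subgroup is given in coordinates `ZMod 11 × (Fin 2 → ZMod 11)`, its normalizer `N` acting
diagonally through `chi` and `mat`.
-/

set_option autoImplicit false

open scoped Matrix

namespace Cfsg.Agent.J4Type.Eleven

universe u

/-- The coordinates. -/
abbrev Coord : Type := ZMod 11 × (Fin 2 → ZMod 11)

/-- An abelian Sylow 11-subgroup with its normalizer and its fusion. -/
structure Data (G : Type u) [Group G] where
  /-- The subgroup, in coordinates. -/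
  emb : Multiplicative Coord →* G
  /-- The coordinates are faithful. -/
  emb_inj : Function.Injective emb
  /-- The normalizer. -/
  N : Subgroup G
  /-- Its order. -/
  cardN : Nat.card N = 319440
  /-- It contains the subgroup. -/
  emb_mem : ∀ w, emb w ∈ N
  /-- The action on the first coordinate. -/
  chi : N →* (ZMod 11)ˣ
  /-- The action on the plane. -/
  mat : N →* Matrix (Fin 2) (Fin 2) (ZMod 11)
  /-- The action. -/
  conj_emb : ∀ (n : N) (w : Coord), (n : G) * emb (Multiplicative.ofAdd w) * (n : G)⁻¹ =
    emb (Multiplicative.ofAdd ((chi n : ZMod 11) * w.1, mat n *ᵥ w.2))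
  /-- The subgroup is a trivial intersection set with fusion in `N`. -/
  local_fusion : ∀ (x : G) (w w' : Coord), w ≠ 0 →
    x * emb (Multiplicative.ofAdd w) * x⁻¹ = emb (Multiplicative.ofAdd w') → x ∈ N
  /-- All automorphisms of the first coordinate occur. -/
  chi_surj : Function.Surjective chi
  /-- The plane has one orbit of nonzero vectors. -/
  transitive : ∀ v v' : Fin 2 → ZMod 11, v ≠ 0 → v' ≠ 0 → ∃ n : N, mat n *ᵥ v = v'
  /-- The kernel of `chi` acts semiregularly. -/
  free : ∀ (n : N) (v : Fin 2 → ZMod 11), v ≠ 0 → chi n = 1 → mat n *ᵥ v = v →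
    ∃ w, (n : G) = emb w
  /-- An element inverting the first coordinate is not scalar `±1` on the plane. -/
  mixed : ∀ n : N, chi n = -1 → mat n ≠ 1 ∧ mat n ≠ -1
  /-- An involution. -/
  t : G
  /-- It is one. -/
  t_order : orderOf t = 2
  /-- The order of its centralizer. -/
  card_centralizer : Nat.card (Subgroup.centralizer ({t} : Set G)) = 1816657920
  /-- Its class meets `N` in the involutions inverting the first coordinate. -/
  isConj_iff_chi : ∀ n : N, orderOf (n : G) = 2 → (IsConj t (n : G) ↔ chi n = -1)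

variable {G : Type u} [Group G] (D : Data G)

/-- The action on coordinates. -/
def Data.act (n : D.N) (w : Coord) : Coord := ((D.chi n : ZMod 11) * w.1, D.mat n *ᵥ w.2)

/-- The action on the dual. -/
def Data.dact (n : D.N) (a : Coord) : Coord := ((D.chi n : ZMod 11) * a.1, a.2 ᵥ* D.mat n)

/-- The pairing. -/
def pair (a w : Coord) : ZMod 11 := a.1 * w.1 + a.2 ⬝ᵥ w.2

/-- The embedding of a coordinate. -/
def Data.el (w : Coord) : G := D.emb (Multiplicative.ofAdd w)

theorem Data.el_inj {w w' : Coord} (h : D.el w = D.el w') : w = w' :=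
  Multiplicative.ofAdd.injective (D.emb_inj h)

theorem Data.el_zero : D.el 0 = 1 := map_one D.emb

theorem Data.el_add (w w' : Coord) : D.el (w + w') = D.el w * D.el w' :=
  map_mul D.emb (Multiplicative.ofAdd w) (Multiplicative.ofAdd w')

theorem Data.el_neg (w : Coord) : D.el (-w) = (D.el w)⁻¹ :=
  map_inv D.emb (Multiplicative.ofAdd w)

theorem Data.el_mem (w : Coord) : D.el w ∈ D.N := D.emb_mem _

theorem Data.conj_el (n : D.N) (w : Coord) :
    (n : G) * D.el w * (n : G)⁻¹ = D.el (D.act n w) := D.conj_emb n w

theorem pair_act (n : D.N) (a w : Coord) : pair a (D.act n w) = pair (D.dact n a) w := by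
  show a.1 * ((D.chi n : ZMod 11) * w.1) + a.2 ⬝ᵥ D.mat n *ᵥ w.2 = _
  rw [Matrix.dotProduct_mulVec, ← mul_assoc, mul_comm a.1]
  rfl

theorem Data.act_mul (n m : D.N) (w : Coord) : D.act (n * m) w = D.act n (D.act m w) := by
  apply Prod.ext
  · simp [Data.act, mul_assoc]
  · show D.mat (n * m) *ᵥ w.2 = D.mat n *ᵥ (D.mat m *ᵥ w.2)
    rw [map_mul, Matrix.mulVec_mulVec]

theorem Data.act_one (w : Coord) : D.act 1 w = w := by simp [Data.act]

theorem Data.act_zero (n : D.N) : D.act n 0 = 0 := by simp [Data.act]

/-- The action as a permutation. -/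
def Data.actEquiv (n : D.N) : Coord ≃ Coord where
  toFun := D.act n
  invFun := D.act n⁻¹
  left_inv w := by rw [← D.act_mul, inv_mul_cancel, D.act_one]
  right_inv w := by rw [← D.act_mul, mul_inv_cancel, D.act_one]

theorem Data.act_neg (n : D.N) (w : Coord) : D.act n (-w) = -D.act n w := by
  apply Prod.ext <;> simp [Data.act, Matrix.mulVec_neg]

/-- Elements of the subgroup act trivially. -/
theorem Data.el_act (u w : Coord) : D.act ⟨D.el u, D.el_mem u⟩ w = w := by
  apply D.el_inj
  rw [← D.conj_el]
  show D.el u * D.el w * (D.el u)⁻¹ = _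
  rw [← D.el_add, ← D.el_neg, ← D.el_add]
  congr 1
  abel

theorem Data.chi_el (u : Coord) : D.chi ⟨D.el u, D.el_mem u⟩ = 1 := by
  have h := congrArg Prod.fst (D.el_act u (1, 0))
  simp only [Data.act, mul_one] at h
  exact Units.ext h

theorem Data.mat_el (u : Coord) : D.mat ⟨D.el u, D.el_mem u⟩ = 1 := by
  refine Matrix.toLin'.injective (LinearMap.ext fun v => ?_)
  have h := congrArg Prod.snd (D.el_act u (0, v))
  simpa [Data.act] using h

end Cfsg.Agent.J4Type.Eleven
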