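import Cfsg.Agent.J4Type.Eleven.Induced
import Cfsg.Agent.Blocks.Congr
import Cfsg.Agent.S0198

/-!
# The five exceptional characters and their two companions
-/

set_option autoImplicit false

open scoped Matrix ComplexConjugate

namespace Cfsg.Agent.J4Type.Eleven

open Cfsg.Agent Cfsg.Agent.Char

universe u

/-- The first coordinates of the representatives of the regular dual orbits. -/
def coef (k : Fin 5) : ZMod 11 := ![1, 2, 3, 4, 5] k

theorem coef_spec : (∀ k, coef k ≠ 0) ∧ (∀ k j, coef k = coef j → k = j) ∧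
    (∀ k j, coef k ≠ -coef j) ∧ ∀ c : ZMod 11, c ≠ 0 → ∃ k, c = coef k ∨ c = -coef k := by
  decide

variable {G : Type u} [Group G] [Fintype G] (D : Data G)

theorem Data.dact_mul (n m : D.N) (a : Coord) : D.dact (n * m) a = D.dact m (D.dact n a) := by
  refine Prod.ext ?_ ?_
  · simp [Data.dact, mul_assoc, mul_left_comm]
  · show a.2 ᵥ* D.mat (n * m) = (a.2 ᵥ* D.mat n) ᵥ* D.mat m
    rw [map_mul, Matrix.vecMul_vecMul]

/-- The properties of the chosen covector. -/
structure Covector (l : Fin 2 → ZMod 11) : Prop where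
  ne : l ≠ 0
  pm : ∀ n : D.N, l ᵥ* D.mat n = l → D.chi n = 1 ∨ D.chi n = -1
  card : ∀ c : (ZMod 11)ˣ, c = 1 ∨ c = -1 →
    Nat.card {n : D.N // D.chi n = c ∧ l ᵥ* D.mat n = l} = 1331
  cover : ∀ l' : Fin 2 → ZMod 11, l' ≠ 0 → ∃ n : D.N, l ᵥ* D.mat n = l'

variable {D} {l : Fin 2 → ZMod 11} (hl : Covector D l)
include hl

/-- Every regular covector is in the orbit of a representative. -/
theorem Covector.regular_cover (a : Coord) (h1 : a.1 ≠ 0) (h2 : a.2 ≠ 0) :
    ∃ (n : D.N) (k : Fin 5), D.dact n (coef k, l) = a := by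
  obtain ⟨n, hn⟩ := hl.cover a.2 h2
  set j : ZMod 11 := ((D.chi n)⁻¹ : (ZMod 11)ˣ) * a.1 with hj
  have hj0 : j ≠ 0 := by
    intro h
    refine h1 ?_
    have := congrArg ((D.chi n : ZMod 11) * ·) h
    simpa [hj] using this
  obtain ⟨k, hk⟩ := coef_spec.2.2.2 j hj0
  have hnk : (D.chi n : ZMod 11) * j = a.1 := by simp [hj]
  rcases hk with hk | hk
  · exact ⟨n, k, Prod.ext (by rw [← hnk, hk]; rfl) hn⟩
  · have : Nonempty {m : D.N // D.chi m = -1 ∧ l ᵥ* D.mat m = l} := by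
      refine (Nat.card_pos_iff.1 ?_).1
      rw [hl.card (-1) (Or.inr rfl)]
      norm_num
    obtain ⟨⟨m, hm1, hm2⟩⟩ := this
    refine ⟨m * n, k, Prod.ext ?_ ?_⟩
    · rw [← hnk, hk]
      simp [Data.dact, hm1]
    · show l ᵥ* D.mat (m * n) = a.2
      rw [map_mul, ← Matrix.vecMul_vecMul, hm2, hn]

theorem Covector.card_rep_rep (i k : Fin 5) :
    Nat.card {n : D.N // D.dact n (coef k, l) = (coef i, l)} = if i = k then 1331 else 0 := by
  obtain ⟨h0, hinj, hneg, -⟩ := coef_spec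
  have hiff : ∀ n : D.N, D.dact n (coef k, l) = (coef i, l) →
      (D.chi n = 1 ∧ l ᵥ* D.mat n = l) ∧ i = k := by
    intro n h
    obtain ⟨h1, h2⟩ := Prod.ext_iff.1 h
    rcases hl.pm n h2 with hc | hc
    · refine ⟨⟨hc, h2⟩, hinj _ _ ?_⟩
      simpa [Data.dact, hc] using h1.symm
    · exact absurd (show coef i = -coef k by simpa [Data.dact, hc] using h1.symm) (hneg i k)
  split_ifs with hik
  · subst hik
    rw [← hl.card 1 (Or.inl rfl)]
    exact Nat.card_congr (Equiv.subtypeEquivRight fun n => ⟨fun h => (hiff n h).1,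
      fun h => Prod.ext (by simp [Data.dact, h.1]) h.2⟩)
  · have : IsEmpty {n : D.N // D.dact n (coef k, l) = (coef i, l)} :=
      ⟨fun n => hik (hiff n.1 n.2).2⟩
    exact Nat.card_of_isEmpty

theorem Covector.card_rep_zero (i : Fin 5) :
    Nat.card {n : D.N // D.dact n (0, l) = (coef i, l)} = 0 ∧
      Nat.card {n : D.N // D.dact n (coef i, l) = (0, l)} = 0 := by
  constructor
  · have : IsEmpty {n : D.N // D.dact n (0, l) = (coef i, l)} := ⟨fun n => coef_spec.1 i (by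
      simpa [Data.dact] using (congrArg Prod.fst n.2).symm)⟩
    exact Nat.card_of_isEmpty
  · have : IsEmpty {n : D.N // D.dact n (coef i, l) = (0, l)} := ⟨fun n => coef_spec.1 i (by
      simpa [Data.dact] using congrArg Prod.fst n.2)⟩
    exact Nat.card_of_isEmpty

theorem Covector.card_zero_zero :
    Nat.card {n : D.N // D.dact n (0, l) = (0, l)} = 2662 := by
  classical
  have e : {n : D.N // D.dact n (0, l) = (0, l)} ≃
      {n : D.N // D.chi n = 1 ∧ l ᵥ* D.mat n = l} ⊕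
        {n : D.N // D.chi n = -1 ∧ l ᵥ* D.mat n = l} :=
    (Equiv.subtypeEquivRight fun n =>
      ⟨fun h => (hl.pm n (congrArg Prod.snd h)).imp (⟨·, congrArg Prod.snd h⟩)
          (⟨·, congrArg Prod.snd h⟩),
        fun h => Prod.ext (by simp [Data.dact]) (h.elim And.right And.right)⟩).trans
      (subtypeOrEquiv _ _ (by
        rw [Pi.disjoint_iff]
        intro n
        rw [Prop.disjoint_iff]
        simp only [not_and, and_imp]
        intro h1 _ h2
        exact absurd (h1.symm.trans h2) (by decide)))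
  rw [Nat.card_congr e, Nat.card_sum, hl.card 1 (Or.inl rfl), hl.card (-1) (Or.inr rfl)]

/-- The inner products of the induced functions. -/
theorem Covector.inner_alpha (i k : Fin 5) :
    Cfsg.classInner (D.alpha (coef i, l) (0, l)) (D.alpha (coef k, l) (0, l)) =
      (if i = k then 1 else 0) + 2 := by
  rw [D.inner_alpha_alpha, hl.card_rep_rep, (hl.card_rep_zero i).1, (hl.card_rep_zero k).2,
    hl.card_zero_zero]
  split_ifs <;> norm_num

omit hl

/-- A sum of squares of integers equal to two. -/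
theorem exists_pair {ι : Type*} [Fintype ι] [DecidableEq ι] {m : ι → ℤ}
    (h : ∑ x, m x ^ 2 = 2) : ∃ P Q, P ≠ Q ∧ (m P = 1 ∨ m P = -1) ∧ (m Q = 1 ∨ m Q = -1) ∧
      ∀ x, x ≠ P → x ≠ Q → m x = 0 := by
  have hle : ∀ x, m x ^ 2 ≤ 2 := fun x =>
    h ▸ Finset.single_le_sum (f := fun x => m x ^ 2) (fun y _ => sq_nonneg _) (Finset.mem_univ x)
  have hval : ∀ x, m x ≠ 0 → m x = 1 ∨ m x = -1 := fun x hx => by
    have h1 := hle x
    have : -2 < m x ∧ m x < 2 := ⟨by nlinarith, by nlinarith⟩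
    omega
  have h2 : ∑ x ∈ Finset.univ.filter (fun x => m x ≠ 0), m x ^ 2 = 2 := by
    refine Eq.trans (Finset.sum_subset (Finset.subset_univ _) fun x _ hx => ?_) h
    have h0 : m x = 0 := by simpa using hx
    rw [h0]
    norm_num
  rw [Finset.sum_congr rfl fun x hx => show m x ^ 2 = 1 by
    rcases hval x (Finset.mem_filter.1 hx).2 with h | h <;> rw [h] <;> norm_num,
    Finset.sum_const, nsmul_one] at h2
  obtain ⟨P, Q, hPQ, hs⟩ := Finset.card_eq_two.1 (Nat.cast_injective (R := ℤ) (h2.trans Nat.cast_ofNat.symm))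
  have hmem : ∀ x, m x ≠ 0 ↔ x = P ∨ x = Q := fun x => by
    have := congrArg (fun s => x ∈ s) hs
    simpa using this
  exact ⟨P, Q, hPQ, hval P ((hmem P).2 (Or.inl rfl)), hval Q ((hmem Q).2 (Or.inr rfl)),
    fun x h1 h2 => by_contra fun h0 => ((hmem x).1 h0).elim h1 h2⟩

/-- The characters attached to the subgroup. -/
structure Family (D : Data G) (l : Fin 2 → ZMod 11) where
  /-- The common sign. -/
  ε : ℤ
  /-- The exceptional characters. -/
  X : Fin 5 → Cfsg.IrrCharacter G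
  /-- The first companion. -/
  P : Cfsg.IrrCharacter G
  /-- The second companion. -/
  Q : Cfsg.IrrCharacter G
  /-- Its sign. -/
  sP : ℤ
  /-- Its sign. -/
  sQ : ℤ
  ε_sq : ε = 1 ∨ ε = -1
  sP_sq : sP = 1 ∨ sP = -1
  sQ_sq : sQ = 1 ∨ sQ = -1
  X_inj : Function.Injective X
  X_deg : ∀ k, Cfsg.charDegree ((X k : G → ℂ)) = Cfsg.charDegree ((X 0 : G → ℂ))
  alpha_eq : ∀ x, D.alpha (coef 0, l) (0, l) x =
    (ε : ℂ) * ((X 0 : G → ℂ) x - (sP : ℂ) * (P : G → ℂ) x - (sQ : ℂ) * (Q : G → ℂ) x)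
  mult_X : ∀ k, D.mult (coef k, l) (X 0 : G → ℂ) - D.mult (0, l) (X 0 : G → ℂ) =
    if k = 0 then (ε : ℂ) else 0
  mult_P : ∀ k, D.mult (coef k, l) (P : G → ℂ) - D.mult (0, l) (P : G → ℂ) = -(ε : ℂ) * sP
  mult_Q : ∀ k, D.mult (coef k, l) (Q : G → ℂ) - D.mult (0, l) (Q : G → ℂ) = -(ε : ℂ) * sQ

include hl in
/-- The family exists. -/
theorem Covector.exists_family : Nonempty (Family D l) := by
  classical
  set A : Fin 5 → G → ℂ := fun k => D.alpha (coef k, l) (0, l) with hA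
  have hAA : ∀ i k, Cfsg.classInner (A i) (A k) = (if i = k then 1 else 0) + 2 := hl.inner_alpha
  have hA1 : ∀ k, A k 1 = 0 := fun k => D.ind_one (by simp [psi_zero])
  obtain ⟨εc, hεc, μ, hirr, hinj, hμ⟩ := Cfsg.Agent.S0198.result 5 0 (fun k => A k - A 0)
    (sub_self _) (fun k => isGeneralized_sub (D.alpha_gen _ _) (D.alpha_gen _ _))
    (fun k => by simp [hA1]) (fun i j hi hj => by
      simp only [classInner_sub_left, classInner_sub_right, hAA, hi, Ne.symm hj, if_false, if_true]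
      split_ifs <;> norm_num)
  obtain ⟨ε, hε, rfl⟩ : ∃ ε : ℤ, (ε = 1 ∨ ε = -1) ∧ εc = (ε : ℂ) := by
    rcases hεc with h | h
    · exact ⟨1, Or.inl rfl, by simp [h]⟩
    · exact ⟨-1, Or.inr rfl, by simp [h]⟩
  let X : Fin 5 → Cfsg.IrrCharacter G := fun k => ⟨μ k, hirr k⟩
  have hXinj : Function.Injective X := fun a b h => hinj (congrArg Subtype.val h)
  obtain ⟨m, hm, hexp, hnorm⟩ := IsGen.exists_mult (D.alpha_gen (coef 0, l) (0, l))
  have hεε : (ε : ℂ) * ε = 1 := by rcases hε with rfl | rfl <;> norm_num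
  have hsq : ∑ ψ, m ψ ^ 2 = 3 := by
    have h := hAA 0 0
    rw [if_pos rfl, show Cfsg.classInner (A 0) (A 0) = _ from hnorm] at h
    norm_num at h
    exact_mod_cast h
  have hrel : ∀ i, i ≠ 0 → m (X i) - m (X 0) = -ε := by
    intro i hi
    have h := congrArg (fun f => Cfsg.classInner (A 0) f) (hμ i)
    simp only [classInner_sub_right, classInner_smul_right, hAA, if_neg (Ne.symm hi), if_pos,
      map_intCast] at h
    rw [show Cfsg.classInner (A 0) (μ i) = (m (X i) : ℂ) from hm (X i),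
      show Cfsg.classInner (A 0) (μ 0) = (m (X 0) : ℂ) from hm (X 0)] at h
    have h' : ((m (X i) : ℂ) - m (X 0)) = -(ε : ℂ) := by
      linear_combination (-(ε : ℂ)) * h - ((m (X i) : ℂ) - m (X 0)) * hεε
    exact_mod_cast h'
  have hsplit : ∑ ψ, m ψ ^ 2 = ∑ i, m (X i) ^ 2 +
      ∑ ψ ∈ Finset.univ \ Finset.univ.image X, m ψ ^ 2 := by
    rw [← Finset.sum_sdiff (Finset.subset_univ (Finset.univ.image X)),
      Finset.sum_image fun a _ b _ h => hXinj h, add_comm]
  have hX0 : m (X 0) = ε ∧ ∀ i, i ≠ 0 → m (X i) = 0 := by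
    have hr : ∀ i, i ≠ 0 → m (X i) = m (X 0) - ε := fun i hi => by have := hrel i hi; omega
    have h5 : ∑ i, m (X i) ^ 2 ≤ 3 := by
      have : (0 : ℤ) ≤ ∑ ψ ∈ Finset.univ \ Finset.univ.image X, m ψ ^ 2 :=
        Finset.sum_nonneg fun _ _ => sq_nonneg _
      omega
    rw [Fin.sum_univ_five, hr 1 (by decide), hr 2 (by decide), hr 3 (by decide), hr 4 (by decide)]
      at h5
    have h0 : m (X 0) = ε := by
      rcases hε with rfl | rfl
      · have : 0 < m (X 0) ∧ m (X 0) < 2 := ⟨by nlinarith, by nlinarith⟩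
        omega
      · have : -2 < m (X 0) ∧ m (X 0) < 0 := ⟨by nlinarith, by nlinarith⟩
        omega
    exact ⟨h0, fun i hi => by rw [hr i hi, h0, sub_self]⟩
  let m' : Cfsg.IrrCharacter G → ℤ := fun ψ => if ψ = X 0 then 0 else m ψ
  have hm2 : ∑ ψ, m' ψ ^ 2 = 2 := by
    have h : ∑ ψ, m' ψ ^ 2 = ∑ ψ, m ψ ^ 2 - m (X 0) ^ 2 := by
      rw [eq_sub_iff_add_eq, ← Finset.add_sum_erase _ _ (Finset.mem_univ (X 0)),
        ← Finset.add_sum_erase _ (fun ψ => m ψ ^ 2) (Finset.mem_univ (X 0)),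
        Finset.sum_congr rfl fun ψ hψ => show m' ψ ^ 2 = m ψ ^ 2 by
          rw [show m' ψ = m ψ from if_neg (Finset.ne_of_mem_erase hψ)]]
      simp [m']
    rw [h, hsq, hX0.1]
    rcases hε with rfl | rfl <;> norm_num
  obtain ⟨P, Q, hPQ, hP, hQ, hrest⟩ := exists_pair hm2
  have hne : ∀ ψ : Cfsg.IrrCharacter G, m' ψ = 1 ∨ m' ψ = -1 → ∀ k, ψ ≠ X k := by
    intro ψ hψ k h
    subst h
    by_cases hk : k = 0
    · subst hk; simp [m'] at hψ
    · simp [m', hXinj.ne hk, hX0.2 k hk] at hψ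
  have hPm : m' P = m P := if_neg (hne P hP 0)
  have hQm : m' Q = m Q := if_neg (hne Q hQ 0)
  have halpha : ∀ x, A 0 x = (ε : ℂ) * (X 0 : G → ℂ) x + (m P : ℂ) * (P : G → ℂ) x +
      (m Q : ℂ) * (Q : G → ℂ) x := by
    intro x
    rw [show A 0 x = ∑ ψ, (m ψ : ℂ) * (ψ : G → ℂ) x by
      conv_lhs => rw [show A 0 = _ from hexp]
      simp [Finset.sum_apply]]
    rw [← Finset.sum_subset (Finset.subset_univ ({X 0, P, Q} : Finset (Cfsg.IrrCharacter G))) fun ψ _ hψ => by
      simp only [Finset.mem_insert, Finset.mem_singleton, not_or] at hψ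
      have := hrest ψ hψ.2.1 hψ.2.2
      simp [m', hψ.1] at this
      simp [this]]
    rw [Finset.sum_insert (by simp [(hne P hP 0).symm, (hne Q hQ 0).symm]),
      Finset.sum_insert (by simp [hPQ]), Finset.sum_singleton, hX0.1]
    ring
  have hmult : ∀ (k : Fin 5) (χ : Cfsg.IrrCharacter G), D.mult (coef k, l) (χ : G → ℂ) -
      D.mult (0, l) (χ : G → ℂ) = (m χ : ℂ) + (ε : ℂ) *
        ((if X k = χ then 1 else 0) - if X 0 = χ then 1 else 0) := by
    intro k χ
    rw [← D.inner_alpha _ _ (isClassFunction_of_isIrr χ.2)]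
    have h := congrArg (fun f => Cfsg.classInner f (χ : G → ℂ)) (hμ k)
    simp only [classInner_sub_left, classInner_smul_left] at h
    rw [show μ k = (X k : G → ℂ) from rfl, show μ 0 = (X 0 : G → ℂ) from rfl,
      classInner_irrChar, classInner_irrChar, show Cfsg.classInner (A 0) (χ : G → ℂ) = _ from hm χ] at h
    linear_combination h
  have hεsP : ∀ {e s : ℤ}, (e = 1 ∨ e = -1) → (s = 1 ∨ s = -1) → (-e * s = 1 ∨ -e * s = -1) := by
    rintro e s (rfl | rfl) (rfl | rfl) <;> norm_num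
  refine ⟨{
    ε := ε, X := X, P := P, Q := Q, sP := -ε * m P, sQ := -ε * m Q
    ε_sq := hε, sP_sq := hεsP hε (hPm ▸ hP), sQ_sq := hεsP hε (hQm ▸ hQ), X_inj := hXinj
    X_deg := fun k => ?_, alpha_eq := fun x => ?_
    mult_X := fun k => ?_, mult_P := fun k => ?_, mult_Q := fun k => ?_ }⟩
  · have h := congrFun (hμ k) 1
    simp only [Pi.sub_apply, hA1, sub_self, Pi.smul_apply, smul_eq_mul] at h
    rcases mul_eq_zero.1 h.symm with h0 | h0
    · rcases hε with rfl | rfl <;> norm_num at h0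
    · rw [sub_eq_zero] at h0
      have h1 := Cfsg.Agent.Blocks.charDegree_cast (IsIrr.isCharacter (X k).2)
      rw [show ((X k : G → ℂ)) 1 = (X 0 : G → ℂ) 1 from h0,
        ← Cfsg.Agent.Blocks.charDegree_cast (IsIrr.isCharacter (X 0).2)] at h1
      exact_mod_cast h1
  · show A 0 x = _
    rw [halpha x]
    push_cast
    linear_combination (-(m P : ℂ) * (P : G → ℂ) x - (m Q : ℂ) * (Q : G → ℂ) x) * hεε
  · rw [hmult, hX0.1, if_pos rfl]
    by_cases hk : k = 0
    · subst hk; simp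
    · rw [if_neg (hXinj.ne hk), if_neg hk]; ring
  · rw [hmult, if_neg (hne P hP k).symm, if_neg (hne P hP 0).symm]
    push_cast
    linear_combination (-(m P : ℂ)) * hεε
  · rw [hmult, if_neg (hne Q hQ k).symm, if_neg (hne Q hQ 0).symm]
    push_cast
    linear_combination (-(m Q : ℂ)) * hεε

end Cfsg.Agent.J4Type.Eleven
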