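import Cfsg.Agent.BlockThms.OrderP.Main
import Cfsg.Agent.J4Type.Eleven.Arith

/-!
# Character degrees modulo a prime with self-centralizing Sylow subgroup

Every irreducible degree is divisible by `q`, congruent to `±1`, or belongs to the family of
`(q - 1) / e` exceptional characters, of degree congruent to `±e`.
-/

set_option autoImplicit false

namespace Cfsg.Agent.J4Type.Eleven

open Cfsg.Agent Cfsg.Agent.BlockThms Cfsg.Agent.BlockThms.OrderP

universe u

variable {G : Type u} [Group G] [Fintype G] {q e : ℕ} [Fact q.Prime] {P : Sylow q G}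

omit [Fintype G] in
/-- A natural number congruent to a small integer. -/
theorem mod_of_modEq {d c : ℕ} (hc : c < q) (h : (d : ℤ) ≡ (c : ℤ) [ZMOD q]) : d % q = c := by
  have h1 : d ≡ c [MOD q] := Int.natCast_modEq_iff.1 h
  rw [h1]
  exact Nat.mod_eq_of_lt hc

omit [Fintype G] in
/-- A natural number congruent to the negative of a small integer. -/
theorem mod_of_modEq_neg {d c : ℕ} (hc : c < q) (hc0 : 0 < c)
    (h : (d : ℤ) ≡ -(c : ℤ) [ZMOD q]) : d % q = q - c := by
  refine mod_of_modEq (by omega) (h.trans ?_)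
  rw [Int.modEq_iff_dvd]
  exact ⟨1, by push_cast [Nat.cast_sub hc.le]; ring⟩

/-- The trichotomy. -/
theorem degree_mod (hodd : q ≠ 2) (hP : Nat.card P = q)
    (hC : Subgroup.centralizer ((P : Subgroup G) : Set G) = (P : Subgroup G))
    (he : (Subgroup.centralizer ((P : Subgroup G) : Set G)).relIndex
      (Subgroup.normalizer ((P : Subgroup G) : Set G)) = e) :
    ∃ Y : Finset (Cfsg.IrrCharacter G), Y.card = (q - 1) / e ∧ ∀ χ : Cfsg.IrrCharacter G,
      okPlain q (Cfsg.charDegree (χ : G → ℂ)) = true ∨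
        (χ ∈ Y ∧ ((Cfsg.charDegree (χ : G → ℂ) : ℤ) ≡ e [ZMOD q] ∨
          (Cfsg.charDegree (χ : G → ℂ) : ℤ) ≡ -(e : ℤ) [ZMOD q])) := by
  classical
  have hq : q.Prime := Fact.out
  have := hq.two_le
  have hS : Setup P e := ⟨hP, he⟩
  obtain ⟨M, hM⟩ := Cfsg.Agent.Blocks.exists_isPModular (p := q) hq
  obtain ⟨X, Y, a, s, -, -, hYc, hmem, hs, hX, hY, -, -⟩ := hS.principal_structure hM
  refine ⟨Y, hYc, fun χ => ?_⟩
  by_cases hχ : χ ∈ Cfsg.principalBlock M G
  · rcases (hmem χ).1 hχ with h | h
    · left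
      obtain ⟨ha, hd, -⟩ := hX χ h
      simp only [okPlain, Bool.or_eq_true, beq_iff_eq]
      rcases ha with ha | ha <;> rw [ha] at hd
      · exact Or.inl (Or.inr (mod_of_modEq (c := 1) (by omega) (by exact_mod_cast hd)))
      · exact Or.inr (mod_of_modEq_neg (c := 1) (by omega) one_pos (by exact_mod_cast hd))
    · refine Or.inr ⟨h, ?_⟩
      have h1 := hY χ h
      rcases hs with rfl | rfl
      · exact Or.inr (by simpa using h1)
      · exact Or.inl (by simpa using h1)
  left
  have hvan : ∀ x ∈ (P : Subgroup G), x ≠ 1 → (χ : G → ℂ) x = 0 := by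
    intro x hx hx1
    have hCx : ∀ y : Subgroup.centralizer ({x} : Set G), ¬ q ∣ orderOf y → (y : G) = 1 := by
      intro y hy
      have hy' : (y : G) ∈ (P : Subgroup G) := by
        have h := (SetLike.ext_iff.1 ((hS.centralizer_eq hx hx1).trans hC) (y : G)).1 y.2
        exact h
      by_contra hne
      refine hy ?_
      rw [← Subgroup.orderOf_coe, ← Nat.card_zpowers, hS.zpowers_eq hy' hne, hS.card]
    have hfil : (Finset.univ.filter fun y : Subgroup.centralizer ({x} : Set G) =>
        ¬ q ∣ orderOf y) = {1} := by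
      ext y
      simp only [Finset.mem_filter, Finset.mem_univ, true_and, Finset.mem_singleton]
      exact ⟨fun h => Subtype.ext (hCx y h), fun h => by
        subst h; rw [orderOf_one]; exact hq.not_dvd_one⟩
    have hsum := hS.sum_fiber_eq hx (χ : G → ℂ)
    have hcnt := hS.sum_fiber_eq hx (fun _ : G => (1 : ℂ))
    rw [hfil, Finset.sum_singleton, OneMemClass.coe_one, mul_one] at hsum
    rw [hfil, Finset.sum_singleton, Finset.sum_const, nsmul_one] at hcnt
    have h0 := hS.avg_eq_zero hM hx hx1 hχ
    rw [avg, hsum, hcnt, inv_one, one_mul] at h0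
    exact h0
  have hdvd : q ∣ Cfsg.charDegree (χ : G → ℂ) := by
    obtain ⟨n, ρ, hρ⟩ := Cfsg.Agent.Char.IsIrr.isCharacter χ.2
    have hd : Cfsg.charDegree (χ : G → ℂ) = n := by
      refine Cfsg.Agent.Blocks.charDegree_eq ?_
      rw [← hρ]
      show LinearMap.trace ℂ _ (ρ 1) = _
      rw [map_one, LinearMap.trace_one, Module.finrank_fin_fun]
    let ρP : Representation ℂ (P : Subgroup G) (Fin n → ℂ) := ρ.comp (P : Subgroup G).subtype
    have hne : (Nat.card (P : Subgroup G) : ℂ) ≠ 0 := Nat.cast_ne_zero.2 Nat.card_pos.ne'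
    have : Invertible (Nat.card (P : Subgroup G) : ℂ) := invertibleOfNonzero hne
    have h1 := ρP.card_inv_mul_sum_char_eq_finrank
    have hval : ∀ u : (P : Subgroup G), ρP.character u = if u = 1 then (n : ℂ) else 0 := by
      intro u
      split_ifs with hu
      · subst hu
        show LinearMap.trace ℂ _ (ρP 1) = _
        rw [map_one, LinearMap.trace_one, Module.finrank_fin_fun]
      · have := hvan u u.2 fun h => hu (Subtype.ext h)
        rw [← hρ] at this
        exact this
    rw [Finset.sum_congr rfl fun u _ => hval u, Finset.sum_ite_eq' Finset.univ 1,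
      if_pos (Finset.mem_univ _), hP] at h1
    refine ⟨Module.finrank ℂ ρP.invariants, ?_⟩
    rw [hd]
    have hq0 : (q : ℂ) ≠ 0 := Nat.cast_ne_zero.2 hq.ne_zero
    field_simp at h1
    exact_mod_cast h1
  simp [okPlain, Nat.mod_eq_zero_of_dvd hdvd]

/-- The residues for an arbitrary character. -/
theorem okAny_degree (hodd : q ≠ 2) (hP : Nat.card P = q)
    (hC : Subgroup.centralizer ((P : Subgroup G) : Set G) = (P : Subgroup G))
    (he : (Subgroup.centralizer ((P : Subgroup G) : Set G)).relIndex
      (Subgroup.normalizer ((P : Subgroup G) : Set G)) = e) (he0 : 0 < e) (heq : e < q)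
    (χ : Cfsg.IrrCharacter G) : okAny q e (Cfsg.charDegree (χ : G → ℂ)) = true := by
  obtain ⟨Y, -, h⟩ := degree_mod hodd hP hC he
  simp only [okAny, Bool.or_eq_true, beq_iff_eq]
  rcases h χ with h | ⟨-, h | h⟩
  · exact Or.inl (Or.inl h)
  · exact Or.inl (Or.inr (mod_of_modEq heq h))
  · exact Or.inr (mod_of_modEq_neg heq he0 h)

/-- The residues when the automizer is the whole automorphism group. -/
theorem okPlain_degree (hodd : q ≠ 2) (hP : Nat.card P = q)
    (hC : Subgroup.centralizer ((P : Subgroup G) : Set G) = (P : Subgroup G))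
    (he : (Subgroup.centralizer ((P : Subgroup G) : Set G)).relIndex
      (Subgroup.normalizer ((P : Subgroup G) : Set G)) = e) (heq : e + 1 = q)
    (χ : Cfsg.IrrCharacter G) : okPlain q (Cfsg.charDegree (χ : G → ℂ)) = true := by
  have := (Fact.out : q.Prime).two_le
  have h := okAny_degree hodd hP hC he (by omega) (by omega) χ
  simp only [okAny, okPlain, Bool.or_eq_true, beq_iff_eq] at h ⊢
  omega

/-- More equal degrees than exceptional characters. -/
theorem okPlain_of_many (hodd : q ≠ 2) (hP : Nat.card P = q)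
    (hC : Subgroup.centralizer ((P : Subgroup G) : Set G) = (P : Subgroup G))
    (he : (Subgroup.centralizer ((P : Subgroup G) : Set G)).relIndex
      (Subgroup.normalizer ((P : Subgroup G) : Set G)) = e) (S : Finset (Cfsg.IrrCharacter G))
    (hcard : (q - 1) / e < S.card) {d : ℕ}
    (hS : ∀ χ ∈ S, Cfsg.charDegree (χ : G → ℂ) = d) : okPlain q d = true := by
  obtain ⟨Y, hY, h⟩ := degree_mod hodd hP hC he
  obtain ⟨χ, hχS, hχY⟩ := Finset.exists_mem_notMem_of_card_lt_card (hY ▸ hcard : Y.card < S.card)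
  rcases h χ with h | ⟨h, -⟩
  · rwa [hS χ hχS] at h
  · exact absurd h hχY

end Cfsg.Agent.J4Type.Eleven
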