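import Cfsg.Agent.J4Type.Eleven.Congruence
import Cfsg.Agent.J4Type.Eleven.Counts
import Cfsg.Agent.J4Type.Eleven.PrimeDegree
import Cfsg.Agent.Char.ClassAlg
import Cfsg.Agent.Char.Integral

/-!
# A group of Janko-four type has no abelian Sylow 11-subgroup

`Data.false`: the data of `Data` together with the order and the five self-centralizing primes
are contradictory.
-/

set_option autoImplicit false

open scoped Matrix ComplexConjugate

namespace Cfsg.Agent.J4Type.Eleven

open Cfsg.Agent Cfsg.Agent.Char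

universe u

/-- A self-centralizing Sylow subgroup of prime order with normalizer of order `q * e`. -/
def SelfCentralPrime (G : Type u) [Group G] (q e : ℕ) : Prop :=
  ∃ P : Sylow q G, Nat.card P = q ∧
    Subgroup.centralizer ((P : Subgroup G) : Set G) = (P : Subgroup G) ∧
    Nat.card (Subgroup.normalizer ((P : Subgroup G) : Set G)) = q * e

theorem relIndex_of_selfCentral {G : Type u} [Group G] [Finite G] {q e : ℕ} {P : Sylow q G}
    (hq : 0 < q) (h1 : Nat.card P = q)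
    (h2 : Subgroup.centralizer ((P : Subgroup G) : Set G) = (P : Subgroup G))
    (h3 : Nat.card (Subgroup.normalizer ((P : Subgroup G) : Set G)) = q * e) :
    (Subgroup.centralizer ((P : Subgroup G) : Set G)).relIndex
      (Subgroup.normalizer ((P : Subgroup G) : Set G)) = e := by
  rw [h2]
  have hle : (P : Subgroup G) ≤ Subgroup.normalizer ((P : Subgroup G) : Set G) := Subgroup.le_normalizer
  have h := ((P : Subgroup G).subgroupOf (Subgroup.normalizer ((P : Subgroup G) : Set G))).card_mul_index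
  rw [Nat.card_congr (Subgroup.subgroupOfEquivOfLe hle).toEquiv, h1, h3] at h
  exact Nat.eq_of_mul_eq_mul_left hq h

variable {G : Type u} [Group G] [Fintype G] (D : Data G)

/-- Values at an involution are integers. -/
theorem exists_int_involution {χ : G → ℂ} (hχ : Cfsg.IsCharacter G χ) {x : G} (hx : orderOf x = 2) :
    ∃ k : ℤ, χ x = k := by
  obtain ⟨n, ρ, rfl⟩ := hχ
  obtain ⟨μ, b, -, hμ, h⟩ := exists_eigenbasis ρ x
  rw [hx] at hμ
  have : ∀ i, ∃ s : ℤ, μ i = s := fun i => by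
    rcases sq_eq_one_iff.1 (hμ i) with h | h
    · exact ⟨1, by simp [h]⟩
    · exact ⟨-1, by simp [h]⟩
  choose s hs using this
  exact ⟨∑ i, s i, by rw [h]; simp [hs]⟩

open scoped Classical in
/-- The sum of `alpha` over products of two conjugates of `t`. -/
theorem Data.sum_products [Fact (Nat.Prime 11)] {l : Fin 2 → ZMod 11} (hl : l ≠ 0) :
    ∑ x ∈ Finset.univ.filter (IsConj D.t), ∑ y ∈ Finset.univ.filter (IsConj D.t),
      D.alpha (coef 0, l) (0, l) (x * y) = -11 * (Nat.card G : ℂ) := by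
  have h1 : ∑ x ∈ Finset.univ.filter (IsConj D.t), ∑ y ∈ Finset.univ.filter (IsConj D.t),
      D.alpha (coef 0, l) (0, l) (x * y) =
      ∑ z : G, D.alpha (coef 0, l) (0, l) z * (D.cnt z : ℂ) := by
    have h2 : ∀ z : G, (D.cnt z : ℂ) =
        ∑ x ∈ Finset.univ.filter (IsConj D.t), if IsConj D.t (x⁻¹ * z) then 1 else 0 := fun z => by
      rw [Data.cnt, Nat.card_eq_fintype_card, Fintype.card_subtype, Finset.sum_boole,
        Finset.filter_filter]
    simp only [h2, Finset.mul_sum, mul_ite, mul_one, mul_zero]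
    rw [Finset.sum_comm (s := (Finset.univ : Finset G))]
    refine Finset.sum_congr rfl fun x _ => ?_
    rw [Finset.sum_filter]
    refine Fintype.sum_equiv (Equiv.mulLeft x) _ _ fun y => ?_
    simp
  rw [h1, Data.alpha, D.sum_ind_mul _ (F := fun z => (D.cnt z : ℂ)) fun g h => by
    show (D.cnt _ : ℂ) = _
    rw [cnt_conj D h g]]
  have hsum : ∀ a : Coord, a.2 ≠ 0 → ∑ w : Coord, psi a w = 0 := fun a ha => by
    rw [sum_psi, if_neg fun h => ha (by rw [h]; rfl)]
  have hterm : ∀ w : Coord, (psi (coef 0, l) w - psi (0, l) w) * (D.cnt (D.el w) : ℂ) =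
      121 * (psi (coef 0, l) w - psi (0, l) w) +
        if w.2 = 0 then 1331 * (psi (coef 0, l) w - psi (0, l) w) else 0 := by
    intro w
    by_cases hw : w = 0
    · subst hw; simp [psi_zero]
    rw [D.cnt_value hw]
    split_ifs <;> push_cast <;> ring
  have hline : ∑ w : Coord, (if w.2 = 0 then 1331 * (psi (coef 0, l) w - psi (0, l) w) else 0) =
      (-14641 : ℂ) := by
    rw [Fintype.sum_prod_type]
    simp only [Finset.sum_ite_eq', Finset.mem_univ, if_true, ← Finset.mul_sum, Finset.sum_sub_distrib]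
    have hp : ∀ (c i : ZMod 11), psi (c, l) (i, 0) = ZMod.stdAddChar (c * i) := fun c i => by
      simp [psi, pair]
    simp only [hp, show coef 0 = 1 from rfl, one_mul, zero_mul, AddChar.map_zero_eq_one,
      Finset.sum_const, Finset.card_univ, ZMod.card, nsmul_one]
    rw [AddChar.sum_eq_zero_of_ne_one (ψ := (ZMod.stdAddChar : AddChar (ZMod 11) ℂ)) fun h => by
      have : (1 : ZMod 11) = 0 := ZMod.injective_stdAddChar (by rw [h]; rfl)
      exact one_ne_zero this]
    norm_num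
  simp only [hterm, Finset.sum_add_distrib, ← Finset.mul_sum, Finset.sum_sub_distrib, hsum (coef 0, l) hl, hsum (0, l) hl,
    sub_self, mul_zero, zero_add, hline]
  ring

open scoped Classical in
/-- The class product equation. -/
theorem Data.equation [Fact (Nat.Prime 11)] {l : Fin 2 → ZMod 11} (hl : l ≠ 0) (F : Family D l) :
    ∃ x y w : ℤ, x = y + w ∧
      (F.ε : ℤ) * Nat.card G *
        (x ^ 2 * (F.sP * (Cfsg.charDegree (F.P : G → ℂ) : ℤ)) *
            (F.sQ * (Cfsg.charDegree (F.Q : G → ℂ) : ℤ)) -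
          y ^ 2 * (Cfsg.charDegree (F.X 0 : G → ℂ) : ℤ) *
            (F.sQ * (Cfsg.charDegree (F.Q : G → ℂ) : ℤ)) -
          w ^ 2 * (Cfsg.charDegree (F.X 0 : G → ℂ) : ℤ) *
            (F.sP * (Cfsg.charDegree (F.P : G → ℂ) : ℤ))) =
      -11 * 1816657920 ^ 2 * (Cfsg.charDegree (F.X 0 : G → ℂ) : ℤ) *
        (F.sP * (Cfsg.charDegree (F.P : G → ℂ) : ℤ)) * (F.sQ * (Cfsg.charDegree (F.Q : G → ℂ) : ℤ)) := by
  obtain ⟨x0, hx⟩ := exists_int_involution (IsIrr.isCharacter (F.X 0).2) D.t_order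
  obtain ⟨y0, hy⟩ := exists_int_involution (IsIrr.isCharacter F.P.2) D.t_order
  obtain ⟨w0, hw⟩ := exists_int_involution (IsIrr.isCharacter F.Q.2) D.t_order
  refine ⟨x0, F.sP * y0, F.sQ * w0, ?_, ?_⟩
  · have h := F.alpha_eq D.t
    rw [Data.alpha, D.ind_eq_zero_of_involution D.t_order, hx, hy, hw, zero_eq_mul] at h
    rcases h with h | h
    · exact absurd h (by rcases F.ε_sq with e | e <;> rw [e] <;> norm_num)
    · have h' : ((x0 : ℂ)) = ((F.sP * y0 + F.sQ * w0 : ℤ) : ℂ) := by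
        push_cast; linear_combination h
      exact_mod_cast h'
  have hidx := (Subgroup.centralizer ({D.t} : Set G)).card_mul_index
  rw [D.card_centralizer] at hidx
  set I := (Subgroup.centralizer ({D.t} : Set G)).index
  have hc : ∀ χ : Cfsg.IrrCharacter G, ∀ v : ℤ, (χ : G → ℂ) D.t = v →
      (Cfsg.charDegree (χ : G → ℂ) : ℂ) *
        ∑ a ∈ Finset.univ.filter (IsConj D.t), ∑ b ∈ Finset.univ.filter (IsConj D.t),
          (χ : G → ℂ) (a * b) = (I : ℂ) ^ 2 * (v : ℂ) ^ 2 := by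
    intro χ v hv
    rw [Cfsg.Agent.Blocks.charDegree_cast (IsIrr.isCharacter χ.2)]
    refine Eq.trans ?_ ((sum_classes_mul χ.2 D.t D.t).trans (by rw [hv]; ring))
    congr!
  have hX := hc (F.X 0) x0 hx
  have hP := hc F.P y0 hy
  have hQ := hc F.Q w0 hw
  have hS := D.sum_products hl
  simp only [F.alpha_eq, ← Finset.mul_sum, Finset.sum_sub_distrib] at hS
  have hsP : (F.sP : ℂ) ^ 2 = 1 := by rcases F.sP_sq with e | e <;> rw [e] <;> norm_num
  have hsQ : (F.sQ : ℂ) ^ 2 = 1 := by rcases F.sQ_sq with e | e <;> rw [e] <;> norm_num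
  have hI : (1816657920 : ℂ) * (I : ℂ) = (Nat.card G : ℂ) := by exact_mod_cast hidx
  have hI0 : (I : ℂ) ≠ 0 := Nat.cast_ne_zero.2 Subgroup.index_ne_zero_of_finite
  set d : ℂ := (Cfsg.charDegree (F.X 0 : G → ℂ) : ℂ)
  set p : ℂ := (Cfsg.charDegree (F.P : G → ℂ) : ℂ)
  set q : ℂ := (Cfsg.charDegree (F.Q : G → ℂ) : ℂ)
  have key : (F.ε : ℂ) * (I : ℂ) ^ 2 *
      ((x0 : ℂ) ^ 2 * (F.sP * p) * (F.sQ * q) - ((F.sP : ℂ) * y0) ^ 2 * d * (F.sQ * q) -
        ((F.sQ : ℂ) * w0) ^ 2 * d * (F.sP * p)) =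
      -11 * (Nat.card G : ℂ) * d * (F.sP * p) * (F.sQ * q) := by
    linear_combination (d * ((F.sP : ℂ) * p) * ((F.sQ : ℂ) * q)) * hS
      - ((F.ε : ℂ) * ((F.sP : ℂ) * p) * ((F.sQ : ℂ) * q)) * hX
      + ((F.ε : ℂ) * d * ((F.sQ : ℂ) * q) * (F.sP : ℂ) ^ 2) * hP
      + ((F.ε : ℂ) * d * ((F.sP : ℂ) * p) * (F.sQ : ℂ) ^ 2) * hQ
  have key2 : (F.ε : ℂ) * (Nat.card G : ℂ) *
      ((x0 : ℂ) ^ 2 * (F.sP * p) * (F.sQ * q) - ((F.sP : ℂ) * y0) ^ 2 * d * (F.sQ * q) -
        ((F.sQ : ℂ) * w0) ^ 2 * d * (F.sP * p)) =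
      -11 * 1816657920 ^ 2 * d * (F.sP * p) * (F.sQ * q) := by
    rw [← hI] at key ⊢
    refine mul_left_cancel₀ hI0 ?_
    linear_combination (1816657920 : ℂ) * key
  simp only [d, p, q] at key2
  exact_mod_cast key2

/-- The data are contradictory. -/
theorem Data.false (D : Data G) (hG : Nat.card G = ordG) (h23 : SelfCentralPrime G 23 22)
    (h29 : SelfCentralPrime G 29 28) (h31 : SelfCentralPrime G 31 10)
    (h37 : SelfCentralPrime G 37 12) (h43 : SelfCentralPrime G 43 14) : False := by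
  classical
  have : Fact (Nat.Prime 11) := ⟨by norm_num⟩
  obtain ⟨l, hl1, hl2, hl3, hl4⟩ := D.exists_covector
  have hl : Covector D l := ⟨hl1, hl2, hl3, hl4⟩
  obtain ⟨F⟩ := hl.exists_family
  set deg := fun χ : Cfsg.IrrCharacter G => Cfsg.charDegree (χ : G → ℂ) with hdeg
  have hcast : ∀ χ : Cfsg.IrrCharacter G, (deg χ : ℂ) = (χ : G → ℂ) 1 := fun χ =>
    Cfsg.Agent.Blocks.charDegree_cast (IsIrr.isCharacter χ.2)
  have hdvd : ∀ χ, deg χ ∣ ordG := fun χ => hG ▸ IsIrr.degree_dvd_card χ.2 (hcast χ).symm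
  have hle : ∀ χ, deg χ * deg χ ≤ ordG := fun χ => by
    have h := sum_sq_degree (G := G)
    simp only [← hcast, hG] at h
    have h' : ∑ χ, deg χ ^ 2 = ordG := by exact_mod_cast h
    rw [← sq, ← h']
    exact Finset.single_le_sum (f := fun χ => deg χ ^ 2) (fun _ _ => Nat.zero_le _) (Finset.mem_univ χ)
  set S := Finset.univ.image F.X
  have hScard : S.card = 5 := by
    rw [Finset.card_image_of_injective _ F.X_inj, Finset.card_univ, Fintype.card_fin]
  have hSdeg : ∀ χ ∈ S, deg χ = deg (F.X 0) := fun χ hχ => by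
    obtain ⟨k, -, rfl⟩ := Finset.mem_image.1 hχ
    exact F.X_deg k
  obtain ⟨P23, a1, a2, a3⟩ := h23
  obtain ⟨P29, b1, b2, b3⟩ := h29
  obtain ⟨P31, c1, c2, c3⟩ := h31
  obtain ⟨P37, d1, d2, d3⟩ := h37
  obtain ⟨P43, e1, e2, e3⟩ := h43
  have : Fact (Nat.Prime 23) := ⟨by norm_num⟩
  have : Fact (Nat.Prime 29) := ⟨by norm_num⟩
  have : Fact (Nat.Prime 31) := ⟨by norm_num⟩
  have : Fact (Nat.Prime 37) := ⟨by norm_num⟩
  have : Fact (Nat.Prime 43) := ⟨by norm_num⟩
  have r23 := relIndex_of_selfCentral (by norm_num) a1 a2 a3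
  have r29 := relIndex_of_selfCentral (by norm_num) b1 b2 b3
  have r31 := relIndex_of_selfCentral (by norm_num) c1 c2 c3
  have r37 := relIndex_of_selfCentral (by norm_num) d1 d2 d3
  have r43 := relIndex_of_selfCentral (by norm_num) e1 e2 e3
  have hPrimes : ∀ χ, primesP (deg χ) = true := fun χ => by
    simp only [primesP, Bool.and_eq_true]
    exact ⟨⟨⟨⟨okPlain_degree (by norm_num) a1 a2 r23 (by norm_num) χ,
      okPlain_degree (by norm_num) b1 b2 r29 (by norm_num) χ⟩,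
      okAny_degree (by norm_num) c1 c2 r31 (by norm_num) (by norm_num) χ⟩,
      okAny_degree (by norm_num) d1 d2 r37 (by norm_num) (by norm_num) χ⟩,
      okAny_degree (by norm_num) e1 e2 r43 (by norm_num) (by norm_num) χ⟩
  have hPrimesX : primesX (deg (F.X 0)) = true := by
    simp only [primesX, Bool.and_eq_true]
    exact ⟨⟨⟨⟨okPlain_degree (by norm_num) a1 a2 r23 (by norm_num) _,
      okPlain_degree (by norm_num) b1 b2 r29 (by norm_num) _⟩,
      okPlain_of_many (by norm_num) c1 c2 r31 S (by rw [hScard]; norm_num) hSdeg⟩,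
      okPlain_of_many (by norm_num) d1 d2 r37 S (by rw [hScard]; norm_num) hSdeg⟩,
      okPlain_of_many (by norm_num) e1 e2 r43 S (by rw [hScard]; norm_num) hSdeg⟩
  have habs : ∀ {s : ℤ} (χ : Cfsg.IrrCharacter G), (s = 1 ∨ s = -1) →
      (s * (deg χ : ℤ)).natAbs = deg χ := fun {s} χ hs => by
    rcases hs with rfl | rfl <;> simp
  have hone : (deg (F.X 0) : ℤ) = F.sP * (deg F.P : ℤ) + F.sQ * (deg F.Q : ℤ) := by
    have h := F.alpha_eq 1
    rw [Data.alpha, D.ind_one (by simp [psi_zero]), ← hcast, ← hcast, ← hcast, zero_eq_mul] at h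
    rcases h with h | h
    · exact absurd h (by rcases F.ε_sq with e | e <;> rw [e] <;> norm_num)
    · have h' : ((deg (F.X 0) : ℤ) : ℂ) =
          ((F.sP * (deg F.P : ℤ) + F.sQ * (deg F.Q : ℤ) : ℤ) : ℂ) := by
        push_cast; linear_combination h
      exact_mod_cast h'
  obtain ⟨x, y, w, hxyw, heq⟩ := D.equation hl1 F
  rw [hG] at heq
  refine no_degrees (d := deg (F.X 0)) (P := F.sP * (deg F.P : ℤ)) (Q := F.sQ * (deg F.Q : ℤ))
    (y := y) (w := w) F.ε_sq (hdvd _) (by rw [habs _ F.sP_sq]; exact hdvd _)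
    (by rw [habs _ F.sQ_sq]; exact hdvd _) (hle _) (by rw [habs _ F.sP_sq]; exact hle _)
    (by rw [habs _ F.sQ_sq]; exact hle _) hPrimesX (by rw [habs _ F.sP_sq]; exact hPrimes _)
    (by rw [habs _ F.sQ_sq]; exact hPrimes _) (hl.exceptional_near F)
    (hl.companion_near F F.P F.sP_sq F.mult_P) (hl.companion_near F F.Q F.sQ_sq F.mult_Q) hone ?_
  have hε2 : F.ε ^ 2 = 1 := by rcases F.ε_sq with e | e <;> rw [e] <;> norm_num
  simp only [hdeg] at hone ⊢
  rw [hxyw, hone] at heq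
  rw [prodConst, hone]
  linear_combination (-F.ε) * heq - (y * (F.sQ * (Cfsg.charDegree (F.Q : G → ℂ) : ℤ)) -
    w * (F.sP * (Cfsg.charDegree (F.P : G → ℂ) : ℤ))) ^ 2 * (ordG : ℤ) * hε2

end Cfsg.Agent.J4Type.Eleven
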