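import Cfsg.Agent.J4Type.Eleven.Orbits
import Cfsg.Agent.Char.Gen

/-!
# Class functions induced from the subgroup
-/

set_option autoImplicit false

open scoped Matrix ComplexConjugate

namespace Cfsg.Agent.J4Type.Eleven

open Cfsg.Agent Cfsg.Agent.Char

universe u

/-- The linear characters of the subgroup. -/
noncomputable def psi (a w : Coord) : ℂ := ZMod.stdAddChar (pair a w)

theorem psi_zero (a : Coord) : psi a 0 = 1 := by simp [psi, pair]

theorem psi_add (a w w' : Coord) : psi a (w + w') = psi a w * psi a w' := by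
  rw [psi, psi, psi, ← AddChar.map_add_eq_mul]
  congr 1
  simp only [pair, Prod.fst_add, Prod.snd_add, dotProduct_add, mul_add]
  abel

theorem psi_mul (a b w : Coord) : psi a w * psi b w = psi (a + b) w := by
  rw [psi, psi, psi, ← AddChar.map_add_eq_mul]
  congr 1
  simp only [pair, Prod.fst_add, Prod.snd_add, add_dotProduct, add_mul]
  abel

theorem psi_conj (a w : Coord) : conj (psi a w) = psi (-a) w := by
  rw [psi, psi, ZMod.stdAddChar_apply, ZMod.stdAddChar_apply, ← Circle.coe_inv_eq_conj,
    ← AddChar.map_neg_eq_inv]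
  congr 2
  simp only [pair, Prod.fst_neg, Prod.snd_neg, neg_dotProduct, neg_mul]
  abel

/-- Orthogonality. -/
theorem sum_psi (a : Coord) : ∑ w : Coord, psi a w = if a = 0 then 1331 else 0 := by
  split_ifs with ha
  · subst ha
    simp [psi, pair, Coord]
  · let χ : AddChar Coord ℂ :=
      { toFun := psi a, map_zero_eq_one' := psi_zero a, map_add_eq_mul' := psi_add a }
    refine AddChar.sum_eq_zero_of_ne_one (ψ := χ) fun h => ha ?_
    have hp : ∀ w, pair a w = 0 := fun w => by
      refine ZMod.injective_stdAddChar ?_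
      rw [AddChar.map_zero_eq_one]
      exact congrArg (fun f : AddChar Coord ℂ => f w) h
    have h1 := hp (1, 0)
    have h2 := hp (0, ![1, 0])
    have h3 := hp (0, ![0, 1])
    simp [pair, dotProduct, Fin.sum_univ_two] at h1 h2 h3
    refine Prod.ext h1 (funext fun i => ?_)
    fin_cases i <;> assumption

theorem sum_psi_conj (a b : Coord) :
    ∑ w : Coord, psi a w * conj (psi b w) = if a = b then 1331 else 0 := by
  simp only [psi_conj, psi_mul, sum_psi, ← sub_eq_add_neg, sub_eq_zero]

variable {G : Type u} [Group G] [Fintype G] (D : Data G)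

open scoped Classical in
/-- The function induced from the subgroup. -/
noncomputable def Data.ind (f : Coord → ℂ) (x : G) : ℂ :=
  (1331 : ℂ)⁻¹ * ∑ g : G, ∑ w : Coord, if g⁻¹ * x * g = D.el w then f w else 0

theorem Data.ind_classFun (f : Coord → ℂ) : Cfsg.IsClassFunction G (D.ind f) := by
  classical
  intro x k
  simp only [Data.ind]
  congr 1
  refine Fintype.sum_equiv (Equiv.mulLeft k⁻¹) _ _ fun g => Finset.sum_congr rfl fun w _ => ?_
  rw [show g⁻¹ * (k * x * k⁻¹) * g = (k⁻¹ * g)⁻¹ * x * (k⁻¹ * g) by group]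
  rfl

/-- Summing the induced function against a class function. -/
theorem Data.sum_ind_mul (f : Coord → ℂ) {F : G → ℂ} (hF : Cfsg.IsClassFunction G F) :
    ∑ x : G, D.ind f x * F x =
      (Nat.card G : ℂ) * (1331 : ℂ)⁻¹ * ∑ w : Coord, f w * F (D.el w) := by
  classical
  simp only [Data.ind, mul_assoc, ← Finset.mul_sum]
  rw [mul_left_comm (Nat.card G : ℂ)]
  congr 1
  simp only [Finset.sum_mul, ite_mul, zero_mul]
  rw [Finset.sum_comm, Nat.card_eq_fintype_card]
  have key : ∀ g : G, (∑ x : G, ∑ w : Coord, if g⁻¹ * x * g = D.el w then f w * F x else 0) =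
      ∑ w : Coord, f w * F (D.el w) := by
    intro g
    rw [Finset.sum_comm]
    refine Finset.sum_congr rfl fun w _ => ?_
    rw [Finset.sum_eq_single (g * D.el w * g⁻¹) (fun x _ hx => if_neg fun h => hx (by rw [← h]; group))
      (by simp), if_pos (by group), hF (D.el w) g]
  simp only [mul_assoc] at key ⊢
  simp only [key, Finset.sum_const, Finset.card_univ, nsmul_eq_mul]

/-- The multiplicity of a linear character. -/
noncomputable def Data.mult (a : Coord) (χ : G → ℂ) : ℂ :=
  (1331 : ℂ)⁻¹ * ∑ w : Coord, psi a w * conj (χ (D.el w))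

/-- The function attached to two linear characters. -/
noncomputable def Data.alpha (a b : Coord) : G → ℂ := D.ind fun w => psi a w - psi b w

theorem Data.inner_alpha (a b : Coord) {χ : G → ℂ} (hχ : Cfsg.IsClassFunction G χ) :
    Cfsg.classInner (D.alpha a b) χ = D.mult a χ - D.mult b χ := by
  rw [Cfsg.classInner, Data.alpha,
    D.sum_ind_mul _ (F := fun x => conj (χ x)) fun g h => congrArg conj (hχ g h)]
  have hG : (Nat.card G : ℂ) ≠ 0 := Nat.cast_ne_zero.2 Nat.card_pos.ne'
  simp only [Data.mult, sub_mul, Finset.sum_sub_distrib]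
  field_simp

/-- Multiplicities of a character are natural numbers. -/
theorem Data.mult_nat (a : Coord) {χ : G → ℂ} (hχ : Cfsg.IsCharacter G χ) :
    ∃ k : ℕ, D.mult a χ = k := by
  let φ : Multiplicative Coord →* ℂ :=
    { toFun := fun w => psi a (Multiplicative.toAdd w)
      map_one' := psi_zero a
      map_mul' := fun x y => psi_add a _ _ }
  have h1 : Cfsg.IsCharacter (Multiplicative Coord) (fun w => ((φ.toHomUnits w : ℂˣ) : ℂ)) :=
    isCharacter_hom _
  obtain ⟨k, hk⟩ := classInner_isCharacter_eq_natCast h1 (isCharacter_comp D.emb hχ)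
  refine ⟨k, ?_⟩
  rw [← hk, Cfsg.classInner, Data.mult, Nat.card_congr Multiplicative.toAdd, coord_card,
    Nat.cast_ofNat]
  refine congrArg ((1331 : ℂ)⁻¹ * ·) ?_
  exact Fintype.sum_equiv Multiplicative.ofAdd _ _ fun w => rfl

theorem Data.alpha_gen (a b : Coord) : Cfsg.IsGeneralizedCharacter G (D.alpha a b) := by
  refine isGeneralized_iff.2 ⟨D.ind_classFun _, fun χ => ?_⟩
  obtain ⟨i, hi⟩ := D.mult_nat a (IsIrr.isCharacter χ.2)
  obtain ⟨j, hj⟩ := D.mult_nat b (IsIrr.isCharacter χ.2)
  exact ⟨(i : ℤ) - j, by rw [D.inner_alpha a b (isClassFunction_of_isIrr χ.2), hi, hj]; push_cast; rfl⟩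

theorem Data.ind_one {f : Coord → ℂ} (hf : f 0 = 0) : D.ind f 1 = 0 := by
  classical
  simp only [Data.ind, mul_one, inv_mul_cancel]
  refine mul_eq_zero_of_right _ (Finset.sum_eq_zero fun g _ => Finset.sum_eq_zero fun w _ => ?_)
  split_ifs with h
  · rw [← D.el_zero] at h
    rw [← D.el_inj h, hf]
  · rfl

theorem el_pow_eq_one (w : Coord) : D.el w ^ 1331 = 1 := by
  rw [Data.el, ← map_pow, ← ofAdd_nsmul, ← coord_card, card_nsmul_eq_zero', ofAdd_zero, map_one]

theorem Data.ind_eq_zero_of_involution {f : Coord → ℂ} {x : G} (hx : orderOf x = 2) :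
    D.ind f x = 0 := by
  classical
  refine mul_eq_zero_of_right _ (Finset.sum_eq_zero fun g _ => Finset.sum_eq_zero fun w _ =>
    if_neg fun h => ?_)
  have h1 : orderOf (D.el w) = 2 := by
    rw [← h, show g⁻¹ * x * g = g⁻¹ * x * g⁻¹⁻¹ by group]
    exact ((MulAut.conj g⁻¹).orderOf_eq x).trans hx
  have := orderOf_dvd_of_pow_eq_one (el_pow_eq_one D w)
  rw [h1] at this
  norm_num at this

open scoped Classical in
/-- The values on the subgroup. -/
theorem Data.ind_el (f : Coord → ℂ) {w : Coord} (hw : w ≠ 0) :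
    D.ind f (D.el w) = (1331 : ℂ)⁻¹ * ∑ n : D.N, f (D.act n w) := by
  classical
  simp only [Data.ind]
  congr 1
  have key : ∀ g : G, (∑ w' : Coord, if g⁻¹ * D.el w * g = D.el w' then f w' else 0) =
      if h : g ∈ D.N then f (D.act ⟨g⁻¹, inv_mem h⟩ w) else 0 := by
    intro g
    split_ifs with h
    · have e := D.conj_el ⟨g⁻¹, inv_mem h⟩ w
      simp only [inv_inv] at e
      simp only [e]
      rw [Finset.sum_eq_single (D.act ⟨g⁻¹, inv_mem h⟩ w)
        (fun b _ hb => if_neg fun h' => hb (D.el_inj h').symm) (by simp), if_pos rfl]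
    · refine Finset.sum_eq_zero fun w' _ => if_neg fun h' => h ?_
      have := D.local_fusion g⁻¹ w w' hw (by rw [inv_inv]; exact h')
      exact inv_inv g ▸ inv_mem this
  simp only [key]
  rw [← Finset.sum_subset (Finset.subset_univ (Finset.univ.filter fun g : G => g ∈ D.N))
      fun g _ hg => dif_neg (by simpa using hg),
    Finset.sum_subtype (p := fun g : G => g ∈ D.N) _ (fun g => by simp)]
  refine Fintype.sum_equiv (Equiv.inv D.N) _ _ fun n => ?_
  rw [dif_pos n.2]
  rfl

open scoped Classical in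
/-- The inner products. -/
theorem Data.inner_alpha_alpha (a b c e : Coord) :
    Cfsg.classInner (D.alpha a b) (D.alpha c e) = (1331 : ℂ)⁻¹ *
      ((Nat.card {n : D.N // D.dact n c = a} : ℂ) - Nat.card {n : D.N // D.dact n e = a} -
        Nat.card {n : D.N // D.dact n c = b} + Nat.card {n : D.N // D.dact n e = b}) := by
  classical
  rw [D.inner_alpha a b (χ := D.alpha c e) (D.ind_classFun _)]
  simp only [Data.mult, ← mul_sub, ← Finset.sum_sub_distrib, ← sub_mul]
  have h0 : ∀ w : Coord, (psi a w - psi b w) * conj (D.alpha c e (D.el w)) =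
      (psi a w - psi b w) * ((1331 : ℂ)⁻¹ * ∑ n : D.N,
        (conj (psi (D.dact n c) w) - conj (psi (D.dact n e) w))) := by
    intro w
    by_cases hw : w = 0
    · subst hw; simp [psi_zero]
    · rw [Data.alpha, D.ind_el _ hw]
      simp only [map_mul, map_inv₀, map_sum, map_sub, map_ofNat, psi, pair_act]
  simp only [h0, Finset.mul_sum, ← mul_assoc]
  rw [Finset.sum_comm]
  have key : ∀ n : D.N, (∑ w : Coord, (1331 : ℂ)⁻¹ * (psi a w - psi b w) * (1331 : ℂ)⁻¹ *
      (conj (psi (D.dact n c) w) - conj (psi (D.dact n e) w))) = (1331 : ℂ)⁻¹ *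
      ((if D.dact n c = a then 1 else 0) - (if D.dact n e = a then 1 else 0) -
        (if D.dact n c = b then 1 else 0) + (if D.dact n e = b then 1 else 0)) := by
    intro n
    have h2 : ∀ w : Coord, (1331 : ℂ)⁻¹ * (psi a w - psi b w) * (1331 : ℂ)⁻¹ *
        (conj (psi (D.dact n c) w) - conj (psi (D.dact n e) w)) = (1331 : ℂ)⁻¹ * (1331 : ℂ)⁻¹ *
        (psi a w * conj (psi (D.dact n c) w) - psi a w * conj (psi (D.dact n e) w) -
          psi b w * conj (psi (D.dact n c) w) + psi b w * conj (psi (D.dact n e) w)) := fun w => by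
      ring
    simp only [h2, ← Finset.mul_sum, Finset.sum_add_distrib, Finset.sum_sub_distrib, sum_psi_conj,
      eq_comm (a := a), eq_comm (a := b)]
    split_ifs <;> norm_num
  simp only [key, ← Finset.mul_sum, Finset.sum_add_distrib, Finset.sum_sub_distrib, Finset.sum_boole,
    Nat.card_eq_fintype_card, Fintype.card_subtype]

end Cfsg.Agent.J4Type.Eleven
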