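import Cfsg.Agent.J4Type.Eleven.LocalUnique
import Cfsg.Agent.J4Type.Eleven.Data

/-!
# An abelian Sylow 11-subgroup gives `Data`
-/

set_option autoImplicit false

open Subgroup
open scoped Matrix

namespace Cfsg.Agent.J4Type.Eleven

universe u

variable {G : Type u} [Group G] [Finite G] {z r : G}

theorem mem_normalizer_of_conj_mem {H : Subgroup G} {g : G} (h : ∀ a ∈ H, g * a * g⁻¹ ∈ H) :
    g ∈ normalizer (H : Set G) := by
  have hset : H.map (MulAut.conj g).toMonoidHom = H :=
    eq_of_le_of_card_ge (map_le_iff_le_comap.2 h) (by rw [card_map_of_injective (MulAut.conj g).injective])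
  refine mem_normalizer_iff.2 fun a => ⟨h a, fun ha => ?_⟩
  rw [← hset] at ha
  obtain ⟨b, hb, e⟩ := ha
  rwa [show a = b from ((MulAut.conj g).injective e).symm]

omit [Finite G] in
theorem pow_val_add {x : G} (hx : x ^ 11 = 1) (a b : ZMod 11) :
    x ^ (a + b).val = x ^ a.val * x ^ b.val := by
  rw [← pow_add, ZMod.val_add, ← pow_eq_pow_mod _ hx]

omit [Finite G] in
theorem commute_r_of_commute_pow (hr : orderOf r = 11) {k : ℕ} (hk : r ^ k ≠ 1) {x : G}
    (h : Commute x (r ^ k)) : Commute x r := by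
  have hk' : (k : ZMod 11) ≠ 0 := fun h0 => hk (by
    simpa using (pow_eq_iff hr k 0).2 (by simpa using h0))
  have : Fact (Nat.Prime 11) := ⟨by norm_num⟩
  have e : r ^ (k * ((k : ZMod 11)⁻¹).val) = r := by
    refine ((pow_eq_iff hr _ 1).2 ?_).trans (pow_one r)
    simp [ZMod.natCast_val, mul_inv_cancel₀ hk']
  rw [← e, pow_mul]
  exact h.pow_right _

variable (L : Local11 G z r) {U : Subgroup G} (hU : SylData (z := z) (r := r) U)
include L

/-- An element of order eleven commuting with a conjugate of `z` is conjugate to a power of `r`. -/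
theorem Local11.conj_r_of_commute {y u : G} (hy : IsConj z y) (hu : orderOf u = 11)
    (hc : Commute y u) : ∃ (g : G) (k : ℕ), u = g * r ^ k * g⁻¹ := by
  obtain ⟨g, rfl⟩ := isConj_iff.1 hy
  have : Fact (Nat.Prime 11) := ⟨by norm_num⟩
  set C := centralizer ({z} : Set G)
  have hfac : (Nat.card C).factorization 11 = 1 := by
    rw [L.card_z, show (21799895040 : ℕ) = 11 ^ 1 * 1981808640 by norm_num,
      Nat.factorization_mul (by norm_num) (by norm_num), (show Nat.Prime 11 by norm_num).factorization_pow,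
      Finsupp.add_apply, Finsupp.single_eq_same, Nat.factorization_eq_zero_of_not_dvd (by norm_num)]
  have hrC : r ∈ C := mem_cent.2 L.comm.symm
  have huC : g⁻¹ * u * g ∈ C := mem_cent.2 (by
    calc g⁻¹ * u * g * z = g⁻¹ * (u * (g * z * g⁻¹)) * g := by group
      _ = g⁻¹ * ((g * z * g⁻¹) * u) * g := by rw [hc.eq]
      _ = z * (g⁻¹ * u * g) := by group)
  have hou : orderOf (g⁻¹ * u * g) = 11 := by
    rw [show g⁻¹ * u * g = MulAut.conj g⁻¹ u by simp, MulEquiv.orderOf_eq, hu]
  let S1 : Sylow 11 C := Sylow.ofCard (zpowers ⟨r, hrC⟩) (by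
    rw [Nat.card_zpowers, orderOf_mk, L.r_order, hfac, pow_one])
  let S2 : Sylow 11 C := Sylow.ofCard (zpowers ⟨_, huC⟩) (by
    rw [Nat.card_zpowers, orderOf_mk, hou, hfac, pow_one])
  obtain ⟨c, hc'⟩ := MulAction.exists_smul_eq C S1 S2
  have hmem : (⟨_, huC⟩ : C) ∈ (c • S1 : Sylow 11 C) := hc' ▸ mem_zpowers _
  obtain ⟨x, hx, e⟩ := hmem
  obtain ⟨k, hk⟩ := (mem_powers_iff_mem_zpowers.2 (show x ∈ zpowers (⟨r, hrC⟩ : C) from hx))
  refine ⟨g * (c : G), k, ?_⟩
  have e' : (c : G) * r ^ k * (c : G)⁻¹ = g⁻¹ * u * g := by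
    have h := congrArg Subtype.val e
    rw [← hk] at h
    exact h
  calc u = g * (g⁻¹ * u * g) * g⁻¹ := by group
    _ = g * (c : G) * r ^ k * (g * (c : G))⁻¹ := by rw [← e']; group

include hU

variable (hab : ∀ a ∈ U, ∀ b ∈ U, a * b = b * a)
include hab

theorem SylData.not_conj_r {u : G} (hu : u ∈ U) (hu' : u ∉ zpowers r) {g : G} {k : ℕ}
    (h : u = g * r ^ k * g⁻¹) : False := by
  have hk : r ^ k ≠ 1 := fun h1 => hu' (by rw [h, h1, mul_one, mul_inv_cancel]; exact one_mem _)
  have hg : g⁻¹ ∈ normalizer (U : Set G) := by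
    refine mem_normalizer_of_conj_mem fun a ha => hU.mem_of_pow _ ?_ (k := 1) (by
      rw [pow_one, conj_pow, hU.pow_eleven L ha, mul_one, mul_inv_cancel])
    refine mem_cent.2 (commute_r_of_commute_pow L.r_order hk ?_)
    show g⁻¹ * a * g⁻¹⁻¹ * r ^ k = r ^ k * (g⁻¹ * a * g⁻¹⁻¹)
    calc g⁻¹ * a * g⁻¹⁻¹ * r ^ k = g⁻¹ * (a * (g * r ^ k * g⁻¹)) * g := by group
      _ = g⁻¹ * ((g * r ^ k * g⁻¹) * a) * g := by rw [← h, hab a ha u hu]
      _ = r ^ k * (g⁻¹ * a * g⁻¹⁻¹) := by group
  rw [hU.normalizer_eq L] at hg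
  have hg' := (normalizer (zpowers r : Set G)).inv_mem hg
  rw [inv_inv] at hg'
  exact hu' (h ▸ (mem_normalizer_iff.1 hg' _).1 (pow_mem (mem_zpowers r) k))

/-- Involutions commuting with an element of `U \ ⟨r⟩` are not conjugate to `z`. -/
theorem SylData.not_conj_z {u : G} (hu : u ∈ U) (hu' : u ∉ zpowers r) {y : G} (hc : Commute y u) :
    ¬ IsConj z y := fun h => by
  obtain ⟨g, k, e⟩ := L.conj_r_of_commute h (hU.orderOf_eq L hu fun h1 => hu' (h1 ▸ one_mem _)) hc
  exact hU.not_conj_r L hab hu hu' e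

omit hab in
theorem SylData.mem_of_norm {x : G} (hx : x ∈ normalizer (zpowers r : Set G)) (h : x ^ 11 = 1) :
    x ∈ U := by
  refine hU.mem_of_pow x ((chiHom_eq_one L.r_order ⟨x, hx⟩).1 ?_) (k := 1) (by rwa [pow_one])
  have h1 : (chiHom L.r_order ⟨x, hx⟩) ^ 11 = 1 := by
    rw [← map_pow, show (⟨x, hx⟩ : (normalizer (zpowers r : Set G) : Subgroup G)) ^ 11 = 1 from
      Subtype.ext h, map_one]
  revert h1
  generalize chiHom L.r_order ⟨x, hx⟩ = b
  revert b
  decide

/-- Centralizers of nonidentity elements of `U` normalize `⟨r⟩`. -/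
theorem SylData.cent_le {u : G} (hu : u ∈ U) (h1 : u ≠ 1) :
    centralizer ({u} : Set G) ≤ normalizer (zpowers r : Set G) := by
  by_cases hu' : u ∈ zpowers r
  · obtain ⟨k, rfl⟩ := exists_pow_of_mem hu'
    exact fun x hx => cent_le_norm (mem_cent.2 (commute_r_of_commute_pow L.r_order h1 (mem_cent.1 hx)))
  set W := centralizer ({u} : Set G) with hW
  have hUW : U ≤ W := fun a ha => mem_cent.2 (hab a ha u hu)
  have hou : orderOf u = 11 := hU.orderOf_eq L hu h1
  have : Fact (Nat.Prime 2) := ⟨Nat.prime_two⟩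
  have : Fact (Nat.Prime 11) := ⟨by norm_num⟩
  have h4 : ¬ 4 ∣ Nat.card W := by
    intro h
    obtain ⟨P, hP⟩ := Sylow.exists_subgroup_card_pow_prime 2 (n := 2) (G := W) h
    obtain ⟨t, ht⟩ := exists_prime_orderOf_dvd_card' (G := P) 2 (by rw [hP]; norm_num)
    have ht2 : orderOf ((t : W) : G) = 2 := by rw [Subgroup.orderOf_coe, Subgroup.orderOf_coe, ht]
    have htu : Commute ((t : W) : G) u := mem_cent.1 (t : W).2
    refine L.four _ u ht2 (hU.not_conj_z L hab hu hu' htu) hou htu ?_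
    have hle : P.map W.subtype ≤ centralizer ({((t : W) : G)} : Set G) ⊓ centralizer ({u} : Set G) := by
      rintro - ⟨p, hp, rfl⟩
      refine ⟨mem_cent.2 ?_, p.2⟩
      have := IsPGroup.commutative_of_card_eq_prime_sq hP (⟨p, hp⟩ : P) t
      exact congrArg (fun a : P => ((a : W) : G)) this
    have h' := card_dvd_of_le hle
    rw [card_map_of_injective (Subgroup.subtype_injective _), hP] at h'
    exact h'
  obtain ⟨a, b, c, hcard, hb, hc2, hc3⟩ := L.card_cent hou
  have ha : a ≤ 1 := by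
    by_contra h
    exact h4 (hcard ▸ Dvd.dvd.mul_right (Dvd.dvd.mul_right (pow_dvd_pow 2 (show 2 ≤ a by omega)) _) _)
  have hc : c = 3 := by
    have h := card_dvd_of_le hUW
    rw [hU.card, hcard] at h
    interval_cases a <;> interval_cases b <;> interval_cases c <;> first | rfl | norm_num at h
  subst hc
  have hcardU : Nat.card (U.subgroupOf W) = 1331 :=
    (Nat.card_congr (subgroupOfEquivOfLe hUW).toEquiv).trans hU.card
  let S : Sylow 11 W := Sylow.ofCard (U.subgroupOf W) (by
    rw [hcardU, hcard, Nat.factorization_mul (by positivity) (by norm_num),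
      (show Nat.Prime 11 by norm_num).factorization_pow, Finsupp.add_apply, Finsupp.single_eq_same,
      Nat.factorization_eq_zero_of_not_dvd (by interval_cases a <;> interval_cases b <;> norm_num)]
    norm_num)
  have hidx : (S : Subgroup W).index ∣ 6 := by
    have h := (U.subgroupOf W).card_mul_index
    rw [hcardU, hcard] at h
    show (U.subgroupOf W).index ∣ 6
    have e : (U.subgroupOf W).index = 2 ^ a * 3 ^ b := by linarith
    rw [e]
    exact Nat.mul_dvd_mul (pow_dvd_pow 2 ha) (pow_dvd_pow 3 hb)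
  have hn : Nat.card (Sylow 11 W) = 1 := by
    have h1 := card_sylow_modEq_one 11 W
    have h2 := Nat.le_of_dvd (by norm_num) ((Sylow.card_dvd_index S).trans hidx)
    unfold Nat.ModEq at h1
    omega
  have : Subsingleton (Sylow 11 W) := (Nat.card_eq_one_iff_unique.1 hn).1
  have hnorm : (U.subgroupOf W).Normal := Sylow.normal_of_subsingleton S
  rw [← hU.normalizer_eq L]
  exact (normal_subgroupOf_iff_le_normalizer hUW).1 hnorm

/-- Fusion in `U` happens in the normalizer. -/
theorem SylData.fusion {x u u' : G} (hu : u ∈ U) (hu' : u' ∈ U) (h1 : u ≠ 1)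
    (h : x * u * x⁻¹ = u') : x ∈ normalizer (zpowers r : Set G) := by
  rw [← hU.normalizer_eq L]
  refine mem_normalizer_of_conj_mem fun a ha => hU.mem_of_norm L (hU.cent_le L hab hu' ?_ ?_) ?_
  · intro e
    rw [e] at h
    exact h1 (conj_eq_one_iff.1 h)
  · refine mem_cent.2 ?_
    show x * a * x⁻¹ * u' = u' * (x * a * x⁻¹)
    calc x * a * x⁻¹ * u' = x * (a * u) * x⁻¹ := by rw [← h]; group
      _ = u' * (x * a * x⁻¹) := by rw [hab a ha u hu, ← h]; group
  · rw [conj_pow, hU.pow_eleven L ha, mul_one, mul_inv_cancel]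

omit hab in
/-- The conjugates of `z` in `C(r)` lie in `zU`. -/
theorem SylData.conj_z_mem {g : G} (hg : g ∈ normalizer (zpowers r : Set G)) :
    ∃ u ∈ U, g * z * g⁻¹ = z * u := by
  set C := centralizer ({r} : Set G) with hC
  set Cz := centralizer ({z} : Set G) ⊓ C with hCz
  have hcC : g * z * g⁻¹ ∈ C := by
    obtain ⟨k, hk⟩ := exists_conj_pow ((normalizer (zpowers r : Set G)).inv_mem hg)
    rw [inv_inv] at hk
    refine mem_cent.2 ?_
    have hc : Commute z (g⁻¹ * r * g) := hk ▸ L.comm.pow_right k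
    show g * z * g⁻¹ * r = r * (g * z * g⁻¹)
    calc g * z * g⁻¹ * r = g * (z * (g⁻¹ * r * g)) * g⁻¹ := by group
      _ = r * (g * z * g⁻¹) := by rw [hc.eq]; group
  obtain ⟨c, hc, e⟩ := hU.involution_conj L hcC ((MulAut.conj g).orderOf_eq z |>.trans L.z_order)
  have : (U.subgroupOf C).Normal := (normal_subgroupOf_iff_le_normalizer hU.le).2 hU.norm
  let φ : Cz →* C ⧸ U.subgroupOf C := (QuotientGroup.mk' _).comp (inclusion inf_le_right)
  have hker : Nat.card φ.ker = 11 := by
    rw [← L.r_order, ← Nat.card_zpowers, ← hU.fixed]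
    exact Nat.card_congr
      { toFun := fun x => ⟨x.1.1,
          mem_subgroupOf.1 ((QuotientGroup.eq_one_iff (N := U.subgroupOf C) (inclusion inf_le_right x.1)).1 x.2),
          x.1.2.1⟩
        invFun := fun x => ⟨⟨x.1, x.2.2, hU.le x.2.1⟩,
          (QuotientGroup.eq_one_iff (N := U.subgroupOf C) (⟨x.1, hU.le x.2.1⟩ : C)).2 x.2.1⟩
        left_inv := fun _ => rfl
        right_inv := fun _ => rfl }
  have hidx : Nat.card (C ⧸ U.subgroupOf C) = 24 := by
    have h := card_mul_index (U.subgroupOf C)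
    rw [Nat.card_congr (subgroupOfEquivOfLe hU.le).toEquiv, hU.card, hU.card_cent] at h
    show (U.subgroupOf C).index = _
    omega
  have hsurj : φ.range = ⊤ := by
    refine eq_top_of_card_eq _ ?_
    have h := φ.ker.card_mul_index
    rw [Subgroup.index_ker, hker, L.card_zr] at h
    rw [hidx]
    omega
  obtain ⟨k, hk⟩ := (hsurj.ge (mem_top (QuotientGroup.mk ⟨c, hc⟩)) : _ ∈ φ.range)
  have hu1 : (k : G)⁻¹ * c ∈ U := mem_subgroupOf.1 (QuotientGroup.eq.1
    (hk : QuotientGroup.mk (s := U.subgroupOf C) (inclusion inf_le_right k) = QuotientGroup.mk ⟨c, hc⟩))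
  set u1 := (k : G)⁻¹ * c with hu1'
  have hkz : Commute (k : G) z := mem_cent.1 k.2.1
  have hzu : z⁻¹ * u1 * z ∈ U := by
    simpa using (mem_normalizer_iff.1 (inv_mem (hU.norm (mem_cent.2 L.comm))) u1).1 hu1
  refine ⟨(k : G) * (z⁻¹ * u1 * z * u1⁻¹) * (k : G)⁻¹,
    (mem_normalizer_iff.1 (hU.norm k.2.2) _).1 (mul_mem hzu (inv_mem hu1)), ?_⟩
  rw [← e, show c = (k : G) * u1 by rw [hu1']; group]
  calc (k : G) * u1 * z * ((k : G) * u1)⁻¹
      = ((k : G) * z) * (z⁻¹ * u1 * z * u1⁻¹) * (k : G)⁻¹ := by group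
    _ = z * ((k : G) * (z⁻¹ * u1 * z * u1⁻¹) * (k : G)⁻¹) := by rw [hkz.eq]; group

omit hab in
theorem SylData.not_center_121 {V : Subgroup G} (hV : Nat.card V = 121)
    (hct : ∀ y : G, orderOf y = 2 → ¬ IsConj z y →
      Nat.card (centralizer ({y} : Set G)) = 1816657920)
    {m : G} (hm : orderOf m = 2) (hc : ∀ v ∈ V, Commute m v) : False := by
  have h := card_dvd_of_le (show V ≤ centralizer ({m} : Set G) from fun v hv => mem_cent.2 (hc v hv).symm)
  rw [hV] at h
  by_cases hz : IsConj z m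
  · obtain ⟨g, rfl⟩ := isConj_iff.1 hz
    rw [show g * z * g⁻¹ = MulAut.conj g z from rfl,
      show Nat.card (centralizer ({MulAut.conj g z} : Set G)) = Nat.card (centralizer ({z} : Set G)) from
        Nat.card_congr
          { toFun := fun x => ⟨(MulAut.conj g).symm x.1, mem_cent.2 (by
              have h' := ((mem_cent.1 x.2).map (MulAut.conj g).symm.toMonoidHom)
              simpa [mul_assoc] using h')⟩
            invFun := fun x => ⟨MulAut.conj g x.1, mem_cent.2 ((mem_cent.1 x.2).map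
              (MulAut.conj g).toMonoidHom)⟩
            left_inv := fun x => Subtype.ext ((MulAut.conj g).apply_symm_apply x.1)
            right_inv := fun x => Subtype.ext ((MulAut.conj g).symm_apply_apply x.1) },
      L.card_z] at h
    norm_num at h
  · rw [hct m hm hz] at h
    norm_num at h

end Cfsg.Agent.J4Type.Eleven
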