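import Cfsg.Agent.J4Type.Eleven.LocalAbelian

/-!
# The `Data` of an abelian Sylow 11-subgroup
-/

set_option autoImplicit false

open Subgroup
open scoped Matrix

namespace Cfsg.Agent.J4Type.Eleven

universe u

variable {G : Type u} [Group G] [Finite G] {z r : G}

omit [Finite G] in
/-- The homomorphism of a pair of commuting elements of exponent eleven. -/
def planeHom {a b : G} (ha : a ^ 11 = 1) (hb : b ^ 11 = 1) (h : Commute a b) :
    Multiplicative (Fin 2 → ZMod 11) →* G where
  toFun w := a ^ (w.toAdd 0).val * b ^ (w.toAdd 1).val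
  map_one' := by simp
  map_mul' w w' := by
    show a ^ (w.toAdd 0 + w'.toAdd 0).val * b ^ (w.toAdd 1 + w'.toAdd 1).val = _
    rw [pow_val_add ha, pow_val_add hb, mul_assoc, mul_assoc]
    congr 1
    rw [← mul_assoc, ← mul_assoc, (h.pow_pow _ _).eq]

theorem exists_plane {V : Subgroup G} (hV : Nat.card V = 121)
    (hab : ∀ a ∈ V, ∀ b ∈ V, Commute a b) (h11 : ∀ a ∈ V, a ^ 11 = 1) :
    ∃ φ : Multiplicative (Fin 2 → ZMod 11) →* G, Function.Injective φ ∧ φ.range = V := by
  have : Fact (Nat.Prime 11) := ⟨by norm_num⟩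
  obtain ⟨a, ha, ha1⟩ : ∃ a ∈ V, a ≠ 1 := by
    by_contra h
    push Not at h
    rw [(eq_bot_iff_forall V).2 h, Subgroup.card_bot] at hV
    norm_num at hV
  have hoa : orderOf a = 11 := orderOf_eq_prime (h11 a ha) ha1
  obtain ⟨b, hb, hba⟩ : ∃ b ∈ V, b ∉ zpowers a := by
    by_contra h
    push Not at h
    have := card_le_of_le (show V ≤ zpowers a from h)
    rw [hV, Nat.card_zpowers, hoa] at this
    norm_num at this
  have hinj : Function.Injective (planeHom (h11 a ha) (h11 b hb) (hab a ha b hb)) := by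
    refine (injective_iff_map_eq_one _).2 fun w hw => ?_
    change a ^ (w.toAdd 0).val * b ^ (w.toAdd 1).val = 1 at hw
    have hob : orderOf b = 11 := orderOf_eq_prime (h11 b hb) fun h => hba (h ▸ one_mem _)
    have hmem : b ^ (w.toAdd 1).val ∈ zpowers a := by
      rw [eq_inv_of_mul_eq_one_right hw]
      exact inv_mem (pow_mem (mem_zpowers a) _)
    have hone : b ^ (w.toAdd 1).val = 1 := by
      by_contra hne
      refine hba ?_
      have e : zpowers (b ^ (w.toAdd 1).val) = zpowers b := eq_of_le_of_card_ge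
        (zpowers_le.2 (pow_mem (mem_zpowers b) _)) (by
          rw [Nat.card_zpowers, Nat.card_zpowers, hob,
            orderOf_eq_prime (by rw [← pow_mul, mul_comm, pow_mul, h11 b hb, one_pow]) hne])
      exact (zpowers_le.2 hmem) (e.ge (mem_zpowers b))
    rw [hone, mul_one] at hw
    have e1 := (pow_eq_iff hob _ 0).1 (hone.trans (pow_zero b).symm)
    have e0 := (pow_eq_iff hoa _ 0).1 (hw.trans (pow_zero a).symm)
    rw [Nat.cast_zero, ZMod.natCast_zmod_val] at e0 e1
    refine Multiplicative.toAdd.injective (funext fun i => ?_)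
    fin_cases i
    · exact e0
    · exact e1
  refine ⟨_, hinj, eq_of_le_of_card_ge ?_ ?_⟩
  · rintro - ⟨w, rfl⟩
    exact mul_mem (pow_mem ha _) (pow_mem hb _)
  · rw [hV, ← Nat.card_congr (MonoidHom.ofInjective hinj).toEquiv]
    simp [Nat.card_eq_fintype_card]

theorem matrix_eq_of_mulVec {A B : Matrix (Fin 2) (Fin 2) (ZMod 11)} (h : ∀ v, A *ᵥ v = B *ᵥ v) :
    A = B :=
  Matrix.ext fun i j => by simpa using congrFun (h (Pi.single j 1)) i

variable (L : Local11 G z r) {U : Subgroup G} (hU : SylData (z := z) (r := r) U)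
include L hU

/-- An abelian Sylow 11-subgroup gives `Data`. -/
theorem SylData.exists_data (hab : ∀ a ∈ U, ∀ b ∈ U, a * b = b * a)
    (hct : ∀ y : G, orderOf y = 2 → ¬ IsConj z y →
      Nat.card (centralizer ({y} : Set G)) = 1816657920) : Nonempty (Data G) := by
  classical
  have : Fact (Nat.Prime 11) := ⟨by norm_num⟩
  obtain ⟨V, hVU, hVi, hVc, hVn, -⟩ := exists_inverted hab (by rw [hU.card]; decide) L.zz
    (hU.norm (mem_cent.2 L.comm))
  rw [hU.fixed, Nat.card_zpowers, L.r_order, hU.card] at hVc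
  have hV121 : Nat.card V = 121 := by omega
  have hVr : ∀ v ∈ V, v ∈ zpowers r → v = 1 := fun v hv hvr => by
    obtain ⟨k, rfl⟩ := exists_pow_of_mem hvr
    have h := hVi _ hv
    rw [(L.comm.pow_right k).eq, mul_inv_cancel_right] at h
    have h2 : r ^ (k + k) = 1 := by rw [pow_add]; nth_rewrite 1 [h]; exact inv_mul_cancel _
    have h3 := L.r_order ▸ orderOf_dvd_of_pow_eq_one h2
    exact orderOf_dvd_iff_pow_eq_one.1 (by rw [L.r_order]; omega)
  set N : Subgroup G := normalizer (zpowers r : Set G) with hN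
  have hNV : ∀ n ∈ N, n ∈ normalizer (V : Set G) := fun n hn =>
    hVn n (hU.le_normalizer hn) (hU.conj_z_mem L hn)
  obtain ⟨φ, hφ, hφV⟩ := exists_plane hV121 (fun a ha b hb => hab a (hVU ha) b (hVU hb))
    (fun a ha => hU.pow_eleven L (hVU ha))
  have hφm : ∀ w, φ w ∈ V := fun w => hφV ▸ ⟨w, rfl⟩
  have hex : ∀ (n : N) (w : Fin 2 → ZMod 11), ∃ w' : Fin 2 → ZMod 11,
      φ (Multiplicative.ofAdd w') = (n : G) * φ (Multiplicative.ofAdd w) * (n : G)⁻¹ := fun n w => by
    obtain ⟨w', hw'⟩ := hφV.ge ((mem_normalizer_iff.1 (hNV n n.2) _).1 (hφm (Multiplicative.ofAdd w)))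
    exact ⟨w'.toAdd, hw'⟩
  choose ψ hψ using hex
  let lin : ∀ n : N, (Fin 2 → ZMod 11) →ₗ[ZMod 11] (Fin 2 → ZMod 11) := fun n =>
    (AddMonoidHom.mk' (ψ n) fun w w' => Multiplicative.ofAdd.injective (hφ (by
      rw [hψ, ofAdd_add, map_mul, ofAdd_add, map_mul, hψ, hψ]
      group))).toZModLinearMap 11
  have hmat : ∀ (n : N) (w : Fin 2 → ZMod 11), LinearMap.toMatrix' (lin n) *ᵥ w = ψ n w := fun n w =>
    LinearMap.toMatrix'_mulVec (lin n) w
  let mat : N →* Matrix (Fin 2) (Fin 2) (ZMod 11) :=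
    { toFun := fun n => LinearMap.toMatrix' (lin n)
      map_one' := matrix_eq_of_mulVec fun w => by
        rw [hmat, Matrix.one_mulVec]
        exact Multiplicative.ofAdd.injective (hφ (by rw [hψ]; simp))
      map_mul' := fun a b => matrix_eq_of_mulVec fun w => by
        rw [← Matrix.mulVec_mulVec, hmat, hmat, hmat]
        exact Multiplicative.ofAdd.injective (hφ (by rw [hψ, hψ, hψ, Subgroup.coe_mul]; group)) }
  have hmv : ∀ (n : N) (w : Fin 2 → ZMod 11),
      φ (Multiplicative.ofAdd (mat n *ᵥ w)) = (n : G) * φ (Multiplicative.ofAdd w) * (n : G)⁻¹ :=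
    fun n w => (congrArg (fun x => φ (Multiplicative.ofAdd x)) (hmat n w)).trans (hψ n w)
  have hr11 : r ^ 11 = 1 := L.r_order ▸ pow_orderOf_eq_one r
  let emb : Multiplicative Coord →* G :=
    { toFun := fun x => r ^ x.toAdd.1.val * φ (Multiplicative.ofAdd x.toAdd.2)
      map_one' := by simp
      map_mul' := fun x y => by
        show r ^ (x.toAdd.1 + y.toAdd.1).val * φ (Multiplicative.ofAdd (x.toAdd.2 + y.toAdd.2)) = _
        have hc : Commute (φ (Multiplicative.ofAdd x.toAdd.2)) (r ^ y.toAdd.1.val) :=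
          hab _ (hVU (hφm _)) _ (pow_mem hU.mem _)
        rw [pow_val_add hr11, ofAdd_add, map_mul, mul_assoc, mul_assoc]
        congr 1
        rw [← mul_assoc, ← mul_assoc, hc.eq] }
  have hembU : ∀ x, emb x ∈ U := fun x => mul_mem (pow_mem hU.mem _) (hVU (hφm _))
  have hemb : Function.Injective emb := by
    refine (injective_iff_map_eq_one _).2 fun x hx => ?_
    change r ^ x.toAdd.1.val * φ (Multiplicative.ofAdd x.toAdd.2) = 1 at hx
    have h1 : φ (Multiplicative.ofAdd x.toAdd.2) = 1 := hVr _ (hφm _) (by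
      rw [eq_inv_of_mul_eq_one_right hx]; exact inv_mem (pow_mem (mem_zpowers r) _))
    rw [h1, mul_one] at hx
    have h0 := (pow_eq_iff L.r_order _ 0).1 (hx.trans (pow_zero r).symm)
    rw [Nat.cast_zero, ZMod.natCast_zmod_val] at h0
    exact Multiplicative.toAdd.injective
      (Prod.ext h0 (Multiplicative.ofAdd.injective (hφ (h1.trans (map_one φ).symm))))
  have hembr : emb.range = U := by
    refine eq_of_le_of_card_ge (by rintro - ⟨x, rfl⟩; exact hembU x) ?_
    rw [hU.card, ← Nat.card_congr (MonoidHom.ofInjective hemb).toEquiv]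
    simp [Nat.card_eq_fintype_card]
  have hne : ∀ v : Fin 2 → ZMod 11, v ≠ 0 → φ (Multiplicative.ofAdd v) ∉ zpowers r := fun v hv h =>
    hv (Multiplicative.ofAdd.injective (hφ ((hVr _ (hφm _) h).trans (map_one φ).symm)))
  have hfree : ∀ (n : N) (v : Fin 2 → ZMod 11), v ≠ 0 → chiHom L.r_order n = 1 →
      mat n *ᵥ v = v → (n : G) ∈ U := by
    intro n v hv hn hnv
    set w := φ (Multiplicative.ofAdd v) with hw
    have hfix : (n : G) * w * (n : G)⁻¹ = w := by rw [hw, ← hmv, hnv]
    rw [← hU.stab_cent L (hVU (hφm (Multiplicative.ofAdd v))) (hne v hv)]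
    refine ⟨mem_cosetStab.2 ⟨n.2, ?_⟩, (chiHom_eq_one L.r_order n).1 hn⟩
    show w⁻¹ * ((n : G) * w * (n : G)⁻¹) ∈ zpowers r
    rw [hfix, inv_mul_cancel]
    exact one_mem _
  have hUN : ∀ a ∈ U, a ∈ N := fun a ha => cent_le_norm (hU.le ha)
  have hnotone : ∀ n : N, chiHom L.r_order n = -1 → mat n ≠ 1 := by
    intro n hn hmn
    have hsq : ((n ^ 2 : N) : G) ∈ U := hfree (n ^ 2) (Pi.single 0 1)
      (fun h => by simpa using congrFun h 0) (by rw [map_pow, hn]; norm_num)
      (by rw [map_pow, hmn, one_pow, Matrix.one_mulVec])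
    set m := n ^ 11 with hm
    have hm2 : (m : G) ^ 2 = 1 := by
      rw [hm, SubgroupClass.coe_pow, ← pow_mul, show 11 * 2 = 2 * 11 by norm_num, pow_mul,
        ← SubgroupClass.coe_pow]
      exact hU.pow_eleven L hsq
    have hcm : chiHom L.r_order m = -1 := by rw [hm, map_pow, hn]; decide
    refine hU.not_center_121 L hV121 hct (m := (m : G)) (orderOf_eq_prime hm2 fun h => ?_) fun v hv => ?_
    · rw [show m = 1 from Subtype.ext h, map_one] at hcm
      revert hcm
      decide
    · obtain ⟨x, rfl⟩ := hφV.ge hv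
      have h := hmv m x.toAdd
      rw [hm, map_pow, hmn, one_pow, Matrix.one_mulVec] at h
      exact mul_inv_eq_iff_eq_mul.1 h.symm
  have hmixed : ∀ n : N, chiHom L.r_order n = -1 → mat n ≠ 1 ∧ mat n ≠ -1 := by
    refine fun n hn => ⟨hnotone n hn, fun hmn => ?_⟩
    set zN : N := ⟨z, cent_le_norm (mem_cent.2 L.comm)⟩ with hzN
    have hzc : chiHom L.r_order zN = 1 := (chiHom_eq_one L.r_order zN).2 (mem_cent.2 L.comm)
    have hzm : mat zN = -1 := matrix_eq_of_mulVec fun w => by
      rw [Matrix.neg_mulVec, Matrix.one_mulVec]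
      refine Multiplicative.ofAdd.injective (hφ ?_)
      rw [hmv, ofAdd_neg, map_inv]
      exact hVi _ (hφm _)
    exact hnotone (n * zN) (by rw [map_mul, hn, hzc, mul_one])
      (by rw [map_mul, hmn, hzm, neg_mul_neg, one_mul])
  have hnotz : ∀ n : N, orderOf (n : G) = 2 → chiHom L.r_order n = -1 → ¬ IsConj z (n : G) := by
    intro n hn2 hn
    have hn1 : n * n = 1 := Subtype.ext (by
      show (n : G) * n = 1
      rw [← sq, ← hn2, pow_orderOf_eq_one])
    obtain ⟨v, hv, hfix⟩ : ∃ v : Fin 2 → ZMod 11, v ≠ 0 ∧ mat n *ᵥ v = v := by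
      by_contra h
      push Not at h
      refine (hmixed n hn).2 (matrix_eq_of_mulVec fun w => ?_)
      have h' : mat n *ᵥ w + w = 0 := by
        by_contra hne'
        refine h _ hne' ?_
        rw [Matrix.mulVec_add, Matrix.mulVec_mulVec, ← map_mul, hn1, map_one, Matrix.one_mulVec, add_comm]
      rw [Matrix.neg_mulVec, Matrix.one_mulVec]
      exact eq_neg_of_add_eq_zero_left h'
    refine hU.not_conj_z L hab (hVU (hφm (Multiplicative.ofAdd v))) (hne v hv) ?_
    have h := hmv n v
    rw [hfix] at h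
    exact mul_inv_eq_iff_eq_mul.1 h.symm
  set u0 := φ (Multiplicative.ofAdd (Pi.single 0 1 : Fin 2 → ZMod 11)) with hu0
  have hu0U : u0 ∈ U := hVU (hφm _)
  have hu0r : u0 ∉ zpowers r := hne _ (fun h => by simpa using congrFun h 0)
  obtain ⟨t, i, ht, -, htc⟩ := hU.exists_involution L hu0U hu0r
  have htz : ¬ IsConj z t := hU.not_conj_z L hab (mul_mem hu0U (pow_mem hU.mem i)) (fun h => hu0r (by
    simpa using mul_mem h (inv_mem (pow_mem (mem_zpowers r) i)))) htc
  exact ⟨{
    emb := emb
    emb_inj := hemb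
    N := N
    cardN := L.card_norm hU
    emb_mem := fun x => hUN _ (hembU x)
    chi := chiHom L.r_order
    mat := mat
    conj_emb := fun n w => by
      show (n : G) * (r ^ w.1.val * φ (Multiplicative.ofAdd w.2)) * (n : G)⁻¹ =
        r ^ ((chiHom L.r_order n : ZMod 11) * w.1).val * φ (Multiplicative.ofAdd (mat n *ᵥ w.2))
      have h := (chiHom_spec L.r_order n (chiHom L.r_order n : ZMod 11).val).2
        (ZMod.natCast_zmod_val _).symm
      rw [hmv, ← (pow_eq_iff L.r_order ((chiHom L.r_order n : ZMod 11).val * w.1.val)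
        ((chiHom L.r_order n : ZMod 11) * w.1).val).2
        (by push_cast [ZMod.natCast_zmod_val]; rfl), pow_mul, ← h, conj_pow]
      group
    local_fusion := fun x w w' hw h => hU.fusion L hab (hembU _) (hembU _)
      (fun h1 => hw (Multiplicative.ofAdd.injective (hemb (h1.trans (map_one emb).symm)))) h
    chi_surj := L.chi_surjective hU
    transitive := fun v v' hv hv' => by
      obtain ⟨n, hn, hnu⟩ := (hU.transitive_cosets L (hVU (hφm (Multiplicative.ofAdd v))) (hne v hv)
        (hVU (hφm (Multiplicative.ofAdd v'))) (hne v' hv')).1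
      refine ⟨⟨n, hn⟩, Multiplicative.ofAdd.injective (hφ ?_)⟩
      rw [hmv]
      exact (eq_of_inv_mul_eq_one (hVr _ (mul_mem (inv_mem (hφm _))
        ((mem_normalizer_iff.1 (hNV n hn) _).1 (hφm _))) hnu)).symm
    free := fun n v hv hn hnv => by
      obtain ⟨x, hx⟩ := hembr.ge (hfree n v hv hn hnv)
      exact ⟨x.toAdd, hx.symm⟩
    mixed := hmixed
    t := t
    t_order := ht
    card_centralizer := hct t ht htz
    isConj_iff_chi := fun n hn2 => by
      have hn1 : n * n = 1 := Subtype.ext (by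
        show (n : G) * n = 1
        rw [← sq, ← hn2, pow_orderOf_eq_one])
      have hsq : chiHom L.r_order n * chiHom L.r_order n = 1 := by rw [← map_mul, hn1, map_one]
      refine ⟨fun hc => ?_, fun hn => L.conj_t t n ht hn2 htz (hnotz n hn2 hn)⟩
      have h1 : chiHom L.r_order n ≠ 1 := fun h1 => by
        obtain ⟨c, -, e⟩ := hU.involution_conj L ((chiHom_eq_one L.r_order n).1 h1) hn2
        exact htz ((isConj_iff.2 ⟨c, e⟩).trans hc.symm)
      revert hsq h1
      generalize chiHom L.r_order n = b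
      revert b
      decide }⟩

end Cfsg.Agent.J4Type.Eleven
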