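import Cfsg.Agent.J4Type.Eleven.LocalTools
import Cfsg.Agent.J4Type.Order.LargeExclude
import Cfsg.Agent.Invol.ZStar

/-!
# The centralizer of an element of order eleven in the centralizer of an involution

`Local11 G` collects what is used; the centralizer of `r` has order `31944` and a normal
Sylow 11-subgroup.
-/

set_option autoImplicit false

open Subgroup
open scoped commutatorElement

namespace Cfsg.Agent.J4Type.Eleven

open LargePrime (Facts bigList ordJ)

/-- The 11-local facts. -/
structure Local11 (G : Type*) [Group G] (z r : G) : Prop where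
  facts : Facts G
  z_order : orderOf z = 2
  r_order : orderOf r = 11
  comm : Commute z r
  card_z : Nat.card (centralizer ({z} : Set G)) = 21799895040
  card_zr : Nat.card (centralizer ({z} : Set G) ⊓ centralizer ({r} : Set G) : Subgroup G) = 264
  unique : ∀ y ∈ centralizer ({z} : Set G) ⊓ centralizer ({r} : Set G), orderOf y = 2 → y = z
  z_comm : z ∈ ⁅centralizer ({z} : Set G) ⊓ centralizer ({r} : Set G),
    centralizer ({z} : Set G) ⊓ centralizer ({r} : Set G)⁆
  aut : ∃ g : G, Commute g z ∧ g * r * g⁻¹ = r ^ 2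
  conj_z : ∀ y : G, orderOf y = 2 → Nat.card (centralizer ({y} : Set G)) = 21799895040 → IsConj z y
  conj_t : ∀ y y' : G, orderOf y = 2 → orderOf y' = 2 → ¬ IsConj z y → ¬ IsConj z y' → IsConj y y'
  four : ∀ t w : G, orderOf t = 2 → ¬ IsConj z t → orderOf w = 11 → Commute t w →
    ¬ 4 ∣ Nat.card (centralizer ({t} : Set G) ⊓ centralizer ({w} : Set G) : Subgroup G)
  big : ∀ p ∈ bigList, ∀ x : G, orderOf x = p → Nat.card (centralizer ({x} : Set G)) = p

variable {G : Type*} [Group G] [Finite G] {z r : G}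

theorem mem_cent {x a : G} : x ∈ centralizer ({a} : Set G) ↔ Commute x a :=
  mem_centralizer_singleton_iff

/-- The prime divisors of the centralizer of an element of order eleven. -/
theorem Local11.prime_dvd (L : Local11 G z r) {w : G} (hw : orderOf w = 11) {q : ℕ} (hq : q.Prime)
    (hd : q ∣ Nat.card (centralizer ({w} : Set G))) : q = 2 ∨ q = 3 ∨ q = 11 := by
  have := Fact.mk hq
  obtain ⟨⟨x, hx⟩, hxo⟩ := exists_prime_orderOf_dvd_card' q hd
  rw [orderOf_mk] at hxo
  have h11 : 11 ∣ Nat.card (centralizer ({x} : Set G)) :=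
    hw ▸ LargePrime.orderOf_dvd_centralizer (mem_cent.1 hx)
  have hqG : q ∣ ordJ := L.facts.card ▸ hxo ▸ orderOf_dvd_natCard x
  have hmem : q ∈ [2, 3, 5, 7, 11, 23, 29, 31, 37, 43] := by
    have e : ordJ = 2 ^ 21 * 3 ^ 3 * 5 * 7 * 11 ^ 3 * 23 * 29 * 31 * 37 * 43 := by norm_num [ordJ]
    rw [e] at hqG
    simp only [hq.dvd_mul] at hqG
    rcases hqG with ((((((((h | h) | h) | h) | h) | h) | h) | h) | h) | h
    · simp [(Nat.prime_dvd_prime_iff_eq hq (show Nat.Prime 2 by norm_num)).1 (hq.dvd_of_dvd_pow h)]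
    · simp [(Nat.prime_dvd_prime_iff_eq hq (show Nat.Prime 3 by norm_num)).1 (hq.dvd_of_dvd_pow h)]
    · simp [(Nat.prime_dvd_prime_iff_eq hq (show Nat.Prime 5 by norm_num)).1 h]
    · simp [(Nat.prime_dvd_prime_iff_eq hq (show Nat.Prime 7 by norm_num)).1 h]
    · simp [(Nat.prime_dvd_prime_iff_eq hq (show Nat.Prime 11 by norm_num)).1 (hq.dvd_of_dvd_pow h)]
    · simp [(Nat.prime_dvd_prime_iff_eq hq (show Nat.Prime 23 by norm_num)).1 h]
    · simp [(Nat.prime_dvd_prime_iff_eq hq (show Nat.Prime 29 by norm_num)).1 h]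
    · simp [(Nat.prime_dvd_prime_iff_eq hq (show Nat.Prime 31 by norm_num)).1 h]
    · simp [(Nat.prime_dvd_prime_iff_eq hq (show Nat.Prime 37 by norm_num)).1 h]
    · simp [(Nat.prime_dvd_prime_iff_eq hq (show Nat.Prime 43 by norm_num)).1 h]
  simp only [List.mem_cons, List.not_mem_nil, or_false] at hmem
  rcases hmem with h | h | h | h | h | h | h | h | h | h
  · exact Or.inl h
  · exact Or.inr (Or.inl h)
  · subst h; exact absurd (h11.trans (L.facts.five x hxo)) (by norm_num)
  · subst h; rw [(L.facts.seven x hxo).1] at h11; norm_num at h11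
  · exact Or.inr (Or.inr h)
  all_goals
    subst h
    rw [L.big _ (by simp [bigList]) x hxo] at h11
    norm_num at h11

/-- Its order is `2^a · 3^b · 11^c` with `b ≤ 1` and `c ≤ 3`. -/
theorem Local11.card_cent (L : Local11 G z r) {w : G} (hw : orderOf w = 11) :
    ∃ a b c : ℕ, Nat.card (centralizer ({w} : Set G)) = 2 ^ a * 3 ^ b * 11 ^ c ∧ b ≤ 1 ∧ 2 ≤ c ∧ c ≤ 3 := by
  set n := Nat.card (centralizer ({w} : Set G)) with hn
  have hn0 : n ≠ 0 := Nat.card_pos.ne'
  refine ⟨n.factorization 2, n.factorization 3, n.factorization 11, ?_, ?_, ?_, ?_⟩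
  · refine Nat.eq_of_factorization_eq hn0 (by positivity) fun q => ?_
    rw [Nat.factorization_mul (by positivity) (by positivity),
      Nat.factorization_mul (by positivity) (by positivity), Nat.prime_two.factorization_pow,
      Nat.prime_three.factorization_pow, (show Nat.Prime 11 by norm_num).factorization_pow]
    simp only [Finsupp.add_apply, Finsupp.single_apply]
    by_cases hq : q.Prime ∧ q ∣ n
    · rcases L.prime_dvd hw hq.1 hq.2 with rfl | rfl | rfl <;> simp
    · have h0 : n.factorization q = 0 := by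
        rcases not_and_or.1 hq with h | h
        · exact Nat.factorization_eq_zero_of_not_prime n h
        · exact Nat.factorization_eq_zero_of_not_dvd h
      split_ifs <;> subst_vars <;> simp_all
  · have h := LargePrime.not_nine_dvd L.facts hw
    have h2 := mt (Nat.prime_three.pow_dvd_iff_le_factorization hn0 (k := 2)).2 (by simpa using h)
    omega
  · exact ((show Nat.Prime 11 by norm_num).pow_dvd_iff_le_factorization hn0).1
      (LargePrime.dvd_centralizer_eleven L.facts hw)
  · have hdvd : n ∣ ordJ := L.facts.card ▸ card_subgroup_dvd_card _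
    have h := (Nat.factorization_le_iff_dvd hn0 (by norm_num [ordJ])).2 hdvd 11
    refine h.trans ?_
    by_contra h4
    have := ((show Nat.Prime 11 by norm_num).pow_dvd_iff_le_factorization
      (show ordJ ≠ 0 by norm_num [ordJ]) (k := 4)).2 (by omega)
    norm_num [ordJ] at this

theorem Local11.zz (L : Local11 G z r) : z * z = 1 := by
  rw [← sq, ← L.z_order, pow_orderOf_eq_one]

theorem Local11.z_mem (L : Local11 G z r) :
    z ∈ centralizer ({z} : Set G) ⊓ centralizer ({r} : Set G) :=
  ⟨mem_cent.2 (Commute.refl z), mem_cent.2 L.comm⟩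

/-- The centralizer of `r`: a normal Sylow 11-subgroup extended by `C(z) ⊓ C(r)`. -/
theorem Local11.structure_r (L : Local11 G z r) :
    ∃ U : Subgroup G, Nat.card U = 1331 ∧ U ≤ centralizer ({r} : Set G) ∧ r ∈ U ∧
      centralizer ({r} : Set G) ≤ normalizer (U : Set G) ∧
      U ⊓ centralizer ({z} : Set G) = zpowers r ∧
      Nat.card (centralizer ({r} : Set G)) = 31944 := by
  classical
  set C := centralizer ({r} : Set G) with hC
  set Cz := centralizer ({z} : Set G) ⊓ C with hCz
  have hzC : z ∈ C := L.z_mem.2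
  have hiso : Cfsg.IsIsolatedInvolution (⟨z, hzC⟩ : C) := by
    refine ⟨by rw [orderOf_mk]; exact L.z_order, fun g hg => Subtype.ext ?_⟩
    refine L.unique _ ⟨mem_cent.2 (congrArg Subtype.val hg).symm,
      SetLike.coe_mem (g * (⟨z, hzC⟩ : C) * g⁻¹)⟩ ?_
    exact ((MulAut.conj (g : G)).orderOf_eq z).trans L.z_order
  set O : Subgroup C := Cfsg.oddCore C with hO
  have hOodd : Odd (Nat.card O) := Nat.odd_iff.2 (Nat.two_dvd_ne_zero.1
    Cfsg.Agent.Core.not_dvd_card_pPrimeCore)
  have hOn : O.Normal := by rw [hO]; infer_instance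
  -- every element is an element of `O` times one of `Cz`
  have hgen : ∀ g : C, ∃ o ∈ O, ((o⁻¹ * g : C) : G) ∈ Cz := by
    intro g
    set zc : C := ⟨z, hzC⟩ with hzc
    have hzz : zc * zc = 1 := Subtype.ext L.zz
    set y := g * zc * g⁻¹ with hy
    have hyy : y * y = 1 := by
      rw [hy, show g * zc * g⁻¹ * (g * zc * g⁻¹) = g * (zc * zc) * g⁻¹ by group, hzz]; group
    have hmem : y * zc ∈ O := by
      have := inv_mem (Cfsg.Agent.Invol.zstar hiso g)
      rw [inv_eq_of_mul_eq_one_right hzz] at this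
      rwa [show (zc * g * zc * g⁻¹)⁻¹ = g * zc⁻¹ * g⁻¹ * zc⁻¹ by group,
        inv_eq_of_mul_eq_one_right hzz] at this
    have hod : Odd (orderOf (y * zc)) := by
      refine Odd.of_dvd_nat hOodd ?_
      have := orderOf_dvd_natCard (⟨_, hmem⟩ : O)
      rwa [orderOf_mk] at this
    obtain ⟨c, hc, hcy⟩ := conj_of_odd_mul hyy hzz hod
    refine ⟨c, (zpowers_le.2 hmem) hc, mem_cent.2 ?_, SetLike.coe_mem _⟩
    have h1 : (c⁻¹ * g) * zc = zc * (c⁻¹ * g) := by
      calc c⁻¹ * g * zc = c⁻¹ * (g * zc * g⁻¹) * g := by group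
        _ = c⁻¹ * (c * zc * c⁻¹) * g := by rw [hcy]
        _ = zc * (c⁻¹ * g) := by group
    exact congrArg Subtype.val h1
  -- the count
  have hcount : Nat.card C * Nat.card (O ⊓ Cz.subgroupOf C : Subgroup C) = Nat.card O * 264 := by
    have hsup : O ⊔ Cz.subgroupOf C = ⊤ := by
      refine eq_top_iff.2 fun g _ => ?_
      obtain ⟨o, ho, hog⟩ := hgen g
      rw [show g = o * (o⁻¹ * g) by group]
      exact mul_mem (mem_sup_left ho) (mem_sup_right hog)
    have h1 := card_mul_index (O.subgroupOf (O ⊔ Cz.subgroupOf C))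
    have h2 := QuotientGroup.quotientInfEquivProdNormalQuotient (Cz.subgroupOf C) O
    have h3 := Nat.card_congr h2.toEquiv
    rw [Nat.card_congr (subgroupOfEquivOfLe le_sup_left).toEquiv, hsup, Subgroup.card_top] at h1
    have h4 := card_mul_index (O.subgroupOf (Cz.subgroupOf C))
    rw [← Subgroup.index_eq_card, ← Subgroup.index_eq_card] at h3
    have hCzc : Nat.card (Cz.subgroupOf C) = 264 :=
      (Nat.card_congr (subgroupOfEquivOfLe inf_le_right).toEquiv).trans L.card_zr
    rw [hCzc] at h4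
    have h5 : Nat.card (O.subgroupOf (Cz.subgroupOf C)) = Nat.card (O ⊓ Cz.subgroupOf C : Subgroup C) :=
      Nat.card_congr
        { toFun := fun x => ⟨x.1.1, x.2, x.1.2⟩
          invFun := fun x => ⟨⟨x.1, x.2.2⟩, x.2.1⟩
          left_inv := fun _ => rfl
          right_inv := fun _ => rfl }
    rw [h5] at h4
    have h6 : (O.subgroupOf (Cz.subgroupOf C ⊔ O)).index = (O.subgroupOf (O ⊔ Cz.subgroupOf C)).index := by
      rw [sup_comm]
    rw [h6, hsup] at h3
    rw [← h1, ← h4, ← h3]
    ring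
  obtain ⟨a, b, c, hcard, hb, hc2, hc3⟩ := L.card_cent L.r_order
  -- the Sylow 11-subgroup of `O` is normal in `C`
  have hrC : r ∈ C := mem_cent.2 (Commute.refl r)
  have hOdvd : Nat.card O ∣ 3 * 11 ^ c := by
    have h2 : Nat.Coprime (Nat.card O) (2 ^ a) :=
      Nat.Coprime.pow_right _ (Nat.coprime_two_right.2 hOodd)
    have h := O.card_subgroup_dvd_card
    rw [hcard, show 2 ^ a * 3 ^ b * 11 ^ c = 2 ^ a * (3 ^ b * 11 ^ c) by ring] at h
    exact (h2.dvd_of_dvd_mul_left h).trans (Nat.mul_dvd_mul_right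
      ((pow_dvd_pow 3 hb).trans (by norm_num)) _)
  have h11 : Fact (Nat.Prime 11) := ⟨by norm_num⟩
  obtain ⟨S⟩ := (inferInstance : Nonempty (Sylow 11 O))
  have hSn : Nat.card (Sylow 11 O) = 1 := by
    have h1 := card_sylow_modEq_one 11 O
    have h2 : Nat.card (Sylow 11 O) ∣ 3 := by
      have hd : Nat.card (Sylow 11 O) ∣ Nat.card O := S.card_dvd_index.trans (index_dvd_card _)
      have hco : Nat.Coprime (Nat.card (Sylow 11 O)) (11 ^ c) := by
        refine Nat.Coprime.pow_right _ (Nat.Prime.coprime_iff_not_dvd h11.out |>.2 ?_).symm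
        intro hdv
        rw [Nat.ModEq, Nat.mod_eq_zero_of_dvd hdv] at h1
        norm_num at h1
      exact hco.dvd_of_dvd_mul_right (hd.trans hOdvd)
    rcases (Nat.dvd_prime Nat.prime_three).1 h2 with h | h
    · exact h
    · rw [h] at h1; norm_num [Nat.ModEq] at h1
  have : Subsingleton (Sylow 11 O) := (Nat.card_eq_one_iff_unique.1 hSn).1
  have hSnormal : (S : Subgroup O).Normal := S.normal_of_subsingleton
  have hchar : (S : Subgroup O).Characteristic := S.characteristic_of_normal hSnormal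
  have hRn : ((S : Subgroup O).map O.subtype).Normal := inferInstance
  set R : Subgroup G := ((S : Subgroup O).map O.subtype).map C.subtype with hR
  have hRC : R ≤ C := map_subtype_le _
  have hRnorm : C ≤ normalizer (R : Set G) := by
    refine (normal_subgroupOf_iff_le_normalizer hRC).1 ?_
    rw [hR, subgroupOf, comap_map_eq_self_of_injective C.subtype_injective]
    exact hRn
  have hRcard : Nat.card R = Nat.card (S : Subgroup O) := by
    rw [hR, card_map_of_injective C.subtype_injective, card_map_of_injective O.subtype_injective]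
  -- the 11-part
  set i := (Nat.card O).factorization 11
  have hRi : Nat.card R = 11 ^ i := by rw [hRcard, S.card_eq_multiplicity]
  have hInt : Nat.card (O ⊓ Cz.subgroupOf C : Subgroup C) ∣ 264 := by
    refine (card_dvd_of_le inf_le_right).trans (dvd_of_eq ?_)
    exact (Nat.card_congr (subgroupOfEquivOfLe inf_le_right).toEquiv).trans L.card_zr
  have hi : c ≤ i + 1 ∧ i ≤ c := by
    have hO0 : Nat.card O ≠ 0 := Nat.card_pos.ne'
    have hI0 : Nat.card (O ⊓ Cz.subgroupOf C : Subgroup C) ≠ 0 := Nat.card_pos.ne'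
    have e := congrArg (fun n => n.factorization 11) hcount
    simp only [Nat.factorization_mul Nat.card_pos.ne' hI0, Nat.factorization_mul hO0 (by norm_num : 264 ≠ 0),
      Finsupp.add_apply] at e
    have e1 : (Nat.card C).factorization 11 = c := by
      rw [hcard, Nat.factorization_mul (by positivity) (by positivity),
        Nat.factorization_mul (by positivity) (by positivity), Nat.prime_two.factorization_pow,
        Nat.prime_three.factorization_pow, h11.out.factorization_pow]
      simp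
    have e2 : (264 : ℕ).factorization 11 = 1 := by
      rw [show (264 : ℕ) = 24 * 11 by norm_num, Nat.factorization_mul (by norm_num) (by norm_num),
        Finsupp.add_apply, h11.out.factorization_self, Nat.factorization_eq_zero_of_not_dvd (by norm_num)]
    have e3 := (Nat.factorization_le_iff_dvd hI0 (by norm_num : 264 ≠ 0)).2 hInt 11
    have e4 : i ≤ c := by
      have := (Nat.factorization_le_iff_dvd hO0 Nat.card_pos.ne').2 O.card_subgroup_dvd_card 11
      omega
    omega
  have hrR : r ∈ R := by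
    have hrcO : (⟨r, hrC⟩ : C) ∈ O := by
      have hn : (zpowers (⟨r, hrC⟩ : C)).Normal := ⟨fun x hx g => by
        have hcm : Commute (⟨r, hrC⟩ : C) g := Subtype.ext (mem_cent.1 g.2).symm.eq
        obtain ⟨k, rfl⟩ := hx
        show g * (⟨r, hrC⟩ : C) ^ k * g⁻¹ ∈ _
        rw [← (hcm.zpow_left k).eq, mul_inv_cancel_right]
        exact zpow_mem (mem_zpowers _) k⟩
      exact Subgroup.mem_sSup_of_mem
        (show zpowers (⟨r, hrC⟩ : C) ∈ {N : Subgroup C | N.Normal ∧ (Nat.card N).Coprime 2} from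
          ⟨hn, by rw [Nat.card_zpowers, orderOf_mk, L.r_order]; norm_num⟩) (mem_zpowers _)
    have hpg : IsPGroup 11 (zpowers (⟨⟨r, hrC⟩, hrcO⟩ : O)) :=
      IsPGroup.of_card (n := 1) (by rw [Nat.card_zpowers, orderOf_mk, orderOf_mk, L.r_order, pow_one])
    obtain ⟨T, hT⟩ := hpg.exists_le_sylow
    rw [Subsingleton.elim T S] at hT
    exact ⟨⟨r, hrC⟩, ⟨⟨⟨r, hrC⟩, hrcO⟩, hT (mem_zpowers _), rfl⟩, rfl⟩
  have hzR : z ∈ normalizer (R : Set G) := hRnorm hzC
  have hRz : R ⊓ centralizer ({z} : Set G) = zpowers r := by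
    refine le_antisymm ?_ (zpowers_le.2 (mem_inf.2 ⟨hrR, mem_cent.2 L.comm.symm⟩))
    have hd : Nat.card (R ⊓ centralizer ({z} : Set G) : Subgroup G) ∣ 11 := by
      have h1 : Nat.card (R ⊓ centralizer ({z} : Set G) : Subgroup G) ∣ 11 ^ i := hRi ▸ card_dvd_of_le inf_le_left
      have h2 : Nat.card (R ⊓ centralizer ({z} : Set G) : Subgroup G) ∣ 264 :=
        L.card_zr ▸ card_dvd_of_le fun x hx => show x ∈ centralizer ({z} : Set G) ⊓ C from ⟨hx.2, hRC hx.1⟩
      obtain ⟨j, -, hj⟩ := (Nat.dvd_prime_pow h11.out).1 h1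
      rw [hj] at h2 ⊢
      by_contra hne
      have hj2 : 2 ≤ j := by
        by_contra hlt
        exact hne ((pow_dvd_pow 11 (show j ≤ 1 by omega)).trans (dvd_of_eq (pow_one 11)))
      have := (pow_dvd_pow 11 hj2).trans h2
      norm_num at this
    refine (eq_of_le_of_card_ge (zpowers_le.2 (mem_inf.2 ⟨hrR, mem_cent.2 L.comm.symm⟩)) ?_).ge
    rw [Nat.card_zpowers, L.r_order]
    exact Nat.le_of_dvd (by norm_num) hd
  -- `121` is impossible
  have hc' : i = 3 := by
    by_contra hne
    have hcom : ∀ a ∈ R, ∀ b ∈ R, a * b = b * a := by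
      intro x hx y hy
      rcases (show i ≤ 1 ∨ i = 2 by omega) with h1 | h2
      · have hcy : IsCyclic R := by
          rcases Nat.le_one_iff_eq_zero_or_eq_one.1 h1 with h | h <;> rw [h] at hRi
          · have : Subsingleton R := (Nat.card_eq_one_iff_unique.1 (by simpa using hRi)).1
            infer_instance
          · exact isCyclic_of_prime_card (p := 11) (by simpa using hRi)
        exact congrArg Subtype.val ((IsCyclic.commGroup (α := R)).mul_comm ⟨x, hx⟩ ⟨y, hy⟩)
      · rw [h2] at hRi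
        exact congrArg Subtype.val (IsPGroup.commutative_of_card_eq_prime_sq hRi ⟨x, hx⟩ ⟨y, hy⟩)
    have hRodd : Odd (Nat.card R) := by rw [hRi]; exact (show Odd 11 by decide).pow
    obtain ⟨V, hVR, hVi, hVc, hVn, -⟩ := exists_inverted hcom hRodd L.zz hzR
    rw [hRz, Nat.card_zpowers, L.r_order, hRi] at hVc
    have hVcyc : IsCyclic V := by
      rcases (show i ≤ 1 ∨ i = 2 by omega) with h1 | h2
      · have : Nat.card V = 1 := by
          have h3 : 11 ^ i ≤ 11 ^ 1 := Nat.pow_le_pow_right (by norm_num) h1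
          have h4 : 0 < Nat.card V := Nat.card_pos
          nlinarith
        have : Subsingleton V := (Nat.card_eq_one_iff_unique.1 this).1
        infer_instance
      · rw [h2] at hVc
        exact isCyclic_of_prime_card (p := 11) (by omega)
    have hCzV : Cz ≤ normalizer (V : Set G) := fun g hg => hVn g (hRnorm hg.2) ⟨1, one_mem R, by
      rw [mul_one, (mem_cent.1 hg.1).eq, mul_inv_cancel_right]⟩
    have hVtriv : ∀ v ∈ V, v = 1 := by
      intro v hv
      have hcm := commute_of_mem_commutator hCzV L.z_comm hv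
      have h := hVi v hv
      rw [hcm.eq, mul_inv_cancel_right] at h
      have h2 : v ^ 2 = 1 := by rw [sq]; nth_rewrite 2 [h]; exact mul_inv_cancel v
      have h3 : orderOf (⟨v, hVR hv⟩ : R) ∣ 11 ^ i := hRi ▸ orderOf_dvd_natCard _
      rw [orderOf_mk] at h3
      have h4 : orderOf v ∣ Nat.gcd 2 (11 ^ i) := Nat.dvd_gcd (orderOf_dvd_of_pow_eq_one h2) h3
      rw [Nat.Coprime.gcd_eq_one (Nat.Coprime.pow_right _ (by norm_num))] at h4
      exact orderOf_eq_one_iff.1 (Nat.dvd_one.1 h4)
    have hV1 : Nat.card V = 1 := Nat.card_eq_one_iff_unique.2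
      ⟨⟨fun a b => Subtype.ext ((hVtriv a a.2).trans (hVtriv b b.2).symm)⟩, ⟨1⟩⟩
    rw [hV1, one_mul] at hVc
    have : i = 1 := Nat.pow_right_injective (show 2 ≤ 11 by norm_num)
      (show 11 ^ i = 11 ^ 1 by rw [← hVc, pow_one])
    -- `C` then has 11-part at most `121`, met only by `r` times something moved by `z`
    have hO11 : (Nat.card O).factorization 11 = 1 := this
    have hIr : 11 ∣ Nat.card (O ⊓ Cz.subgroupOf C : Subgroup C) := by
      obtain ⟨rc, hrc, hrc'⟩ := hrR
      obtain ⟨⟨ro, hro⟩, -, hro'⟩ := hrc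
      have hmem : (⟨r, hrC⟩ : C) ∈ O ⊓ Cz.subgroupOf C := by
        refine ⟨?_, mem_cent.2 L.comm.symm, hrC⟩
        rw [show (⟨r, hrC⟩ : C) = ro from Subtype.ext (hrc'.symm.trans (congrArg Subtype.val hro'.symm))]
        exact hro
      have := orderOf_dvd_natCard (⟨_, hmem⟩ : (O ⊓ Cz.subgroupOf C : Subgroup C))
      rwa [orderOf_mk, orderOf_mk, L.r_order] at this
    have e := congrArg (fun n => n.factorization 11) hcount
    simp only [Nat.factorization_mul Nat.card_pos.ne' Nat.card_pos.ne',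
      Nat.factorization_mul Nat.card_pos.ne' (by norm_num : 264 ≠ 0), Finsupp.add_apply, hO11] at e
    have e5 := h11.out.factorization_pos_of_dvd Nat.card_pos.ne' hIr
    have e2 : (264 : ℕ).factorization 11 = 1 := by
      rw [show (264 : ℕ) = 24 * 11 by norm_num, Nat.factorization_mul (by norm_num) (by norm_num),
        Finsupp.add_apply, h11.out.factorization_self, Nat.factorization_eq_zero_of_not_dvd (by norm_num)]
    have e1 : (Nat.card C).factorization 11 = c := by
      rw [hcard, Nat.factorization_mul (by positivity) (by positivity),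
        Nat.factorization_mul (by positivity) (by positivity), Nat.prime_two.factorization_pow,
        Nat.prime_three.factorization_pow, h11.out.factorization_pow]
      simp
    omega
  rw [hc'] at hRi
  refine ⟨R, by rw [hRi]; norm_num, hRC, hrR, hRnorm, hRz, ?_⟩
  -- the order of `C`
  have hRO : 11 ^ 3 ∣ Nat.card O := by
    rw [← hRi, hRcard]; exact card_subgroup_dvd_card _
  have hI : Nat.card (O ⊓ Cz.subgroupOf C : Subgroup C) = 11 ∨
      Nat.card (O ⊓ Cz.subgroupOf C : Subgroup C) = 33 := by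
    have hodd : Odd (Nat.card (O ⊓ Cz.subgroupOf C : Subgroup C)) :=
      Odd.of_dvd_nat hOodd (card_dvd_of_le inf_le_left)
    have h8 : Nat.card (O ⊓ Cz.subgroupOf C : Subgroup C) ∣ 33 := by
      refine ((Nat.Coprime.pow_right 3 (Nat.coprime_two_right.2 hodd)).dvd_of_dvd_mul_left
        (show Nat.card (O ⊓ Cz.subgroupOf C : Subgroup C) ∣ 2 ^ 3 * 33 from hInt))
    obtain ⟨rc, hrc, hrc'⟩ := hrR
    obtain ⟨⟨ro, hro⟩, -, hro'⟩ := hrc
    have hmem : (⟨r, hrC⟩ : C) ∈ O ⊓ Cz.subgroupOf C := by
      refine ⟨?_, mem_cent.2 L.comm.symm, hrC⟩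
      rw [show (⟨r, hrC⟩ : C) = ro from Subtype.ext (hrc'.symm.trans (congrArg Subtype.val hro'.symm))]
      exact hro
    have h11d := orderOf_dvd_natCard (⟨_, hmem⟩ : (O ⊓ Cz.subgroupOf C : Subgroup C))
    rw [orderOf_mk, orderOf_mk, L.r_order] at h11d
    have hmem' := Nat.le_of_dvd (by norm_num) h8
    have hpos : 0 < Nat.card (O ⊓ Cz.subgroupOf C : Subgroup C) := Nat.card_pos
    generalize Nat.card (O ⊓ Cz.subgroupOf C : Subgroup C) = n at *
    obtain ⟨k, rfl⟩ := h11d
    have hk : k ≤ 3 := by omega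
    interval_cases k <;> omega
  have hc3' : c = 3 := by omega
  have hOle : Nat.card O ∣ 3 * 11 ^ 3 := hc3' ▸ hOdvd
  have hOval : Nat.card O = 11 ^ 3 ∨ Nat.card O = 3 * 11 ^ 3 := by
    obtain ⟨k, hk⟩ := hRO
    rw [hk, mul_comm 3] at hOle
    have hk3 : k ∣ 3 := Nat.dvd_of_mul_dvd_mul_left (by norm_num) hOle
    rcases (Nat.dvd_prime Nat.prime_three).1 hk3 with rfl | rfl <;> [left; right] <;> rw [hk] <;> ring
  have hIO : Nat.card (O ⊓ Cz.subgroupOf C : Subgroup C) ∣ Nat.card O := card_dvd_of_le inf_le_left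
  rw [hcard, hc3'] at hcount ⊢
  have h3a : ¬ 3 ∣ 2 ^ a := fun hd => by
    have := Nat.prime_three.dvd_of_dvd_pow hd
    norm_num at this
  generalize 2 ^ a = m at hcount h3a ⊢
  rcases hOval with h | h <;> rcases hI with h' | h' <;> rw [h, h'] at hcount hIO <;>
    rcases Nat.le_one_iff_eq_zero_or_eq_one.1 hb with rfl | rfl
  all_goals (simp only [pow_zero, pow_one, mul_one] at hcount hIO ⊢; omega)

end Cfsg.Agent.J4Type.Eleven
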