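import Cfsg.Agent.J4Type.Eleven.LocalNorm

/-!
# The normalizer on `U / ⟨r⟩`, and `N(U) = N(⟨r⟩)`
-/

set_option autoImplicit false

open Subgroup

namespace Cfsg.Agent.J4Type.Eleven

variable {G : Type*} [Group G] [Finite G] {z r : G} (L : Local11 G z r) {U : Subgroup G}
  (hU : SylData (z := z) (r := r) U)

/-- A group of order two has a nontrivial element. -/
theorem exists_ne_one_of_two {H : Type*} [Group H] (S : Subgroup H) (h : Nat.card S = 2) :
    ∃ a : S, a ≠ 1 := by
  have : Finite S := Nat.finite_of_card_ne_zero (by omega)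
  have : Nontrivial S := Finite.one_lt_card_iff_nontrivial.1 (by omega)
  exact exists_ne 1

/-- `n` fixes the coset of `u`. -/
def FixCoset (r n u : G) : Prop := u⁻¹ * (n * u * n⁻¹) ∈ zpowers r

/-- The stabilizer of a coset. -/
def cosetStab (r u : G) : Subgroup G where
  carrier := {n | n ∈ normalizer (zpowers r : Set G) ∧ FixCoset r n u}
  one_mem' := ⟨one_mem _, by simp [FixCoset]⟩
  mul_mem' := fun {a b} ha hb => ⟨mul_mem ha.1 hb.1, by
    have h : u⁻¹ * (a * b * u * (a * b)⁻¹) =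
        (u⁻¹ * (a * u * a⁻¹)) * (a * (u⁻¹ * (b * u * b⁻¹)) * a⁻¹) := by group
    show u⁻¹ * (a * b * u * (a * b)⁻¹) ∈ zpowers r
    rw [h]
    exact mul_mem ha.2 ((mem_normalizer_iff.1 ha.1 _).1 hb.2)⟩
  inv_mem' := fun {a} ha => ⟨inv_mem ha.1, by
    have h : u⁻¹ * (a⁻¹ * u * a⁻¹⁻¹) = a⁻¹ * (u⁻¹ * (a * u * a⁻¹))⁻¹ * a⁻¹⁻¹ := by group
    show u⁻¹ * (a⁻¹ * u * a⁻¹⁻¹) ∈ zpowers r
    rw [h]
    exact (mem_normalizer_iff.1 (inv_mem ha.1) _).1 (inv_mem ha.2)⟩

omit [Finite G] in
theorem mem_cosetStab {u n : G} :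
    n ∈ cosetStab r u ↔ n ∈ normalizer (zpowers r : Set G) ∧ FixCoset r n u := Iff.rfl

/-- A fixed point in a fixed coset. -/
theorem exists_fixed_point (hr : orderOf r = 11) {x u : G} (hru : Commute r u)
    (hx : x ∈ normalizer (zpowers r : Set G)) (hfix : FixCoset r x u) {p : ℕ} (hp : x ^ p = 1)
    (hp11 : ¬ 11 ∣ p) : ∃ i : ℕ, Commute x (u * r ^ i) := by
  have : Fact (Nat.Prime 11) := ⟨by norm_num⟩
  obtain ⟨c, hc⟩ := exists_conj_pow hx
  obtain ⟨j, hj⟩ := exists_pow_of_mem hfix
  have hxu : x * u * x⁻¹ = u * r ^ j := by rw [← hj]; group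
  by_cases hc1 : (c : ZMod 11) = 1
  · have hc' : x * r * x⁻¹ = r := by
      rw [hc]; exact ((pow_eq_iff hr c 1).2 (by simpa using hc1)).trans (pow_one r)
    have hit : ∀ m : ℕ, x ^ m * u * (x ^ m)⁻¹ = u * r ^ (m * j) := by
      intro m
      induction m with
      | zero => simp
      | succ m ih =>
        have hxr : x * r ^ (m * j) * x⁻¹ = r ^ (m * j) := by rw [← conj_pow, hc']
        calc x ^ (m + 1) * u * (x ^ (m + 1))⁻¹ = x * (x ^ m * u * (x ^ m)⁻¹) * x⁻¹ := by
              rw [pow_succ']; group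
          _ = (x * u * x⁻¹) * (x * r ^ (m * j) * x⁻¹) := by rw [ih]; group
          _ = u * r ^ ((m + 1) * j) := by
              rw [hxu, hxr, mul_assoc, ← pow_add]; ring_nf
    have h := hit p
    rw [hp, one_mul, inv_one, mul_one] at h
    have h2 : 11 ∣ p * j := hr ▸ orderOf_dvd_of_pow_eq_one (mul_eq_left.1 h.symm)
    rcases (Nat.Prime.dvd_mul (by norm_num : Nat.Prime 11)).1 h2 with h3 | h3
    · exact absurd h3 hp11
    · refine ⟨0, ?_⟩
      rw [pow_zero, mul_one]
      rw [show r ^ j = 1 from orderOf_dvd_iff_pow_eq_one.1 (hr ▸ h3), mul_one] at hxu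
      exact mul_inv_eq_iff_eq_mul.1 hxu
  · set i : ZMod 11 := (j : ZMod 11) * (1 - (c : ZMod 11))⁻¹ with hi
    refine ⟨i.val, mul_inv_eq_iff_eq_mul.1 ?_⟩
    calc x * (u * r ^ i.val) * x⁻¹ = (x * u * x⁻¹) * (x * r ^ i.val * x⁻¹) := by group
      _ = u * r ^ (j + c * i.val) := by rw [hxu, ← conj_pow, hc, ← pow_mul, mul_assoc, ← pow_add]
      _ = u * r ^ i.val := by
          congr 1
          rw [pow_eq_iff hr]
          push_cast
          rw [ZMod.natCast_zmod_val, hi]
          have h0 : (1 : ZMod 11) - c ≠ 0 := sub_ne_zero.2 (Ne.symm hc1)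
          field_simp
          ring

include L hU

omit L in
theorem SylData.commute_r {u : G} (hu : u ∈ U) : Commute r u :=
  (show Commute u r from mem_centralizer_singleton_iff.1 (hU.le hu)).symm

theorem SylData.not_three_five {x u : G} (hx : x ∈ normalizer (zpowers r : Set G))
    (hu : u ∈ U) (hu' : u ∉ zpowers r) (hfix : FixCoset r x u) :
    orderOf x ≠ 3 ∧ orderOf x ≠ 5 := by
  have hne : ∀ i : ℕ, u * r ^ i ∉ zpowers r := fun i h => hu' (by
    simpa using mul_mem h (inv_mem (pow_mem (mem_zpowers r) i)))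
  have h11 : ∀ i : ℕ, Commute x (u * r ^ i) → 11 ∣ Nat.card (centralizer ({x} : Set G)) := by
    intro i hi
    have hw : u * r ^ i ∈ U := mul_mem hu (pow_mem hU.mem i)
    have h1 : orderOf (u * r ^ i) ∣ 11 ^ 3 := by
      rw [show (11 : ℕ) ^ 3 = 1331 by norm_num]
      exact orderOf_dvd_of_pow_eq_one (hU.pow_card hw)
    obtain ⟨k, -, hk⟩ := (Nat.dvd_prime_pow (by norm_num)).1 h1
    rcases Nat.eq_zero_or_pos k with rfl | hk0
    · exact absurd (by rw [orderOf_eq_one_iff.1 hk]; exact one_mem _) (hne i)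
    · refine (dvd_pow_self 11 hk0.ne').trans (hk ▸ ?_)
      exact LargePrime.orderOf_dvd_centralizer hi
  constructor
  · intro h3
    obtain ⟨i, hi⟩ := exists_fixed_point L.r_order (hU.commute_r hu) hx hfix
      (h3 ▸ pow_orderOf_eq_one x) (by norm_num)
    have hxr : Commute x r := by
      obtain ⟨c, hc⟩ := exists_conj_pow hx
      have e := (chiHom_spec L.r_order ⟨x, hx⟩ c).1 hc
      have h3' : (chiHom L.r_order ⟨x, hx⟩) ^ 3 = 1 := by
        rw [← map_pow, show (⟨x, hx⟩ : (normalizer (zpowers r : Set G) : Subgroup G)) ^ 3 = 1 from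
          Subtype.ext (h3 ▸ pow_orderOf_eq_one x), map_one]
      have h1 : chiHom L.r_order ⟨x, hx⟩ = 1 := by
        revert h3'
        generalize chiHom L.r_order ⟨x, hx⟩ = a
        revert a
        decide
      exact mem_centralizer_singleton_iff.1 ((chiHom_eq_one L.r_order ⟨x, hx⟩).1 h1)
    set W := U ⊓ centralizer ({x} : Set G)
    have hWd : Nat.card W ∣ 11 ^ 3 := by
      rw [show (11 : ℕ) ^ 3 = 1331 by norm_num, ← hU.card]; exact card_dvd_of_le inf_le_left
    obtain ⟨k, -, hk⟩ := (Nat.dvd_prime_pow (by norm_num)).1 hWd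
    have hrW : zpowers r ≤ W := zpowers_le.2 (mem_inf.2
      ⟨hU.mem, mem_centralizer_singleton_iff.2 hxr.symm⟩)
    have hk2 : 2 ≤ k := by
      by_contra hlt
      have heq : zpowers r = W := eq_of_le_of_card_ge hrW (by
        rw [hk, Nat.card_zpowers, L.r_order]
        exact le_trans (Nat.pow_le_pow_right (by norm_num) (show k ≤ 1 by omega)) (by norm_num))
      exact hne i (heq.symm ▸ mem_inf.2
        ⟨mul_mem hu (pow_mem hU.mem i), mem_centralizer_singleton_iff.2 hi.symm⟩)
    have := ((pow_dvd_pow 11 hk2).trans (hk ▸ card_dvd_of_le (show W ≤ centralizer ({x} : Set G) from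
      inf_le_right))).trans (L.facts.three x h3)
    norm_num at this
  · intro h5
    obtain ⟨i, hi⟩ := exists_fixed_point L.r_order (hU.commute_r hu) hx hfix
      (h5 ▸ pow_orderOf_eq_one x) (by norm_num)
    have := (h11 i hi).trans (L.facts.five x h5)
    norm_num at this

omit L in
/-- `U` fixes every coset. -/
theorem SylData.le_cosetStab (hab : ∀ w ∈ U, ∀ u ∈ U, u⁻¹ * (w * u * w⁻¹) ∈ zpowers r) {u : G}
    (hu : u ∈ U) : U ≤ cosetStab r u :=
  fun w hw => ⟨cent_le_norm (hU.le hw), hab w hw u hu⟩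

/-- Commutators of `U` lie in `⟨r⟩`. -/
theorem SylData.commutator_mem {w u : G} (hw : w ∈ U) (hu : u ∈ U) :
    u⁻¹ * (w * u * w⁻¹) ∈ zpowers r := by
  have : Fact (Nat.Prime 11) := ⟨by norm_num⟩
  have hn : ((zpowers r).subgroupOf U).Normal := by
    refine ⟨fun x hx g => ?_⟩
    rw [mem_subgroupOf] at hx ⊢
    push_cast
    exact (mem_normalizer_iff.1 (cent_le_norm (hU.le g.2)) _).1 hx
  have hq : Nat.card (U ⧸ (zpowers r).subgroupOf U) = 11 ^ 2 := by
    have h := card_mul_index ((zpowers r).subgroupOf U)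
    rw [Nat.card_congr (subgroupOfEquivOfLe (zpowers_le.2 hU.mem)).toEquiv, Nat.card_zpowers, L.r_order,
      hU.card] at h
    show ((zpowers r).subgroupOf U).index = _
    omega
  have h := IsPGroup.commutative_of_card_eq_prime_sq hq (QuotientGroup.mk ⟨w, hw⟩) (QuotientGroup.mk ⟨u, hu⟩)
  rw [← QuotientGroup.mk_mul, ← QuotientGroup.mk_mul] at h
  have h2 := mem_subgroupOf.1 (QuotientGroup.eq.1 h)
  have h3 : (w * u)⁻¹ * (u * w) ∈ zpowers r := h2
  have h4 := inv_mem ((mem_normalizer_iff.1 (cent_le_norm (hU.le hw)) _).1 h3)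
  rwa [show (w * ((w * u)⁻¹ * (u * w)) * w⁻¹)⁻¹ = u⁻¹ * (w * u * w⁻¹) by group] at h4

theorem SylData.stab_le {u : G} (hu : u ∈ U) : U ≤ cosetStab r u :=
  hU.le_cosetStab (fun _ hw _ hv => hU.commutator_mem L hw hv) hu

theorem SylData.stab_cent {u : G} (hu : u ∈ U) (hu' : u ∉ zpowers r) :
    cosetStab r u ⊓ centralizer ({r} : Set G) = U := by
  set S := cosetStab r u ⊓ centralizer ({r} : Set G)
  have hle : U ≤ S := le_inf (hU.stab_le L hu) hU.le
  have h1 : 1331 ∣ Nat.card S := hU.card ▸ card_dvd_of_le hle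
  have h2 : Nat.card S ∣ 31944 := hU.card_cent ▸ card_dvd_of_le inf_le_right
  obtain ⟨k, hk⟩ := h1
  have hk24 : k ∣ 24 := by
    rw [hk, show (31944 : ℕ) = 1331 * 24 by norm_num] at h2
    exact Nat.dvd_of_mul_dvd_mul_left (by norm_num) h2
  refine (eq_of_le_of_card_ge hle ?_).symm
  rw [hU.card, hk]
  suffices k = 1 by omega
  by_contra hk1
  obtain ⟨p, hp, hpk⟩ := Nat.exists_prime_and_dvd hk1
  have := Fact.mk hp
  obtain ⟨⟨x, hx⟩, hxo⟩ := exists_prime_orderOf_dvd_card' (G := S) p (hk ▸ dvd_mul_of_dvd_right hpk _)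
  rw [orderOf_mk] at hxo
  have hp23 : p = 2 ∨ p = 3 := by
    have h := hpk.trans hk24
    have : p ≤ 24 := Nat.le_of_dvd (by norm_num) h
    interval_cases p <;> first | (norm_num at h; done) | (norm_num at hp; done) | omega
  rcases hp23 with rfl | rfl
  · exact hu' (hU.sq_mem_of_fixed L hx.2 hxo hu hx.1.2)
  · exact (hU.not_three_five L hx.1.1 hu hu' hx.1.2).1 hxo

/-- The stabilizer of a coset has order `2662`, the orbit is everything. -/
theorem SylData.transitive_cosets {u u' : G} (hu : u ∈ U) (hu' : u ∉ zpowers r) (hv : u' ∈ U)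
    (hv' : u' ∉ zpowers r) :
    (∃ n ∈ normalizer (zpowers r : Set G), u'⁻¹ * (n * u * n⁻¹) ∈ zpowers r) ∧
      Nat.card (cosetStab r u) = 2662 := by
  classical
  have := Fintype.ofFinite G
  have : Fact (Nat.Prime 5) := ⟨by norm_num⟩
  set N := (normalizer (zpowers r : Set G) : Subgroup G)
  -- the stabilizer
  set f : cosetStab r u →* (ZMod 11)ˣ := (chiHom L.r_order).comp (inclusion fun n hn => hn.1) with hf
  have hker : Nat.card f.ker = 1331 := by
    rw [← hU.card, ← hU.stab_cent L hu hu']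
    exact Nat.card_congr
      { toFun := fun n => ⟨n.1.1, n.1.2, (chiHom_eq_one L.r_order _).1 n.2⟩
        invFun := fun n => ⟨⟨n.1, n.2.1⟩, (chiHom_eq_one L.r_order _).2 n.2.2⟩
        left_inv := fun _ => rfl
        right_inv := fun _ => rfl }
  have hmul := f.ker.card_mul_index
  rw [Subgroup.index_ker, hker] at hmul
  have hr10 : Nat.card f.range ∣ 10 := by
    have := f.range.card_subgroup_dvd_card
    rwa [Nat.card_eq_fintype_card (α := (ZMod 11)ˣ), show Fintype.card (ZMod 11)ˣ = 10 from rfl] at this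
  have h5 : ¬ 5 ∣ Nat.card f.range := by
    intro h
    obtain ⟨⟨x, hx⟩, hxo⟩ := exists_prime_orderOf_dvd_card' (G := cosetStab r u) 5
      (hmul ▸ dvd_mul_of_dvd_right h _)
    rw [orderOf_mk] at hxo
    exact (hU.not_three_five L hx.1 hu hu' hx.2).2 hxo
  have hle2 : Nat.card f.range ≤ 2 := by
    have hb := Nat.le_of_dvd (by norm_num) hr10
    generalize Nat.card f.range = k at *
    interval_cases k <;> omega
  have hstab : Nat.card (cosetStab r u) ≤ 2662 := by rw [← hmul]; omega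
  -- the orbit
  set F : N → G ⧸ zpowers r := fun n => QuotientGroup.mk (n.1 * u * n.1⁻¹) with hF
  set A := (Finset.univ : Finset N).image F with hA
  set B := ((Finset.univ : Finset U).image fun w : U => (QuotientGroup.mk (w : G) : G ⧸ zpowers r)).erase
    (QuotientGroup.mk 1) with hB
  have hAB : A ⊆ B := by
    intro a ha
    obtain ⟨n, -, rfl⟩ := Finset.mem_image.1 ha
    refine Finset.mem_erase.2 ⟨fun h => hu' ?_, Finset.mem_image.2
      ⟨⟨_, hU.norm_mem n.2 hu⟩, Finset.mem_univ _, rfl⟩⟩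
    have h' := QuotientGroup.eq.1 h.symm
    rw [inv_one, one_mul] at h'
    exact (mem_normalizer_iff.1 n.2 u).2 h'
  have hBcard : B.card = 120 := by
    have h1m : (QuotientGroup.mk (1 : G) : G ⧸ zpowers r) ∈
        (Finset.univ : Finset U).image fun w : U => (QuotientGroup.mk (w : G) : G ⧸ zpowers r) :=
      Finset.mem_image.2 ⟨1, Finset.mem_univ _, rfl⟩
    rw [hB, Finset.card_erase_of_mem h1m]
    have e : ((Finset.univ : Finset U).image fun w : U => (QuotientGroup.mk (w : G) : G ⧸ zpowers r)).card =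
        Nat.card (U ⧸ (zpowers r).subgroupOf U) := by
      rw [Nat.card_eq_fintype_card, ← Finset.card_univ]
      symm
      refine Finset.card_bij (fun q _ => Quotient.liftOn' q
          (fun w : U => (QuotientGroup.mk (w : G) : G ⧸ zpowers r))
          (fun a b hab => QuotientGroup.eq.2 (mem_subgroupOf.1 (QuotientGroup.leftRel_apply.1 hab))))
        ?_ ?_ ?_
      · intro q _
        induction q using QuotientGroup.induction_on with
        | H w => exact Finset.mem_image.2 ⟨w, Finset.mem_univ _, rfl⟩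
      · intro a _ b _ hab
        induction a using QuotientGroup.induction_on with
        | H x =>
          induction b using QuotientGroup.induction_on with
          | H y => exact QuotientGroup.eq.2 (mem_subgroupOf.2 (QuotientGroup.eq.1 hab))
      · intro b hb
        obtain ⟨w, -, rfl⟩ := Finset.mem_image.1 hb
        exact ⟨QuotientGroup.mk w, Finset.mem_univ _, rfl⟩
    rw [e]
    have h := card_mul_index ((zpowers r).subgroupOf U)
    rw [Nat.card_congr (subgroupOfEquivOfLe (zpowers_le.2 hU.mem)).toEquiv, Nat.card_zpowers, L.r_order,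
      hU.card, index_eq_card] at h
    omega
  have hfib : ∀ a ∈ A, ((Finset.univ : Finset N).filter fun n => F n = a).card ≤ Nat.card (cosetStab r u) := by
    intro a ha
    obtain ⟨n₀, -, rfl⟩ := Finset.mem_image.1 ha
    rw [← Fintype.card_subtype, ← Nat.card_eq_fintype_card]
    refine Nat.card_le_card_of_injective (fun n => (⟨(n₀.1)⁻¹ * n.1.1, mul_mem (inv_mem n₀.2) n.1.2, ?_⟩ :
      cosetStab r u)) ?_
    · have h := (mem_normalizer_iff.1 (inv_mem n₀.2) _).1 (QuotientGroup.eq.1 n.2.symm)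
      show u⁻¹ * ((n₀.1)⁻¹ * n.1.1 * u * ((n₀.1)⁻¹ * n.1.1)⁻¹) ∈ zpowers r
      convert h using 1
      group
    · intro a b h
      exact Subtype.ext (Subtype.ext (mul_left_cancel (congrArg Subtype.val h)))
  have hN : Fintype.card N ≤ Nat.card (cosetStab r u) * A.card :=
    Finset.card_le_mul_card_image _ _ hfib
  rw [← Nat.card_eq_fintype_card, L.card_norm hU] at hN
  have hAle : A.card ≤ 120 := hBcard ▸ Finset.card_le_card hAB
  have hA120 : A.card = 120 := by nlinarith
  refine ⟨?_, by nlinarith⟩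
  have heq : A = B := Finset.eq_of_subset_of_card_le hAB (by omega)
  have hmem : (QuotientGroup.mk u' : G ⧸ zpowers r) ∈ A := by
    rw [heq]
    refine Finset.mem_erase.2 ⟨fun h => hv' ?_, Finset.mem_image.2 ⟨⟨u', hv⟩, Finset.mem_univ _, rfl⟩⟩
    have h' := QuotientGroup.eq.1 h.symm
    rwa [inv_one, one_mul] at h'
  obtain ⟨n, -, hn⟩ := Finset.mem_image.1 hmem
  exact ⟨n.1, n.2, QuotientGroup.eq.1 hn.symm⟩

/-- An involution inverting `r` fixing a point of each coset. -/
theorem SylData.exists_involution {u : G} (hu : u ∈ U) (hu' : u ∉ zpowers r) :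
    ∃ (m : G) (i : ℕ), orderOf m = 2 ∧ m * r * m⁻¹ = r⁻¹ ∧ Commute m (u * r ^ i) := by
  set f : cosetStab r u →* (ZMod 11)ˣ := (chiHom L.r_order).comp (inclusion fun n hn => hn.1) with hf
  have hker : Nat.card f.ker = 1331 := by
    rw [← hU.card, ← hU.stab_cent L hu hu']
    exact Nat.card_congr
      { toFun := fun n => ⟨n.1.1, n.1.2, (chiHom_eq_one L.r_order _).1 n.2⟩
        invFun := fun n => ⟨⟨n.1, n.2.1⟩, (chiHom_eq_one L.r_order _).2 n.2.2⟩
        left_inv := fun _ => rfl
        right_inv := fun _ => rfl }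
  have hmul := f.ker.card_mul_index
  rw [Subgroup.index_ker, hker, (hU.transitive_cosets L hu hu' hu hu').2] at hmul
  have hr2 : Nat.card f.range = 2 := by omega
  obtain ⟨⟨a, n, rfl⟩, ha⟩ := exists_ne_one_of_two f.range hr2
  have hsq : f n ^ 2 = 1 := by
    have := pow_card_eq_one' (x := (⟨f n, n, rfl⟩ : f.range))
    rw [hr2] at this
    exact congrArg Subtype.val this
  have hneg : f n = -1 := by
    have hne : f n ≠ 1 := fun h => ha (Subtype.ext h)
    revert hsq hne
    generalize f n = b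
    revert b
    decide
  have hn2 : (n : G) ^ 2 ∈ U := by
    rw [← hU.stab_cent L hu hu']
    refine ⟨(n ^ 2).2, (chiHom_eq_one L.r_order ⟨(n : G) ^ 2, pow_mem n.2.1 2⟩).1 ?_⟩
    exact (map_pow f n 2).trans hsq
  set m := (n : cosetStab r u) ^ 1331 with hm
  have hm2 : (m : G) * m = 1 := by
    rw [hm, SubgroupClass.coe_pow, ← pow_add, show 1331 + 1331 = 2 * 1331 by norm_num, pow_mul,
      hU.pow_card hn2]
  have hfm : f m = -1 := by
    rw [hm, map_pow, hneg]
    exact Odd.neg_one_pow ⟨665, by norm_num⟩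
  have hmr : (m : G) * r * (m : G)⁻¹ = r⁻¹ := by
    have h := (chiHom_spec L.r_order ⟨(m : G), m.2.1⟩ 10).2 (by
      show ((f m : (ZMod 11)ˣ) : ZMod 11) = _
      rw [hfm]
      decide)
    rw [h]
    refine eq_inv_of_mul_eq_one_left ?_
    rw [← pow_succ, show 10 + 1 = orderOf r from L.r_order.symm, pow_orderOf_eq_one]
  obtain ⟨i, hi⟩ := exists_fixed_point L.r_order (hU.commute_r hu) m.2.1 m.2.2 (p := 2)
    (by rw [sq]; exact hm2) (by norm_num)
  refine ⟨m, i, orderOf_eq_prime (by rw [sq]; exact hm2) fun h => ?_, hmr, hi⟩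
  rw [h, one_mul, inv_one, mul_one] at hmr
  have hd : orderOf r ∣ 2 := orderOf_dvd_of_pow_eq_one (by
    rw [sq]; nth_rewrite 2 [hmr]; exact mul_inv_cancel r)
  rw [L.r_order] at hd
  norm_num at hd

end Cfsg.Agent.J4Type.Eleven
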