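import Cfsg.Agent.J4Type.Eleven.LocalAbelianData
import Cfsg.Agent.J4Type.Eleven.Final
import Cfsg.Agent.MaxClassNormal.Normal

/-!
# The Sylow 11-subgroup is extraspecial, and the two classes of elements of order eleven
-/

set_option autoImplicit false

open Subgroup

namespace Cfsg.Agent.J4Type.Eleven

universe u

variable {G : Type u} [Group G] [Finite G] {z r : G}

/-- What the large primes contribute. -/
def BigSylow (G : Type u) [Group G] : Prop :=
  ∀ p ∈ LargePrime.bigList, ∀ P : Sylow p G,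
    centralizer ((P : Subgroup G) : Set G) = (P : Subgroup G) ∧
      (p, Nat.card (normalizer ((P : Subgroup G) : Set G) : Subgroup G)) ∈
        [(23, 23 * 22), (29, 29 * 28), (31, 31 * 10), (37, 37 * 12), (43, 43 * 14)]

theorem selfCentral_of_big (F : LargePrime.Facts G) (hbig : BigSylow G) {q e : ℕ} [Fact q.Prime]
    (hq : q ∈ LargePrime.bigList) (he : ∀ n, (q, n) ∈
      [(23, 23 * 22), (29, 29 * 28), (31, 31 * 10), (37, 37 * 12), (43, 43 * 14)] → n = q * e) :
    SelfCentralPrime G q e := by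
  obtain ⟨P⟩ := (inferInstance : Nonempty (Sylow q G))
  obtain ⟨h1, h2⟩ := hbig q hq P
  refine ⟨P, ?_, h1, he _ h2⟩
  have hdall : ∀ p ∈ LargePrime.bigList, p ∣ LargePrime.ordJ ∧ ¬ p ^ 2 ∣ LargePrime.ordJ := by
    decide +kernel
  have hd := hdall q hq
  have hne : LargePrime.ordJ ≠ 0 := by norm_num [LargePrime.ordJ]
  have hpp : q.Prime := Fact.out
  have e1 := (hpp.pow_dvd_iff_le_factorization hne (k := 1)).1 (by rw [pow_one]; exact hd.1)
  have e2 := mt (hpp.pow_dvd_iff_le_factorization hne (k := 2)).2 hd.2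
  rw [P.card_eq_multiplicity, F.card, show LargePrime.ordJ.factorization q = 1 by omega, pow_one]

variable (L : Local11 G z r) {U : Subgroup G} (hU : SylData (z := z) (r := r) U)
  (hct : ∀ y : G, orderOf y = 2 → ¬ IsConj z y → Nat.card (centralizer ({y} : Set G)) = 1816657920)
include L hU

include hct in
/-- The Sylow 11-subgroup is not abelian. -/
theorem SylData.not_comm (hbig : BigSylow G) : ∃ a ∈ U, ∃ b ∈ U, a * b ≠ b * a := by
  by_contra h
  push Not at h
  obtain ⟨D⟩ := hU.exists_data L h hct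
  have := Fintype.ofFinite G
  have : Fact (Nat.Prime 23) := ⟨by norm_num⟩
  have : Fact (Nat.Prime 29) := ⟨by norm_num⟩
  have : Fact (Nat.Prime 31) := ⟨by norm_num⟩
  have : Fact (Nat.Prime 37) := ⟨by norm_num⟩
  have : Fact (Nat.Prime 43) := ⟨by norm_num⟩
  refine D.false (L.facts.card.trans (by norm_num [LargePrime.ordJ, ordG]))
    (selfCentral_of_big L.facts hbig (by simp [LargePrime.bigList]) fun n hn => by simpa using hn)
    (selfCentral_of_big L.facts hbig (by simp [LargePrime.bigList]) fun n hn => by simpa using hn)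
    (selfCentral_of_big L.facts hbig (by simp [LargePrime.bigList]) fun n hn => by simpa using hn)
    (selfCentral_of_big L.facts hbig (by simp [LargePrime.bigList]) fun n hn => by simpa using hn)
    (selfCentral_of_big L.facts hbig (by simp [LargePrime.bigList]) fun n hn => by simpa using hn)

/-- `U` is a Sylow subgroup. -/
theorem SylData.exists_sylow : ∃ S : Sylow 11 G, (S : Subgroup G) = U := by
  have : Fact (Nat.Prime 11) := ⟨by norm_num⟩
  refine ⟨Sylow.ofCard U ?_, rfl⟩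
  have hpp : Nat.Prime 11 := by norm_num
  have hne : LargePrime.ordJ ≠ 0 := by norm_num [LargePrime.ordJ]
  have h1 := (hpp.pow_dvd_iff_le_factorization hne (k := 3)).1 (by norm_num [LargePrime.ordJ])
  have h2 := mt (hpp.pow_dvd_iff_le_factorization hne (k := 4)).2 (by norm_num [LargePrime.ordJ])
  rw [hU.card, L.facts.card, show LargePrime.ordJ.factorization 11 = 3 by omega]
  norm_num

variable (hna : ∃ a ∈ U, ∃ b ∈ U, a * b ≠ b * a)
include hna

theorem SylData.center_le {u : G} (hu : u ∈ U) (hc : ∀ w ∈ U, Commute u w) : u ∈ zpowers r := by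
  have : Fact (Nat.Prime 11) := ⟨by norm_num⟩
  have hne : ∃ a b : U, a * b ≠ b * a := by
    obtain ⟨a, ha, b, hb, h⟩ := hna
    exact ⟨⟨a, ha⟩, ⟨b, hb⟩, fun e => h (congrArg Subtype.val e)⟩
  have hx := MaxClassNormal.isExtraspecial_of_card (p := 11) (P := U) (by rw [hU.card]; norm_num) hne
  have hle : zpowers (⟨r, hU.mem⟩ : U) ≤ center U := zpowers_le.2 (mem_center_iff.2 fun w =>
    Subtype.ext (hU.commute_r w.2).symm.eq)
  have heq := eq_of_le_of_card_ge hle (by rw [hx.2, Nat.card_zpowers, orderOf_mk, L.r_order])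
  have hmem : (⟨u, hu⟩ : U) ∈ center U := mem_center_iff.2 fun w => Subtype.ext (hc w.1 w.2).symm.eq
  rw [← heq] at hmem
  obtain ⟨k, hk⟩ := hmem
  exact ⟨k, congrArg Subtype.val hk⟩

/-- The elements of `U \ ⟨r⟩` are conjugate. -/
theorem SylData.conj_outside {u u' : G} (hu : u ∈ U) (hu' : u ∉ zpowers r) (hv : u' ∈ U)
    (hv' : u' ∉ zpowers r) : IsConj u u' := by
  obtain ⟨⟨n, hn, hnu⟩, -⟩ := hU.transitive_cosets L hu hu' hv hv'
  obtain ⟨k, hk⟩ := exists_pow_of_mem hnu
  have h1 : IsConj u (u' * r ^ k) := isConj_iff.2 ⟨n, by rw [← hk]; group⟩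
  obtain ⟨w, hw, hwc⟩ : ∃ w ∈ U, ¬ Commute u' w := by
    by_contra h
    push Not at h
    exact hv' (hU.center_le L hna hv h)
  obtain ⟨j, hj⟩ := exists_pow_of_mem (hU.commutator_mem L hw hv)
  have hwu : w * u' * w⁻¹ = u' * r ^ j := by rw [← hj]; group
  have hj0 : (j : ZMod 11) ≠ 0 := fun h0 => hwc (by
    have : r ^ j = 1 := by simpa using (pow_eq_iff L.r_order j 0).2 (by simpa using h0)
    rw [this, mul_one] at hwu
    exact (mul_inv_eq_iff_eq_mul.1 hwu).symm)
  have hit : ∀ i : ℕ, w ^ i * u' * (w ^ i)⁻¹ = u' * r ^ (i * j) := by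
    intro i
    induction i with
    | zero => simp
    | succ i ih =>
      rw [show w ^ (i + 1) * u' * (w ^ (i + 1))⁻¹ = w * (w ^ i * u' * (w ^ i)⁻¹) * w⁻¹ by group, ih,
        show w * (u' * r ^ (i * j)) * w⁻¹ = (w * u' * w⁻¹) * (w * r ^ (i * j) * w⁻¹) by group, hwu,
        ((hU.commute_r hw).symm.pow_right (i * j)).eq, mul_inv_cancel_right, mul_assoc, ← pow_add,
        show j + i * j = (i + 1) * j by ring]
  have : Fact (Nat.Prime 11) := ⟨by norm_num⟩
  have h2 : IsConj u' (u' * r ^ k) := isConj_iff.2 ⟨w ^ ((k : ZMod 11) * (j : ZMod 11)⁻¹).val, by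
    rw [hit, (pow_eq_iff L.r_order _ k).2 (by
      push_cast [ZMod.natCast_zmod_val]
      rw [inv_mul_cancel_right₀ hj0])]⟩
  exact h1.trans h2.symm

omit hna in
/-- Every element of order eleven is conjugate to `r` or into `U \ ⟨r⟩`. -/
theorem SylData.conj_cases {g : G} (hg : orderOf g = 11) :
    IsConj r g ∨ ∃ u ∈ U, u ∉ zpowers r ∧ IsConj u g := by
  have : Fact (Nat.Prime 11) := ⟨by norm_num⟩
  obtain ⟨S, hS⟩ := hU.exists_sylow L
  obtain ⟨T, hT⟩ := (IsPGroup.of_card (p := 11) (n := 1) (G := zpowers g)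
    (by rw [Nat.card_zpowers, hg, pow_one])).exists_le_sylow
  obtain ⟨c, hc⟩ := MulAction.exists_smul_eq G T S
  have hmem : c * g * c⁻¹ ∈ U := hS ▸ hc ▸ ⟨g, hT (mem_zpowers g), rfl⟩
  have hcg : IsConj g (c * g * c⁻¹) := isConj_iff.2 ⟨c, rfl⟩
  by_cases hr : c * g * c⁻¹ ∈ zpowers r
  · refine Or.inl (IsConj.trans ?_ hcg.symm)
    obtain ⟨k, hk⟩ := exists_pow_of_mem hr
    have hk0 : (k : ZMod 11) ≠ 0 := fun h0 => by
      have h1 : r ^ k = 1 := by simpa using (pow_eq_iff L.r_order k 0).2 (by simpa using h0)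
      rw [h1, conj_eq_one_iff] at hk
      rw [hk, orderOf_one] at hg
      norm_num at hg
    obtain ⟨n, hn⟩ := L.chi_surjective hU (Units.mk0 _ hk0)
    rw [hk]
    exact isConj_iff.2 ⟨n, (chiHom_spec L.r_order n k).2 (by rw [hn]; rfl)⟩
  · exact Or.inr ⟨_, hmem, hr, hcg.symm⟩

include hct in
/-- Two classes of elements of order eleven. -/
theorem SylData.two_classes {t : G} (ht : orderOf t = 2) (htz : ¬ IsConj z t) :
    ∃ x y : G, orderOf x = 11 ∧ orderOf y = 11 ∧ ¬ IsConj x y ∧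
      ∀ w : G, orderOf w = 11 → IsConj w x ∨ IsConj w y := by
  have : Fact (Nat.Prime 11) := ⟨by norm_num⟩
  obtain ⟨⟨w, hw⟩, hwo⟩ := exists_prime_orderOf_dvd_card' (G := centralizer ({t} : Set G)) 11
    (by rw [hct t ht htz]; norm_num)
  rw [orderOf_mk] at hwo
  have hwr : ¬ IsConj r w := fun h => by
    obtain ⟨g, hg⟩ := isConj_iff.1 h
    have hy : orderOf (g⁻¹ * t * g) = 2 := by
      rw [show g⁻¹ * t * g = MulAut.conj g⁻¹ t by simp, MulEquiv.orderOf_eq, ht]
    have hyC : g⁻¹ * t * g ∈ centralizer ({r} : Set G) := mem_cent.2 (by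
      show g⁻¹ * t * g * r = r * (g⁻¹ * t * g)
      calc g⁻¹ * t * g * r = g⁻¹ * (t * (g * r * g⁻¹)) * g := by group
        _ = r * (g⁻¹ * t * g) := by rw [hg, ← (mem_cent.1 hw).eq, ← hg]; group)
    obtain ⟨c, -, hc⟩ := hU.involution_conj L hyC hy
    exact htz (isConj_iff.2 ⟨g * c, by
      calc g * c * z * (g * c)⁻¹ = g * (c * z * c⁻¹) * g⁻¹ := by group
        _ = t := by rw [hc]; group⟩)
  obtain ⟨u0, hu0, hu0', h0⟩ := (hU.conj_cases L hwo).resolve_left hwr
  refine ⟨r, w, L.r_order, hwo, hwr, fun v hv => ?_⟩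
  rcases hU.conj_cases L hv with h | ⟨u, hu, hu', h⟩
  · exact Or.inl h.symm
  · exact Or.inr (h.symm.trans ((hU.conj_outside L hna hu hu' hu0 hu0').trans h0))

/-- The structure of every Sylow 11-subgroup. -/
theorem SylData.sylow_structure (S : Sylow 11 G) :
    Cfsg.IsExtraspecial 11 ↥(S : Subgroup G) ∧ Nat.card ↥(S : Subgroup G) = 11 ^ 3 ∧
      Monoid.exponent ↥(S : Subgroup G) = 11 ∧
      Nat.card ↥(normalizer ((S : Subgroup G) : Set G)) = 2 ^ 4 * 3 * 5 * 11 ^ 3 ∧
      ∃ g : G, (normalizer (zpowers r : Set G)).map (MulAut.conj g).toMonoidHom =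
        normalizer ((S : Subgroup G) : Set G) := by
  have : Fact (Nat.Prime 11) := ⟨by norm_num⟩
  obtain ⟨S₀, hS₀⟩ := hU.exists_sylow L
  obtain ⟨g, hg⟩ := MulAction.exists_smul_eq G S₀ S
  have hmap : (S : Subgroup G) = U.map (MulAut.conj g).toMonoidHom := by rw [← hg, ← hS₀]; rfl
  have hcard : Nat.card ↥(S : Subgroup G) = 11 ^ 3 := by
    rw [hmap, card_map_of_injective (MulAut.conj g).injective, hU.card]; norm_num
  have hnorm : (normalizer (zpowers r : Set G)).map (MulAut.conj g).toMonoidHom =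
      normalizer ((S : Subgroup G) : Set G) := by
    rw [hmap, ← hU.normalizer_eq L]
    exact map_equiv_normalizer_eq U (MulAut.conj g)
  refine ⟨MaxClassNormal.isExtraspecial_of_card hcard ?_, hcard, ?_, ?_, g, hnorm⟩
  · obtain ⟨a, ha, b, hb, h⟩ := hna
    refine ⟨⟨MulAut.conj g a, hmap.ge ⟨a, ha, rfl⟩⟩, ⟨MulAut.conj g b, hmap.ge ⟨b, hb, rfl⟩⟩,
      fun e => h ((MulAut.conj g).injective ?_)⟩
    rw [map_mul, map_mul]
    exact congrArg Subtype.val e
  · have : Nontrivial ↥(S : Subgroup G) := Finite.one_lt_card_iff_nontrivial.1 (by rw [hcard]; norm_num)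
    refine (Monoid.exponent_eq_prime_iff (by norm_num)).2 fun x hx => ?_
    obtain ⟨a, ha, e⟩ := hmap.le x.2
    refine orderOf_eq_prime (Subtype.ext ?_) hx
    rw [SubmonoidClass.coe_pow, ← e, ← map_pow, hU.pow_eleven L ha, map_one]
    rfl
  · rw [← hnorm, card_map_of_injective (MulAut.conj g).injective, L.card_norm hU]
    norm_num

end Cfsg.Agent.J4Type.Eleven
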