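import Cfsg.Agent.J4Type.Eleven.LocalCent

/-!
# The normalizer of `⟨r⟩` and of the Sylow 11-subgroup
-/

set_option autoImplicit false

open Subgroup

namespace Cfsg.Agent.J4Type.Eleven

variable {G : Type*} [Group G] {z r : G}

/-- The exponent of the action on `r`. -/
noncomputable def expo (r : G) (n : G) : ZMod 11 :=
  open scoped Classical in
  if h : ∃ k : ℕ, n * r * n⁻¹ = r ^ k then (h.choose : ZMod 11) else 0

theorem pow_eq_iff (hr : orderOf r = 11) (a b : ℕ) : r ^ a = r ^ b ↔ (a : ZMod 11) = (b : ZMod 11) := by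
  rw [pow_eq_pow_iff_modEq, hr, ZMod.natCast_eq_natCast_iff]

theorem exists_pow_of_mem [Finite G] {x : G} (hx : x ∈ zpowers r) : ∃ k : ℕ, x = r ^ k := by
  obtain ⟨k, hk⟩ := mem_powers_iff_mem_zpowers.2 hx
  exact ⟨k, hk.symm⟩

theorem exists_conj_pow [Finite G] {n : G} (hn : n ∈ normalizer (zpowers r : Set G)) :
    ∃ k : ℕ, n * r * n⁻¹ = r ^ k :=
  exists_pow_of_mem ((mem_normalizer_iff.1 hn r).1 (mem_zpowers r))

theorem expo_eq (hr : orderOf r = 11) {n : G} {k : ℕ} (h : n * r * n⁻¹ = r ^ k) :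
    expo r n = (k : ZMod 11) := by
  have he : ∃ k : ℕ, n * r * n⁻¹ = r ^ k := ⟨k, h⟩
  rw [expo, dif_pos he]
  exact (pow_eq_iff hr _ _).1 (he.choose_spec.symm.trans h)

/-- The action of the normalizer on `r`. -/
noncomputable def chiHom [Finite G] (hr : orderOf r = 11) :
    (normalizer (zpowers r : Set G) : Subgroup G) →* (ZMod 11)ˣ :=
  MonoidHom.toHomUnits
    { toFun := fun n => expo r n.1
      map_one' := by rw [expo_eq hr (k := 1) (by simp), Nat.cast_one]
      map_mul' := fun a b => by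
        obtain ⟨i, hi⟩ := exists_conj_pow a.2
        obtain ⟨j, hj⟩ := exists_conj_pow b.2
        rw [expo_eq hr hi, expo_eq hr hj, ← Nat.cast_mul]
        refine expo_eq hr ?_
        calc ((a * b : (normalizer (zpowers r : Set G) : Subgroup G)) : G) * r *
              ((a * b : (normalizer (zpowers r : Set G) : Subgroup G)) : G)⁻¹
            = (a : G) * ((b : G) * r * (b : G)⁻¹) * (a : G)⁻¹ := by rw [Subgroup.coe_mul]; group
          _ = r ^ (i * j) := by rw [hj, ← conj_pow, hi, ← pow_mul] }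

theorem chiHom_spec [Finite G] (hr : orderOf r = 11)
    (n : (normalizer (zpowers r : Set G) : Subgroup G)) (k : ℕ) :
    (n : G) * r * (n : G)⁻¹ = r ^ k ↔ (chiHom hr n : ZMod 11) = (k : ZMod 11) := by
  obtain ⟨i, hi⟩ := exists_conj_pow n.2
  show _ ↔ expo r n.1 = _
  rw [expo_eq hr hi, hi, pow_eq_iff hr]

variable [Finite G]

theorem chiHom_eq_one (hr : orderOf r = 11) (n : (normalizer (zpowers r : Set G) : Subgroup G)) :
    chiHom hr n = 1 ↔ (n : G) ∈ centralizer ({r} : Set G) := by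
  rw [← Units.val_inj, mem_centralizer_singleton_iff, Units.val_one, ← Nat.cast_one,
    ← chiHom_spec, pow_one, mul_inv_eq_iff_eq_mul]

theorem cent_le_norm : centralizer ({r} : Set G) ≤ normalizer (zpowers r : Set G) := by
  intro g hg
  have hc : Commute g r := mem_centralizer_singleton_iff.1 hg
  refine mem_normalizer_iff.2 fun x => ⟨?_, ?_⟩
  · rintro ⟨k, rfl⟩
    exact ⟨k, by rw [(hc.zpow_right k).eq, mul_inv_cancel_right]⟩
  · rintro ⟨k, hk⟩
    refine ⟨k, ?_⟩
    change r ^ k = g * x * g⁻¹ at hk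
    show r ^ k = x
    calc r ^ k = g⁻¹ * (r ^ k) * g := by rw [mul_assoc, ← (hc.zpow_right k).eq, inv_mul_cancel_left]
      _ = x := by rw [hk]; group

variable (L : Local11 G z r)
include L

/-- The Sylow 11-subgroup inside the centralizer of `r`. -/
structure SylData (U : Subgroup G) : Prop where
  card : Nat.card U = 1331
  le : U ≤ centralizer ({r} : Set G)
  mem : r ∈ U
  norm : centralizer ({r} : Set G) ≤ normalizer (U : Set G)
  fixed : U ⊓ centralizer ({z} : Set G) = zpowers r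
  card_cent : Nat.card (centralizer ({r} : Set G)) = 31944

theorem Local11.exists_syl : ∃ U : Subgroup G, SylData (z := z) (r := r) U := by
  obtain ⟨U, h1, h2, h3, h4, h5, h6⟩ := L.structure_r
  exact ⟨U, h1, h2, h3, h4, h5, h6⟩

variable {U : Subgroup G} (hU : SylData (z := z) (r := r) U)
include hU

omit L in
/-- The 11-elements of the centralizer lie in `U`. -/
theorem SylData.mem_of_pow (x : G) (hx : x ∈ centralizer ({r} : Set G)) {k : ℕ} (hk : x ^ 11 ^ k = 1) :
    x ∈ U := by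
  have : (U.subgroupOf (centralizer ({r} : Set G))).Normal :=
    (normal_subgroupOf_iff_le_normalizer hU.le).2 hU.norm
  set q : (centralizer ({r} : Set G) : Subgroup G) ⧸ U.subgroupOf (centralizer ({r} : Set G)) :=
    QuotientGroup.mk ⟨x, hx⟩ with hq
  have h1 : orderOf q ∣ 11 ^ k := orderOf_dvd_of_pow_eq_one (by
    rw [hq, ← QuotientGroup.mk_pow, show (⟨x, hx⟩ : (centralizer ({r} : Set G) : Subgroup G)) ^ 11 ^ k = 1
      from Subtype.ext hk]
    rfl)
  have hidx : (U.subgroupOf (centralizer ({r} : Set G))).index = 24 := by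
    have h := card_mul_index (U.subgroupOf (centralizer ({r} : Set G)))
    rw [Nat.card_congr (subgroupOfEquivOfLe hU.le).toEquiv, hU.card, hU.card_cent] at h
    omega
  have h2 : orderOf q ∣ 24 := hidx ▸ orderOf_dvd_natCard q
  have h3 : orderOf q = 1 :=
    Nat.eq_one_of_dvd_coprimes (Nat.Coprime.pow_left k (by norm_num)) h1 h2
  have h4 := (QuotientGroup.eq_one_iff _).1 (orderOf_eq_one_iff.1 h3)
  exact h4

omit L in
theorem SylData.pow_card {u : G} (hu : u ∈ U) : u ^ 1331 = 1 := by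
  have := pow_card_eq_one' (x := (⟨u, hu⟩ : U))
  rw [hU.card] at this
  exact congrArg Subtype.val this

omit L in
theorem SylData.norm_mem {n : G} (hn : n ∈ normalizer (zpowers r : Set G)) {u : G} (hu : u ∈ U) :
    n * u * n⁻¹ ∈ U := by
  refine hU.mem_of_pow _ ?_ (k := 3) (by rw [conj_pow, show (11 : ℕ) ^ 3 = 1331 by norm_num,
    hU.pow_card hu, mul_one, mul_inv_cancel])
  obtain ⟨k, hk⟩ := exists_conj_pow ((normalizer (zpowers r : Set G)).inv_mem hn)
  have h := mem_centralizer_singleton_iff.1 (hU.le hu)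
  refine mem_centralizer_singleton_iff.2 ?_
  have hc : Commute u (n⁻¹ * r * n) := by
    rw [show n⁻¹ * r * n = n⁻¹ * r * n⁻¹⁻¹ by group, hk]
    exact (show Commute u r from h).pow_right k
  calc n * u * n⁻¹ * r = n * (u * (n⁻¹ * r * n)) * n⁻¹ := by group
    _ = r * (n * u * n⁻¹) := by rw [hc.eq]; group

omit L in
theorem SylData.le_normalizer : normalizer (zpowers r : Set G) ≤ normalizer (U : Set G) := by
  intro n hn
  refine mem_normalizer_iff.2 fun u => ⟨hU.norm_mem hn, fun h => ?_⟩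
  have := hU.norm_mem ((normalizer (zpowers r : Set G)).inv_mem hn) h
  rwa [show n⁻¹ * (n * u * n⁻¹) * n⁻¹⁻¹ = u by group] at this

/-- The involutions of `C(r)` are conjugates of `z`. -/
theorem SylData.involution_conj {y : G} (hy : y ∈ centralizer ({r} : Set G)) (hy2 : orderOf y = 2) :
    ∃ c ∈ centralizer ({r} : Set G), c * z * c⁻¹ = y := by
  set C := centralizer ({r} : Set G)
  set Cz := centralizer ({z} : Set G) ⊓ C
  have : Fact (Nat.Prime 2) := ⟨Nat.prime_two⟩
  obtain ⟨S⟩ := (inferInstance : Nonempty (Sylow 2 (Cz.subgroupOf C)))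
  set T := (S : Subgroup (Cz.subgroupOf C)).map (Cz.subgroupOf C).subtype
  have h8 : Nat.card T = 8 := by
    rw [card_map_of_injective (Subgroup.subtype_injective _), S.card_eq_multiplicity,
      Nat.card_congr (subgroupOfEquivOfLe inf_le_right).toEquiv, L.card_zr,
      show (264 : ℕ) = 2 ^ 3 * 33 by norm_num, Nat.factorization_mul (by norm_num) (by norm_num),
      Nat.prime_two.factorization_pow, Finsupp.add_apply, Finsupp.single_eq_same,
      Nat.factorization_eq_zero_of_not_dvd (by norm_num)]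
    norm_num
  let T' : Sylow 2 C := Sylow.ofCard T (by
    rw [h8, hU.card_cent, show (31944 : ℕ) = 2 ^ 3 * 3993 by norm_num,
      Nat.factorization_mul (by norm_num) (by norm_num), Nat.prime_two.factorization_pow,
      Finsupp.add_apply, Finsupp.single_eq_same, Nat.factorization_eq_zero_of_not_dvd (by norm_num)]
    norm_num)
  obtain ⟨W, hW⟩ := (IsPGroup.of_card (p := 2) (n := 1) (G := zpowers (⟨y, hy⟩ : C))
    (by rw [Nat.card_zpowers, orderOf_mk, hy2, pow_one])).exists_le_sylow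
  obtain ⟨c, hc⟩ := MulAction.exists_smul_eq C W T'
  have hmem : c * (⟨y, hy⟩ : C) * c⁻¹ ∈ (T' : Subgroup C) := hc ▸ ⟨_, hW (mem_zpowers _), rfl⟩
  obtain ⟨x, -, hx⟩ : c * (⟨y, hy⟩ : C) * c⁻¹ ∈ T := hmem
  have hz := L.unique ((c * (⟨y, hy⟩ : C) * c⁻¹ : C) : G) (by rw [← hx]; exact x.2)
    (((MulAut.conj (c : G)).orderOf_eq y).trans hy2)
  refine ⟨(c : G)⁻¹, inv_mem c.2, ?_⟩
  rw [← hz]
  show (c : G)⁻¹ * ((c : G) * y * (c : G)⁻¹) * (c : G)⁻¹⁻¹ = y
  group

/-- Involutions of `C(r)` invert `U` modulo `⟨r⟩`. -/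
theorem SylData.sq_mem_of_fixed {y : G} (hy : y ∈ centralizer ({r} : Set G)) (hy2 : orderOf y = 2)
    {u : G} (hu : u ∈ U) (hfix : u⁻¹ * (y * u * y⁻¹) ∈ zpowers r) : u ∈ zpowers r := by
  obtain ⟨c, hc, rfl⟩ := hU.involution_conj L hy hy2
  have hcN : c⁻¹ ∈ normalizer (zpowers r : Set G) := cent_le_norm (inv_mem hc)
  set w := c⁻¹ * u * c with hw
  have hwU : w ∈ U := by simpa using hU.norm_mem hcN hu
  obtain ⟨k, hk⟩ := hfix
  change r ^ k = _ at hk
  have hk' : z * w * z⁻¹ = w * r ^ k := by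
    have hck : Commute c⁻¹ (r ^ k) :=
      ((show Commute c r from mem_centralizer_singleton_iff.1 hc).inv_left).zpow_right k
    calc z * w * z⁻¹ = c⁻¹ * u * (u⁻¹ * (c * z * c⁻¹ * u * (c * z * c⁻¹)⁻¹)) * c := by
          rw [hw]; group
      _ = c⁻¹ * u * r ^ k * c := by rw [hk]
      _ = w * r ^ k := by
          rw [hw, mul_assoc (c⁻¹ * u), mul_assoc (c⁻¹ * u)]
          congr 1
          calc r ^ k * c = c * (c⁻¹ * r ^ k) * c := by group
            _ = c * r ^ k := by rw [hck.eq]; group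
  have hzr : Commute z (r ^ k) := L.comm.zpow_right k
  have h2 : w = w * (r ^ k * r ^ k) := by
    calc w = z * (z * w * z⁻¹) * z⁻¹ := by
          rw [show z * (z * w * z⁻¹) * z⁻¹ = (z * z) * w * (z * z)⁻¹ by group, L.zz]; group
      _ = z * (w * r ^ k) * z⁻¹ := by rw [hk']
      _ = (z * w * z⁻¹) * (z * r ^ k * z⁻¹) := by group
      _ = w * (r ^ k * r ^ k) := by rw [hzr.eq, mul_inv_cancel_right, hk', mul_assoc]
  have h3 : r ^ (k + k) = 1 := by
    rw [zpow_add]
    exact (mul_eq_left.1 h2.symm)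
  rw [← orderOf_dvd_iff_zpow_eq_one, L.r_order] at h3
  have h4 : ((11 : ℕ) : ℤ) ∣ k := by omega
  have h5 : r ^ k = 1 := by rw [← orderOf_dvd_iff_zpow_eq_one, L.r_order]; exact h4
  rw [h5, mul_one] at hk'
  have hwz : w ∈ zpowers r := hU.fixed ▸ mem_inf.2
    ⟨hwU, mem_centralizer_singleton_iff.2 (mul_inv_eq_iff_eq_mul.1 hk').symm⟩
  have h6 : u = c * w * c⁻¹ := by rw [hw]; group
  rw [h6]
  exact (mem_normalizer_iff.1 (cent_le_norm hc) w).1 hwz

theorem Local11.chi_surjective : Function.Surjective (chiHom (r := r) L.r_order) := by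
  obtain ⟨g, -, hg⟩ := L.aut
  have hgN : g ∈ normalizer (zpowers r : Set G) := by
    refine mem_normalizer_iff.2 fun x => ⟨?_, ?_⟩
    · rintro ⟨k, rfl⟩
      exact ⟨2 * k, by
        show r ^ (2 * k) = g * r ^ k * g⁻¹
        rw [← conj_zpow, hg, ← zpow_natCast r 2, ← zpow_mul]; norm_num⟩
    · rintro ⟨k, hk⟩
      change r ^ k = _ at hk
      refine ⟨6 * k, ?_⟩
      show r ^ (6 * k) = x
      apply (MulAut.conj g).injective
      show g * r ^ (6 * k) * g⁻¹ = g * x * g⁻¹
      rw [← hk, ← conj_zpow, hg, ← zpow_natCast r 2, ← zpow_mul, zpow_eq_zpow_iff_modEq, L.r_order,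
        Int.modEq_iff_dvd]
      exact ⟨-k, by push_cast; ring⟩
  have h2 : (chiHom L.r_order ⟨g, hgN⟩ : ZMod 11) = 2 := (chiHom_spec L.r_order ⟨g, hgN⟩ 2).1 hg
  intro c
  have : ∃ j : Fin 10, (c : ZMod 11) = 2 ^ (j : ℕ) := by
    revert c
    decide
  obtain ⟨j, hj⟩ := this
  exact ⟨⟨g, hgN⟩ ^ (j : ℕ), Units.ext (by rw [map_pow, Units.val_pow_eq_pow_val, h2, hj])⟩

theorem Local11.card_norm : Nat.card (normalizer (zpowers r : Set G) : Subgroup G) = 319440 := by
  have h := (chiHom (r := r) L.r_order).ker.card_mul_index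
  rw [Subgroup.index_ker, MonoidHom.range_eq_top.2 (L.chi_surjective hU), Subgroup.card_top,
    Nat.card_eq_fintype_card (α := (ZMod 11)ˣ), show Fintype.card (ZMod 11)ˣ = 10 from rfl] at h
  have e : Nat.card (chiHom (r := r) L.r_order).ker = 31944 := by
    rw [← hU.card_cent]
    exact Nat.card_congr
      { toFun := fun n => ⟨n.1.1, (chiHom_eq_one L.r_order n.1).1 n.2⟩
        invFun := fun n => ⟨⟨n.1, cent_le_norm n.2⟩, (chiHom_eq_one L.r_order _).2 n.2⟩
        left_inv := fun _ => rfl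
        right_inv := fun _ => rfl }
  rw [e] at h
  omega

end Cfsg.Agent.J4Type.Eleven
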