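import Mathlib

/-!
# Elementary tools for the 11-local subgroups
-/

set_option autoImplicit false

open Subgroup
open scoped commutatorElement

namespace Cfsg.Agent.J4Type.Eleven

variable {G : Type*} [Group G]

/-- Two involutions with product of odd order are conjugate by a power of the product. -/
theorem conj_of_odd_mul {y z : G} (hy : y * y = 1) (hz : z * z = 1) (h : Odd (orderOf (y * z))) :
    ∃ c ∈ zpowers (y * z), c * z * c⁻¹ = y := by
  set d := y * z with hd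
  obtain ⟨m, hm⟩ := h
  have hzd : z * d * z⁻¹ = d⁻¹ := by
    rw [hd, mul_inv_rev, inv_eq_of_mul_eq_one_right hy, inv_eq_of_mul_eq_one_right hz,
      show z * (y * z) * z = z * y * (z * z) by group, hz, mul_one]
  refine ⟨d ^ (m + 1), pow_mem (mem_zpowers d) _, ?_⟩
  have h1 : z * d ^ (m + 1) * z⁻¹ = (d ^ (m + 1))⁻¹ := by rw [← conj_pow, hzd, inv_pow]
  have h2 : z * (d ^ (m + 1))⁻¹ = d ^ (m + 1) * z := by
    calc z * (d ^ (m + 1))⁻¹ = (z * d ^ (m + 1) * z⁻¹)⁻¹ * z := by group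
      _ = d ^ (m + 1) * z := by rw [h1, inv_inv]
  rw [mul_assoc, h2, ← mul_assoc, ← pow_add, show m + 1 + (m + 1) = orderOf d + 1 by omega, pow_succ,
    pow_orderOf_eq_one, one_mul, hd, mul_assoc, hz, mul_one]

/-- The commutator subgroup of `K` centralizes a cyclic subgroup normalized by `K`. -/
theorem commute_of_mem_commutator [Finite G] {K R : Subgroup G} [IsCyclic R]
    (hK : K ≤ normalizer (R : Set G)) {z : G} (hz : z ∈ ⁅K, K⁆) {u : G} (hu : u ∈ R) : Commute z u := by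
  rw [← map_subtype_commutator] at hz
  obtain ⟨k, hk, rfl⟩ := hz
  let φ : K →* MulAut R := R.normalizerMonoidHom.comp (inclusion hK)
  let ψ : K →* (ZMod (Nat.card R))ˣ := (IsCyclic.mulAutMulEquiv R).toMonoidHom.comp φ
  have h1 : ψ k = 1 := Abelianization.commutator_subset_ker ψ hk
  have h2 : φ k = 1 := (IsCyclic.mulAutMulEquiv R).injective (h1.trans (map_one _).symm)
  have h3 := congrArg (fun a : MulAut R => ((a ⟨u, hu⟩ : R) : G)) h2
  change (k : G) * u * (k : G)⁻¹ = u at h3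
  exact mul_inv_eq_iff_eq_mul.1 h3

/-- The subgroup of `R` moved by an involution, for an abelian subgroup `R` of odd order. -/
theorem exists_inverted [Finite G] {R : Subgroup G} (hab : ∀ a ∈ R, ∀ b ∈ R, a * b = b * a)
    (hodd : Odd (Nat.card R)) {z : G} (hz : z * z = 1) (hzR : z ∈ normalizer (R : Set G)) :
    ∃ V : Subgroup G, V ≤ R ∧ (∀ v ∈ V, z * v * z⁻¹ = v⁻¹) ∧
      Nat.card V * Nat.card (R ⊓ centralizer ({z} : Set G) : Subgroup G) = Nat.card R ∧
      (∀ g ∈ normalizer (R : Set G), (∃ u ∈ R, g * z * g⁻¹ = z * u) → g ∈ normalizer (V : Set G)) ∧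
      ∀ u ∈ R, z * u * z⁻¹ = u⁻¹ → u ∈ V := by
  have hmem : ∀ u ∈ R, z * u * z⁻¹ ∈ R := fun u hu => (mem_normalizer_iff.1 hzR u).1 hu
  have hz' : z⁻¹ = z := inv_eq_of_mul_eq_one_right hz
  let f : R →* G :=
    { toFun := fun u => (u : G)⁻¹ * (z * u * z⁻¹)
      map_one' := by simp
      map_mul' := fun a b => by
        have e1 := hab _ (inv_mem a.2) _ (mul_mem (inv_mem b.2) (hmem b b.2))
        calc ((a * b : R) : G)⁻¹ * (z * (a * b : R) * z⁻¹)
            = (b : G)⁻¹ * ((a : G)⁻¹ * (z * a * z⁻¹)) * (z * b * z⁻¹) := by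
              push_cast; group
          _ = (a : G)⁻¹ * (z * a * z⁻¹) * ((b : G)⁻¹ * (z * b * z⁻¹)) := by
              rw [hab _ (inv_mem b.2) _ (mul_mem (inv_mem a.2) (hmem a a.2))]; group }
  have hle : f.range ≤ R := by
    rintro - ⟨u, rfl⟩
    exact mul_mem (inv_mem u.2) (hmem u u.2)
  have hinv : ∀ v ∈ f.range, z * v * z⁻¹ = v⁻¹ := by
    rintro - ⟨u, rfl⟩
    show z * ((u : G)⁻¹ * (z * u * z⁻¹)) * z⁻¹ = ((u : G)⁻¹ * (z * u * z⁻¹))⁻¹
    calc z * ((u : G)⁻¹ * (z * u * z⁻¹)) * z⁻¹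
        = (z * u * z⁻¹)⁻¹ * ((z * z) * u * (z * z)⁻¹) := by group
      _ = ((u : G)⁻¹ * (z * u * z⁻¹))⁻¹ := by rw [hz]; group
  have hall : ∀ u ∈ R, z * u * z⁻¹ = u⁻¹ → u ∈ f.range := by
    intro u hu h
    obtain ⟨m, hm⟩ := hodd
    refine ⟨⟨u ^ m, pow_mem hu m⟩, ?_⟩
    show (u ^ m)⁻¹ * (z * u ^ m * z⁻¹) = u
    rw [← conj_pow, h, inv_pow, ← mul_inv_rev, ← pow_add]
    refine inv_eq_of_mul_eq_one_left ?_
    rw [← pow_succ', show m + m + 1 = Nat.card R by omega]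
    exact congrArg Subtype.val (pow_card_eq_one' (x := (⟨u, hu⟩ : R)))
  refine ⟨f.range, hle, hinv, ?_, ?_, hall⟩
  · have h1 := f.ker.index_mul_card
    rw [Subgroup.index_ker] at h1
    rw [← h1]
    congr 1
    refine Nat.card_congr
      { toFun := fun u => ⟨⟨u.1, u.2.1⟩, ?_⟩
        invFun := fun u => ⟨u.1.1, u.1.2, ?_⟩
        left_inv := fun _ => rfl
        right_inv := fun _ => rfl }
    · show (u.1 : G)⁻¹ * (z * u.1 * z⁻¹) = 1
      rw [inv_mul_eq_one]
      rw [(mem_centralizer_singleton_iff.1 u.2.2).symm, mul_inv_cancel_right]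
    · have h : (u.1 : G)⁻¹ * (z * u.1 * z⁻¹) = 1 := u.2
      rw [inv_mul_eq_one] at h
      exact mem_centralizer_singleton_iff.2 (eq_mul_inv_iff_mul_eq.1 h)
  · rintro g hg ⟨w, hw, hgz⟩
    have hstep : ∀ v ∈ f.range, g * v * g⁻¹ ∈ f.range := by
      intro v hv
      refine hall _ ((mem_normalizer_iff.1 hg v).1 (hle hv)) ?_
      have hgv : g * v * g⁻¹ ∈ R := (mem_normalizer_iff.1 hg v).1 (hle hv)
      have h1 : g * (z * v * z⁻¹) * g⁻¹ = (g * v * g⁻¹)⁻¹ := by rw [hinv v hv]; group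
      rw [← h1, show g * (z * v * z⁻¹) * g⁻¹ = (g * z * g⁻¹) * (g * v * g⁻¹) * (g * z * g⁻¹)⁻¹ by group,
        hgz, show z * w * (g * v * g⁻¹) * (z * w)⁻¹ = z * (w * (g * v * g⁻¹) * w⁻¹) * z⁻¹ by group,
        hab w hw _ hgv, mul_inv_cancel_right]
    have hset : f.range.map (MulAut.conj g).toMonoidHom = f.range := by
      refine eq_of_le_of_card_ge ?_ (by rw [card_map_of_injective (MulAut.conj g).injective])
      rintro - ⟨v, hv, rfl⟩
      exact hstep v hv
    refine mem_normalizer_iff.2 fun v => ⟨hstep v, fun h => ?_⟩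
    rw [← hset] at h
    obtain ⟨v', hv', e⟩ := h
    rwa [show v = v' from ((MulAut.conj g).injective e).symm]

end Cfsg.Agent.J4Type.Eleven
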