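import Cfsg.Agent.J4Type.Eleven.LocalFusion

/-!
# `N(U) = N(⟨r⟩)`, the exponent of `U`, and elements of order eleven
-/

set_option autoImplicit false

open Subgroup

namespace Cfsg.Agent.J4Type.Eleven

variable {G : Type*} [Group G] [Finite G] {z r : G} (L : Local11 G z r) {U : Subgroup G}
  (hU : SylData (z := z) (r := r) U)
include L hU

theorem SylData.center_r {u : G} (hu : u ∈ U) (k : ℕ) : Commute u (r ^ k) :=
  ((hU.commute_r hu).symm).pow_right k

/-- `U` has exponent eleven. -/
theorem SylData.pow_eleven {u : G} (hu : u ∈ U) : u ^ 11 = 1 := by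
  have hrr : ∀ a : G, a ∈ zpowers r → a ^ 11 = 1 := fun a ha => by
    obtain ⟨k, rfl⟩ := exists_pow_of_mem ha
    rw [← pow_mul, mul_comm, pow_mul, ← L.r_order, pow_orderOf_eq_one, one_pow]
  by_cases hu' : u ∈ zpowers r
  · exact hrr u hu'
  have hrn : ∀ a ∈ U, a ^ 121 ∈ zpowers r := by
    intro a ha
    have hn : ((zpowers r).subgroupOf U).Normal := by
      refine ⟨fun x hx g => ?_⟩
      rw [mem_subgroupOf] at hx ⊢
      push_cast
      exact (mem_normalizer_iff.1 (cent_le_norm (hU.le g.2)) _).1 hx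
    have h := Subgroup.pow_index_mem ((zpowers r).subgroupOf U) (⟨a, ha⟩ : U)
    have hi : ((zpowers r).subgroupOf U).index = 121 := by
      have h := card_mul_index ((zpowers r).subgroupOf U)
      rw [Nat.card_congr (subgroupOfEquivOfLe (zpowers_le.2 hU.mem)).toEquiv, Nat.card_zpowers, L.r_order,
        hU.card] at h
      omega
    rw [hi] at h
    exact h
  -- the eleventh power of a coset representative lies in `⟨r⟩`
  have h11 : ∀ a ∈ U, a ∉ zpowers r → a ^ 11 ∈ zpowers r := by
    intro a ha ha'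
    by_contra hne
    obtain ⟨⟨n, hn, hfix⟩, -⟩ := hU.transitive_cosets L (pow_mem ha 11) hne ha ha'
    obtain ⟨k, hk⟩ := exists_pow_of_mem hfix
    have e : n * a ^ 11 * n⁻¹ = a * r ^ k := by rw [← hk]; group
    refine hne ?_
    have e2 : (n * a ^ 11 * n⁻¹) ^ 11 = a ^ 11 := by
      rw [e, (hU.center_r L ha k).mul_pow, hrr _ (pow_mem (mem_zpowers r) k), mul_one]
    rw [← e2, conj_pow, ← pow_mul, show 11 * 11 = 121 by norm_num]
    exact (mem_normalizer_iff.1 hn _).1 (hrn a ha)
  obtain ⟨k, hk⟩ := exists_pow_of_mem (h11 u hu hu')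
  obtain ⟨m, i, -, hmr, hmu⟩ := hU.exists_involution L hu hu'
  have e : (u * r ^ i) ^ 11 = r ^ k := by
    rw [(hU.center_r L hu i).mul_pow, hrr _ (pow_mem (mem_zpowers r) i), mul_one, hk]
  have h1 : m * r ^ k * m⁻¹ = r ^ k := by
    have h := hmu.pow_right 11
    rw [e] at h
    rw [h.eq, mul_inv_cancel_right]
  rw [← conj_pow, hmr, inv_pow] at h1
  have h2 : r ^ (k + k) = 1 := by rw [pow_add]; nth_rewrite 1 [← h1]; exact inv_mul_cancel _
  have h3 : 11 ∣ k + k := L.r_order ▸ orderOf_dvd_of_pow_eq_one h2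
  rw [hk]
  exact orderOf_dvd_iff_pow_eq_one.1 (by rw [L.r_order]; omega)

theorem SylData.orderOf_eq {u : G} (hu : u ∈ U) (h1 : u ≠ 1) : orderOf u = 11 :=
  have : Fact (Nat.Prime 11) := ⟨by norm_num⟩
  orderOf_eq_prime (hU.pow_eleven L hu) h1

/-- The 11-subgroups of `C(r)` lie in `U`. -/
theorem SylData.conj_le_of_central {g : G} (hg : ∀ u ∈ U, Commute (g * u * g⁻¹) r) {u : G} (hu : u ∈ U) :
    g * u * g⁻¹ ∈ U :=
  hU.mem_of_pow _ (mem_centralizer_singleton_iff.2 (hg u hu)) (k := 1)
    (by rw [pow_one, conj_pow, hU.pow_eleven L hu, mul_one, mul_inv_cancel])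

/-- `N(U) = N(⟨r⟩)`. -/
theorem SylData.normalizer_eq : normalizer (U : Set G) = normalizer (zpowers r : Set G) := by
  classical
  have := Fintype.ofFinite G
  refine le_antisymm ?_ hU.le_normalizer
  set N := (normalizer (zpowers r : Set G) : Subgroup G)
  set K := (normalizer (U : Set G) : Subgroup G) with hK
  set O := (Finset.univ : Finset K).image fun k : K => (k : G) * r * (k : G)⁻¹ with hO
  have hmemO : ∀ a ∈ O, a ∈ U := fun a ha => by
    obtain ⟨k, -, rfl⟩ := Finset.mem_image.1 ha
    exact (mem_normalizer_iff.1 k.2 r).1 hU.mem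
  have hcardO : Nat.card K = O.card * 31944 := by
    rw [Nat.card_eq_fintype_card, ← Finset.card_univ, Finset.card_eq_sum_card_image
      (fun k : K => (k : G) * r * (k : G)⁻¹) Finset.univ, Finset.sum_congr rfl fun a ha => ?_,
      Finset.sum_const, smul_eq_mul]
    obtain ⟨k₀, -, rfl⟩ := Finset.mem_image.1 ha
    rw [← hU.card_cent, ← Fintype.card_subtype, ← Nat.card_eq_fintype_card]
    exact Nat.card_congr
      { toFun := fun k => ⟨(k₀ : G)⁻¹ * k.1.1, mem_centralizer_singleton_iff.2 (by
          have h := k.2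
          calc (k₀ : G)⁻¹ * k.1.1 * r = (k₀ : G)⁻¹ * ((k.1 : G) * r * (k.1 : G)⁻¹) * k.1.1 := by group
            _ = r * ((k₀ : G)⁻¹ * k.1.1) := by rw [h]; group)⟩
        invFun := fun c => ⟨⟨(k₀ : G) * c.1, mul_mem k₀.2 (hU.norm c.2)⟩, by
          show (k₀ : G) * c.1 * r * ((k₀ : G) * c.1)⁻¹ = _
          rw [mul_assoc (k₀ : G), mem_centralizer_singleton_iff.1 c.2]
          group⟩
        left_inv := fun k => Subtype.ext (Subtype.ext (by simp))
        right_inv := fun c => Subtype.ext (by simp) }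
  set O1 := O.filter fun a => a ∈ zpowers r
  set O2 := O.filter fun a => a ∉ zpowers r
  have hO12 : O1.card + O2.card = O.card := Finset.card_filter_add_card_filter_not _
  have hO1 : O1.card = 10 := by
    have e : O1 = ((Finset.univ : Finset (zpowers r)).image fun a : zpowers r => (a : G)).erase 1 := by
      ext a
      simp only [O1, Finset.mem_filter, Finset.mem_erase, Finset.mem_image, Finset.mem_univ, true_and]
      constructor
      · rintro ⟨ha, hz⟩
        refine ⟨fun h1 => ?_, ⟨a, hz⟩, rfl⟩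
        obtain ⟨k, -, hk⟩ := Finset.mem_image.1 ha
        rw [h1, conj_eq_one_iff] at hk
        have := L.r_order
        rw [hk, orderOf_one] at this
        norm_num at this
      · rintro ⟨ha1, ⟨b, hb⟩, rfl⟩
        refine ⟨?_, hb⟩
        obtain ⟨k, rfl⟩ := exists_pow_of_mem hb
        have hk : (k : ZMod 11) ≠ 0 := fun h0 => ha1 (by
          simpa using (pow_eq_iff L.r_order k 0).2 (by simpa using h0))
        have : Fact (Nat.Prime 11) := ⟨by norm_num⟩
        obtain ⟨n, hn⟩ := L.chi_surjective hU (Units.mk0 _ hk)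
        refine Finset.mem_image.2 ⟨⟨n.1, hU.le_normalizer n.2⟩, Finset.mem_univ _, ?_⟩
        exact (chiHom_spec L.r_order n k).2 (by rw [hn]; rfl)
    have h1 : (1 : G) ∈ (Finset.univ : Finset (zpowers r)).image fun a : zpowers r => (a : G) :=
      Finset.mem_image.2 ⟨1, Finset.mem_univ _, rfl⟩
    rw [e, Finset.card_erase_of_mem h1, Finset.card_image_of_injective _ Subtype.val_injective,
      Finset.card_univ, ← Nat.card_eq_fintype_card, Nat.card_zpowers, L.r_order]
  have hO2 : 120 ∣ O2.card ∧ O2.card ≤ 1320 := by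
    set F : G → G ⧸ zpowers r := fun a => QuotientGroup.mk a
    set B := ((Finset.univ : Finset U).filter fun a : U => (a : G) ∉ zpowers r).image
      (fun a : U => F (a : G)) with hB
    have hmap : ∀ a ∈ O2, F a ∈ B := fun a ha => by
      obtain ⟨h1, h2⟩ := Finset.mem_filter.1 ha
      exact Finset.mem_image.2 ⟨⟨a, hmemO a h1⟩, Finset.mem_filter.2 ⟨Finset.mem_univ _, h2⟩, rfl⟩
    have hfib : ∀ b ∈ B, ∀ b' ∈ B, (O2.filter fun a => F a = b).card ≤ (O2.filter fun a => F a = b').card := by
      intro b hb b' hb'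
      obtain ⟨u, hu, rfl⟩ := Finset.mem_image.1 hb
      obtain ⟨u', hu', rfl⟩ := Finset.mem_image.1 hb'
      obtain ⟨⟨n, hn, hnu⟩, -⟩ := hU.transitive_cosets L u.2 (Finset.mem_filter.1 hu).2 u'.2
        (Finset.mem_filter.1 hu').2
      refine Finset.card_le_card_of_injOn (fun a => n * a * n⁻¹) (fun a ha => ?_)
        (fun a _ c _ h => (MulAut.conj n).injective h)
      obtain ⟨ha2, hab⟩ := Finset.mem_filter.1 ha
      obtain ⟨haO, haz⟩ := Finset.mem_filter.1 ha2
      obtain ⟨k, -, rfl⟩ := Finset.mem_image.1 haO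
      refine Finset.mem_filter.2 ⟨Finset.mem_filter.2 ⟨Finset.mem_image.2
        ⟨⟨n * k.1, mul_mem (hU.le_normalizer hn) k.2⟩, Finset.mem_univ _, by group⟩,
        fun h => haz ((mem_normalizer_iff.1 hn _).2 h)⟩, QuotientGroup.eq.2 ?_⟩
      have h1 := (mem_normalizer_iff.1 hn _).1 (QuotientGroup.eq.1 hab.symm)
      have h2 := inv_mem (mul_mem hnu h1)
      convert h2 using 1
      group
    have hBc : B.card = 120 := by
      have hB' : B = ((Finset.univ : Finset U).image fun a : U => F (a : G)).erase (F 1) := by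
        ext b
        simp only [hB, Finset.mem_image, Finset.mem_filter, Finset.mem_univ, true_and, Finset.mem_erase]
        constructor
        · rintro ⟨a, ha, rfl⟩
          refine ⟨fun h => ha ?_, a, rfl⟩
          have h' := QuotientGroup.eq.1 h.symm
          rwa [inv_one, one_mul] at h'
        · rintro ⟨h, a, rfl⟩
          exact ⟨a, fun ha => h (QuotientGroup.eq.2 (by simpa using inv_mem ha)), rfl⟩
      have h1m : F 1 ∈ (Finset.univ : Finset U).image fun a : U => F (a : G) :=
        Finset.mem_image.2 ⟨1, Finset.mem_univ _, rfl⟩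
      rw [hB', Finset.card_erase_of_mem h1m]
      have hf : ∀ b ∈ (Finset.univ : Finset U).image (fun a : U => F (a : G)),
          ((Finset.univ : Finset U).filter fun a : U => F (a : G) = b).card = 11 := by
        intro b hb
        obtain ⟨a₀, -, rfl⟩ := Finset.mem_image.1 hb
        rw [← Fintype.card_subtype, ← Nat.card_eq_fintype_card,
          show (11 : ℕ) = Nat.card (zpowers r) by rw [Nat.card_zpowers, L.r_order]]
        exact Nat.card_congr
          { toFun := fun a => ⟨(a₀ : G)⁻¹ * a.1.1, QuotientGroup.eq.1 a.2.symm⟩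
            invFun := fun c => ⟨⟨(a₀ : G) * c.1, mul_mem a₀.2 (zpowers_le.2 hU.mem c.2)⟩,
              (QuotientGroup.eq.2 (by simp)).symm⟩
            left_inv := fun a => Subtype.ext (Subtype.ext (by simp))
            right_inv := fun c => Subtype.ext (by simp) }
      have h := Finset.card_eq_sum_card_image (fun a : U => F (a : G)) Finset.univ
      rw [Finset.sum_congr rfl hf, Finset.sum_const, smul_eq_mul, Finset.card_univ,
        ← Nat.card_eq_fintype_card, hU.card] at h
      omega
    obtain ⟨b₀, hb₀⟩ := Finset.card_pos.1 (by omega : 0 < B.card)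
    have hs := Finset.card_eq_sum_card_fiberwise (f := F) (s := O2) (t := B) hmap
    rw [Finset.sum_congr rfl fun b hb => le_antisymm (hfib b hb b₀ hb₀) (hfib b₀ hb₀ b hb), Finset.sum_const,
      smul_eq_mul, hBc] at hs
    refine ⟨⟨_, hs⟩, ?_⟩
    have hle : O2.card ≤ (((Finset.univ : Finset U).filter fun a : U => (a : G) ∉ zpowers r).image
        fun a : U => (a : G)).card := Finset.card_le_card fun a ha => by
      obtain ⟨h1, h2⟩ := Finset.mem_filter.1 ha
      exact Finset.mem_image.2 ⟨⟨a, hmemO a h1⟩, Finset.mem_filter.2 ⟨Finset.mem_univ _, h2⟩, rfl⟩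
    refine hle.trans (Finset.card_image_le.trans ?_)
    have e1 : ((Finset.univ : Finset U).filter fun a : U => (a : G) ∈ zpowers r).card = 11 := by
      rw [← Fintype.card_subtype, ← Nat.card_eq_fintype_card,
        show (11 : ℕ) = Nat.card (zpowers r) by rw [Nat.card_zpowers, L.r_order]]
      exact Nat.card_congr
        { toFun := fun a => ⟨a.1.1, a.2⟩
          invFun := fun c => ⟨⟨c.1, zpowers_le.2 hU.mem c.2⟩, c.2⟩
          left_inv := fun _ => rfl
          right_inv := fun _ => rfl }
    have e2 := Finset.card_filter_add_card_filter_not (s := (Finset.univ : Finset U))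
      (fun a : U => (a : G) ∈ zpowers r)
    rw [Finset.card_univ, ← Nat.card_eq_fintype_card, hU.card] at e2
    omega
  have hdvd : Nat.card K ∣ LargePrime.ordJ := L.facts.card ▸ card_subgroup_dvd_card _
  obtain ⟨⟨m, hm⟩, hle⟩ := hO2
  have hm11 : m ≤ 11 := by omega
  rw [hcardO, ← hO12, hO1, hm] at hdvd
  have hm03 : m = 0 ∨ m = 3 := by
    interval_cases m <;> first | exact Or.inl rfl | exact Or.inr rfl | (norm_num [LargePrime.ordJ] at hdvd)
  have hm0 : m = 0 := by
    rcases hm03 with h | h
    · exact h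
    exfalso
    subst h
    have : Fact (Nat.Prime 37) := ⟨by norm_num⟩
    have h37 : 37 ∣ Nat.card K := by
      rw [hcardO, ← hO12, hO1, hm]; norm_num
    obtain ⟨⟨x, hx⟩, hxo⟩ := exists_prime_orderOf_dvd_card' (G := K) 37 h37
    rw [orderOf_mk] at hxo
    have hc := LargePrime.commute_of_normalizes hxo U hx (fun d hd hd1 => by
      rw [hU.card, show (1331 : ℕ) = 11 ^ 3 by norm_num] at hd
      obtain ⟨j, hj, rfl⟩ := (Nat.dvd_prime_pow (by norm_num)).1 hd
      interval_cases j <;> first | (norm_num at hd1; done) | norm_num) (by rw [hU.card]; norm_num) r hU.mem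
    have h := LargePrime.orderOf_dvd_centralizer hc
    rw [L.r_order, L.big 37 (by simp [LargePrime.bigList]) x hxo] at h
    norm_num at h
  intro k hk
  have hkO : k * r * k⁻¹ ∈ O := Finset.mem_image.2 ⟨⟨k, hk⟩, Finset.mem_univ _, rfl⟩
  have hin : k * r * k⁻¹ ∈ zpowers r := by
    by_contra hno
    have hpos : 0 < O2.card := Finset.card_pos.2 ⟨_, Finset.mem_filter.2 ⟨hkO, hno⟩⟩
    omega
  have hset : (zpowers r).map (MulAut.conj k).toMonoidHom = zpowers r := by
    refine eq_of_le_of_card_ge ?_ (by rw [card_map_of_injective (MulAut.conj k).injective])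
    rw [MonoidHom.map_zpowers]
    exact zpowers_le.2 hin
  refine mem_normalizer_iff.2 fun a => ⟨fun ha => ?_, fun ha => ?_⟩
  · rw [← hset]; exact ⟨a, ha, rfl⟩
  · rw [← hset] at ha
    obtain ⟨b, hb, e⟩ := ha
    rwa [show a = b from ((MulAut.conj k).injective e).symm]

end Cfsg.Agent.J4Type.Eleven
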