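import Cfsg.Agent.J4Type.Eleven.Data

/-!
# The orbits and the stabilizers of the normalizer, on the coordinates and on their dual
-/

set_option autoImplicit false

open scoped Matrix

namespace Cfsg.Agent.J4Type.Eleven

universe u

variable {G : Type u} [Group G] [Finite G] (D : Data G)

/-- A unit whose square is one. -/
theorem unit_sq (x : (ZMod 11)ˣ) (h : x ^ 2 = 1) : x = 1 ∨ x = -1 := by
  revert h
  revert x
  decide

/-- `-1` is not a square. -/
theorem unit_sq_ne (x : (ZMod 11)ˣ) : x ^ 2 ≠ -1 := by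
  revert x
  decide

theorem coord_card : Nat.card Coord = 1331 := by
  rw [Nat.card_eq_fintype_card]
  simp [Coord]

/-- The kernel of `chi`. -/
theorem Data.card_chi_fiber (c : (ZMod 11)ˣ) : Nat.card {n : D.N // D.chi n = c} = 31944 := by
  obtain ⟨m, hm⟩ := D.chi_surj c
  have e : {n : D.N // D.chi n = c} ≃ D.chi.ker :=
    { toFun := fun n => ⟨m⁻¹ * n.1, by simp [MonoidHom.mem_ker, n.2, hm]⟩
      invFun := fun k => ⟨m * k.1, by
        have := MonoidHom.mem_ker.1 k.2
        simp [this, hm]⟩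
      left_inv := fun n => Subtype.ext (by simp)
      right_inv := fun k => Subtype.ext (by simp) }
  rw [Nat.card_congr e]
  have h1 := D.chi.ker.card_mul_index
  rw [Subgroup.index_ker, MonoidHom.range_eq_top.2 D.chi_surj, Subgroup.card_top, D.cardN,
    Nat.card_eq_fintype_card (α := (ZMod 11)ˣ), show Fintype.card (ZMod 11)ˣ = 10 from rfl] at h1
  omega

/-- The stabilizer of a vector of the plane. -/
def Data.stab (v : Fin 2 → ZMod 11) : Subgroup D.N where
  carrier := {n | D.mat n *ᵥ v = v}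
  one_mem' := by
    show D.mat 1 *ᵥ v = v
    rw [map_one, Matrix.one_mulVec]
  mul_mem' := fun {a b} ha hb => by
    show D.mat (a * b) *ᵥ v = v
    rw [map_mul, ← Matrix.mulVec_mulVec, hb, ha]
  inv_mem' := fun {a} ha => by
    show D.mat a⁻¹ *ᵥ v = v
    conv_lhs => rw [← (ha : D.mat a *ᵥ v = v)]
    rw [Matrix.mulVec_mulVec, ← map_mul, inv_mul_cancel, map_one, Matrix.one_mulVec]

/-- The fibres of the orbit map all have the order of the stabilizer. -/
theorem Data.card_move {v v' : Fin 2 → ZMod 11} (hv : v ≠ 0) (hv' : v' ≠ 0) :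
    Nat.card {n : D.N // D.mat n *ᵥ v = v'} = Nat.card (D.stab v) := by
  obtain ⟨m, hm⟩ := D.transitive v v' hv hv'
  have hm' : D.mat m⁻¹ *ᵥ v' = v := by
    rw [← hm, Matrix.mulVec_mulVec, ← map_mul, inv_mul_cancel, map_one, Matrix.one_mulVec]
  exact Nat.card_congr
    { toFun := fun n => ⟨m⁻¹ * n.1, by
        show D.mat (m⁻¹ * n.1) *ᵥ v = v
        rw [map_mul, ← Matrix.mulVec_mulVec, n.2, hm']⟩
      invFun := fun k => ⟨m * k.1, by
        rw [map_mul, ← Matrix.mulVec_mulVec]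
        exact (congrArg (D.mat m *ᵥ ·) k.2).trans hm⟩
      left_inv := fun n => Subtype.ext (by simp)
      right_inv := fun k => Subtype.ext (by simp) }

theorem mulVec_ne_zero (n : D.N) {v : Fin 2 → ZMod 11} (hv : v ≠ 0) : D.mat n *ᵥ v ≠ 0 := by
  intro h
  refine hv ?_
  calc v = D.mat n⁻¹ *ᵥ (D.mat n *ᵥ v) := by
        rw [Matrix.mulVec_mulVec, ← map_mul, inv_mul_cancel, map_one, Matrix.one_mulVec]
    _ = 0 := by rw [h, Matrix.mulVec_zero]

theorem vecMul_ne_zero (n : D.N) {l : Fin 2 → ZMod 11} (hl : l ≠ 0) : l ᵥ* D.mat n ≠ 0 := by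
  intro h
  refine hl ?_
  calc l = (l ᵥ* D.mat n) ᵥ* D.mat n⁻¹ := by
        rw [Matrix.vecMul_vecMul, ← map_mul, mul_inv_cancel, map_one, Matrix.vecMul_one]
    _ = 0 := by rw [h, Matrix.zero_vecMul]

theorem card_nonzero : Nat.card {v : Fin 2 → ZMod 11 // v ≠ 0} = 120 := by
  rw [Nat.card_eq_fintype_card, Fintype.card_subtype_compl]
  simp

theorem Data.card_stab {v : Fin 2 → ZMod 11} (hv : v ≠ 0) : Nat.card (D.stab v) = 2662 := by
  have e : (D.N : Type u) ≃ Σ v' : {v' : Fin 2 → ZMod 11 // v' ≠ 0},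
      {n : D.N // D.mat n *ᵥ v = v'.1} :=
    { toFun := fun n => ⟨⟨_, mulVec_ne_zero D n hv⟩, n, rfl⟩
      invFun := fun p => p.2.1
      left_inv := fun _ => rfl
      right_inv := by
        rintro ⟨⟨v', h'⟩, n, hn⟩
        change D.mat n *ᵥ v = v' at hn
        subst hn
        rfl }
  have h := Nat.card_congr e
  rw [Nat.card_sigma, Finset.sum_congr rfl fun x _ => D.card_move hv x.2, Finset.sum_const,
    Finset.card_univ, ← Nat.card_eq_fintype_card, card_nonzero, D.cardN, smul_eq_mul] at h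
  omega

theorem Data.card_el : Nat.card {n : D.N // ∃ u, (n : G) = D.el u} = 1331 := by
  rw [← coord_card]
  refine (Nat.card_congr (Equiv.ofBijective
    (fun u => (⟨⟨D.el u, D.el_mem u⟩, u, rfl⟩ : {n : D.N // ∃ u, (n : G) = D.el u})) ⟨?_, ?_⟩)).symm
  · intro a b h
    exact D.el_inj (congrArg (fun x => ((x.1 : D.N) : G)) h)
  · rintro ⟨n, u, hu⟩
    exact ⟨u, Subtype.ext (Subtype.ext hu.symm)⟩

theorem Data.exists_el {n : D.N} {v : Fin 2 → ZMod 11} (hv : v ≠ 0) (h1 : D.chi n = 1)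
    (h2 : D.mat n *ᵥ v = v) : ∃ u, (n : G) = D.el u := by
  obtain ⟨w, hw⟩ := D.free n v hv h1 h2
  exact ⟨Multiplicative.toAdd w, hw⟩

/-- On a stabilizer `chi` takes exactly the values `±1`. -/
theorem Data.stab_chi {v : Fin 2 → ZMod 11} (hv : v ≠ 0) :
    (∀ n ∈ D.stab v, D.chi n = 1 ∨ D.chi n = -1) ∧ ∃ n ∈ D.stab v, D.chi n = -1 := by
  set f : D.stab v →* (ZMod 11)ˣ := D.chi.comp (D.stab v).subtype with hf
  have hker : Nat.card f.ker = 1331 := by
    rw [← D.card_el]
    exact Nat.card_congr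
      { toFun := fun k => ⟨k.1.1, D.exists_el hv k.2 k.1.2⟩
        invFun := fun n => ⟨⟨n.1, by
            obtain ⟨u, hu⟩ := n.2
            have : n.1 = ⟨D.el u, D.el_mem u⟩ := Subtype.ext hu
            show D.mat n.1 *ᵥ v = v
            rw [this, D.mat_el, Matrix.one_mulVec]⟩, by
            obtain ⟨u, hu⟩ := n.2
            have : n.1 = ⟨D.el u, D.el_mem u⟩ := Subtype.ext hu
            show D.chi n.1 = 1
            rw [this, D.chi_el]⟩
        left_inv := fun k => rfl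
        right_inv := fun n => rfl }
  have h := f.ker.card_mul_index
  rw [Subgroup.index_ker, hker, D.card_stab hv] at h
  have hr : Nat.card f.range = 2 := by omega
  have hval : ∀ x ∈ f.range, x = 1 ∨ x = -1 := by
    intro x hx
    refine unit_sq x ?_
    have := pow_card_eq_one' (x := (⟨x, hx⟩ : f.range))
    rw [hr] at this
    exact congrArg Subtype.val this
  refine ⟨fun n hn => hval _ ⟨⟨n, hn⟩, rfl⟩, ?_⟩
  have hne : f.range ≠ ⊥ := fun hb => by rw [hb, Subgroup.card_bot] at hr; omega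
  obtain ⟨⟨x, hx⟩, hx1⟩ := Subgroup.ne_bot_iff_exists_ne_one.1 hne
  obtain ⟨n, hn⟩ := hx
  refine ⟨n.1, n.2, ?_⟩
  rcases hval x ⟨n, hn⟩ with rfl | rfl
  · exact absurd (Subtype.ext rfl) hx1
  · exact hn

/-- For each vector some element negates it and the first coordinate. -/
theorem Data.exists_neg {v : Fin 2 → ZMod 11} (hv : v ≠ 0) :
    ∃ n : D.N, D.chi n = -1 ∧ D.mat n *ᵥ v = -v := by
  obtain ⟨m, hm⟩ := D.transitive v (-v) hv (neg_ne_zero.2 hv)
  obtain ⟨hval, k, hk, hk1⟩ := D.stab_chi hv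
  have h2 : m * m ∈ D.stab v := by
    show D.mat (m * m) *ᵥ v = v
    rw [map_mul, ← Matrix.mulVec_mulVec, hm, Matrix.mulVec_neg, hm, neg_neg]
  have hsq : D.chi m ^ 2 = 1 := by
    rcases hval _ h2 with h | h <;> rw [map_mul, ← sq] at h
    · exact h
    · exact absurd h (unit_sq_ne _)
  rcases unit_sq _ hsq with h | h
  · refine ⟨m * k, by rw [map_mul, h, hk1, one_mul], ?_⟩
    rw [map_mul, ← Matrix.mulVec_mulVec, (hk : D.mat k *ᵥ v = v), hm]
  · exact ⟨m, h, hm⟩

/-- A fixed covector gives a fixed vector. -/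
theorem exists_fixed_of_vecMul {M : Matrix (Fin 2) (Fin 2) (ZMod 11)} {l : Fin 2 → ZMod 11}
    [Fact (Nat.Prime 11)] (hl : l ≠ 0) (h : l ᵥ* M = l) : ∃ v, v ≠ 0 ∧ M *ᵥ v = v := by
  have hd : (M - 1).det = 0 := Matrix.exists_vecMul_eq_zero_iff.1
    ⟨l, hl, by rw [Matrix.vecMul_sub, h, Matrix.vecMul_one, sub_self]⟩
  obtain ⟨v, hv, hv'⟩ := Matrix.exists_mulVec_eq_zero_iff.2 hd
  exact ⟨v, hv, by rwa [Matrix.sub_mulVec, Matrix.one_mulVec, sub_eq_zero] at hv'⟩

/-- The dual stabilizer of a chosen covector, and its orbit. -/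
theorem Data.exists_covector [Fact (Nat.Prime 11)] : ∃ l : Fin 2 → ZMod 11, l ≠ 0 ∧
    (∀ n : D.N, l ᵥ* D.mat n = l → D.chi n = 1 ∨ D.chi n = -1) ∧
    (∀ c : (ZMod 11)ˣ, c = 1 ∨ c = -1 →
      Nat.card {n : D.N // D.chi n = c ∧ l ᵥ* D.mat n = l} = 1331) ∧
    ∀ l' : Fin 2 → ZMod 11, l' ≠ 0 → ∃ n : D.N, l ᵥ* D.mat n = l' := by
  have hv0 : (![1, 0] : Fin 2 → ZMod 11) ≠ 0 := fun h => by
    have := congrFun h 0
    simp at this
  obtain ⟨-, k, hk, hk1⟩ := D.stab_chi hv0
  have hd : (D.mat k - 1).det = 0 := Matrix.exists_mulVec_eq_zero_iff.1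
    ⟨_, hv0, by rw [Matrix.sub_mulVec, Matrix.one_mulVec, (hk : D.mat k *ᵥ _ = _), sub_self]⟩
  obtain ⟨l, hl, hl'⟩ := Matrix.exists_vecMul_eq_zero_iff.2 hd
  rw [Matrix.vecMul_sub, Matrix.vecMul_one, sub_eq_zero] at hl'
  have hpm : ∀ n : D.N, l ᵥ* D.mat n = l → D.chi n = 1 ∨ D.chi n = -1 := fun n hn => by
    obtain ⟨v, hv, hv'⟩ := exists_fixed_of_vecMul hl hn
    exact (D.stab_chi hv).1 n hv'
  have hone : Nat.card {n : D.N // D.chi n = 1 ∧ l ᵥ* D.mat n = l} = 1331 := by
    rw [← D.card_el]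
    refine Nat.card_congr (Equiv.subtypeEquivRight fun n => ⟨fun h => ?_, fun ⟨u, hu⟩ => ?_⟩)
    · obtain ⟨v, hv, hv'⟩ := exists_fixed_of_vecMul hl h.2
      exact D.exists_el hv h.1 hv'
    · have : n = ⟨D.el u, D.el_mem u⟩ := Subtype.ext hu
      rw [this]
      exact ⟨D.chi_el u, by rw [D.mat_el, Matrix.vecMul_one]⟩
  have hmove : ∀ (c : (ZMod 11)ˣ) (m : D.N), l ᵥ* D.mat m = l → D.chi m = c →
      Nat.card {n : D.N // D.chi n = c ∧ l ᵥ* D.mat n = l} = 1331 := by
    intro c m hm hc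
    have hm' : l ᵥ* D.mat m⁻¹ = l := by
      conv_lhs => rw [← hm]
      rw [Matrix.vecMul_vecMul, ← map_mul, mul_inv_cancel, map_one, Matrix.vecMul_one]
    rw [← hone]
    exact Nat.card_congr
      { toFun := fun n => ⟨m⁻¹ * n.1, by rw [map_mul, map_inv, n.2.1, hc, inv_mul_cancel],
          by rw [map_mul, ← Matrix.vecMul_vecMul, hm', n.2.2]⟩
        invFun := fun n => ⟨m * n.1, by rw [map_mul, n.2.1, hc, mul_one],
          by rw [map_mul, ← Matrix.vecMul_vecMul, hm, n.2.2]⟩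
        left_inv := fun n => Subtype.ext (by simp)
        right_inv := fun n => Subtype.ext (by simp) }
  have hboth : ∀ c : (ZMod 11)ˣ, c = 1 ∨ c = -1 →
      Nat.card {n : D.N // D.chi n = c ∧ l ᵥ* D.mat n = l} = 1331 := by
    rintro c (rfl | rfl)
    · exact hone
    · exact hmove _ k hl' hk1
  refine ⟨l, hl, hpm, hboth, ?_⟩
  have hT : Nat.card {n : D.N // l ᵥ* D.mat n = l} ≤ 2662 := by
    classical
    have hsub : Nat.card {n : D.N // l ᵥ* D.mat n = l} =
        Nat.card ({n : D.N // D.chi n = 1 ∧ l ᵥ* D.mat n = l} ⊕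
          {n : D.N // D.chi n = -1 ∧ l ᵥ* D.mat n = l}) :=
      Nat.card_congr
        ((Equiv.subtypeEquivRight fun n => ⟨fun h => (hpm n h).imp (⟨·, h⟩) (⟨·, h⟩),
          fun h => h.elim And.right And.right⟩).trans
          (subtypeOrEquiv _ _ (by
            rw [Pi.disjoint_iff]
            intro n
            rw [Prop.disjoint_iff]
            simp only [not_and, and_imp]
            intro h1 _ h2
            exact absurd (h1.symm.trans h2) (by decide))))
    rw [hsub, Nat.card_sum, hboth 1 (Or.inl rfl), hboth (-1) (Or.inr rfl)]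
  intro l' hl''
  by_contra hno
  push Not at hno
  have hfib : ∀ a : Fin 2 → ZMod 11, Nat.card {n : D.N // l ᵥ* D.mat n = a} ≤ 2662 := by
    intro a
    by_cases hex : ∃ m : D.N, l ᵥ* D.mat m = a
    · obtain ⟨m, hm⟩ := hex
      have e : {n : D.N // l ᵥ* D.mat n = a} ≃ {n : D.N // l ᵥ* D.mat n = l} :=
        { toFun := fun n => ⟨n.1 * m⁻¹, by
            rw [map_mul, ← Matrix.vecMul_vecMul, n.2, ← hm, Matrix.vecMul_vecMul, ← map_mul,
              mul_inv_cancel, map_one, Matrix.vecMul_one]⟩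
          invFun := fun n => ⟨n.1 * m, by rw [map_mul, ← Matrix.vecMul_vecMul, n.2, hm]⟩
          left_inv := fun n => Subtype.ext (by simp)
          right_inv := fun n => Subtype.ext (by simp) }
      rw [Nat.card_congr e]
      exact hT
    · have : IsEmpty {n : D.N // l ᵥ* D.mat n = a} := ⟨fun n => hex ⟨n.1, n.2⟩⟩
      rw [Nat.card_of_isEmpty]
      omega
  classical
  have := Fintype.ofFinite D.N
  have h2 : (Finset.univ.image fun n : D.N => l ᵥ* D.mat n) ⊆
      ((Finset.univ : Finset (Fin 2 → ZMod 11)).erase 0).erase l' := by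
    intro a ha
    obtain ⟨n, -, rfl⟩ := Finset.mem_image.1 ha
    simp only [Finset.mem_erase, Finset.mem_univ, and_true]
    exact ⟨hno n, vecMul_ne_zero D n hl⟩
  have h3 : Fintype.card D.N ≤ (Finset.univ.image fun n : D.N => l ᵥ* D.mat n).card * 2662 := by
    refine (Finset.card_le_mul_card_image (Finset.univ : Finset D.N) 2662 fun a _ => ?_).trans
      (le_of_eq (mul_comm _ _))
    exact le_trans (le_of_eq (by rw [Nat.card_eq_fintype_card, Fintype.card_subtype])) (hfib a)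
  have h4 := Finset.card_le_card h2
  rw [Finset.card_erase_of_mem (Finset.mem_erase.2 ⟨hl'', Finset.mem_univ _⟩),
    Finset.card_erase_of_mem (Finset.mem_univ _)] at h4
  simp only [Finset.card_univ, Fintype.card_fun, ZMod.card, Fintype.card_fin] at h4
  rw [← Nat.card_eq_fintype_card, D.cardN] at h3
  omega

end Cfsg.Agent.J4Type.Eleven
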